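import Cfsg.Agent.DGroup.Basic
import Cfsg.Agent.ZStar.Final
import Cfsg.Agent.NormCyclic.Dihedral
import Cfsg.Agent.Solvable.Basics
import Cfsg.Agent.OddEnd.FourteenFinal
import Mathlib.GroupTheory.Transfer

/-!
# Normal 2-complements and involution fusion in `DHyp` groups
-/

set_option autoImplicit false
set_option linter.style.haveILetI false
set_option linter.unusedSectionVars false

namespace CfsgLib.DGroup

open Subgroup
open CfsgLib.NormCyclic (Inv)

universe u

variable {G : Type u} [Group G] [Finite G]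

/-- The odd core as a subgroup of `G`. -/
def coreIn (H : Subgroup G) : Subgroup G := (Cfsg.oddCore H).map H.subtype

theorem coreIn_le (H : Subgroup G) : coreIn H ≤ H := map_subtype_le _

theorem odd_oddCore (K : Type u) [Group K] [Finite K] : Odd (Nat.card (Cfsg.oddCore K)) :=
  Nat.coprime_two_right.1 (CfsgLib.Solvable.coprime_card_pPrimeCore (G := K) 2)

theorem normal_oddCore (K : Type u) [Group K] [Finite K] : (Cfsg.oddCore K).Normal :=
  (CfsgLib.Solvable.pPrimeCore_spec (G := K) 2).1

theorem odd_coreIn (H : Subgroup G) : Odd (Nat.card (coreIn H)) := by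
  rw [coreIn, card_map_of_injective H.subtype_injective]; exact odd_oddCore H

theorem le_oddCore {K : Type u} [Group K] [Finite K] {N : Subgroup K} (hn : N.Normal)
    (hN : Odd (Nat.card N)) : N ≤ Cfsg.oddCore K :=
  CfsgLib.Solvable.le_pPrimeCore 2 hn (Nat.coprime_two_right.2 hN)

theorem normalizer_coreIn (H : Subgroup G) : H ≤ normalizer (coreIn H : Set G) := by
  haveI := normal_oddCore H
  intro g hg
  refine mem_normalizer_iff.2 fun x => ⟨?_, ?_⟩
  · rintro ⟨y, hy, rfl⟩
    exact ⟨⟨g, hg⟩ * y * ⟨g, hg⟩⁻¹, (normal_oddCore H).conj_mem y hy _, rfl⟩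
  · rintro ⟨y, hy, he⟩
    refine ⟨⟨g, hg⟩⁻¹ * y * ⟨g, hg⟩, (normal_oddCore H).conj_mem' y hy _, ?_⟩
    show g⁻¹ * (y : G) * g = x
    rw [show (y : G) = g * x * g⁻¹ from he]; group

theorem le_coreIn {H N : Subgroup G} (hNH : N ≤ H) (hn : H ≤ normalizer (N : Set G))
    (hN : Odd (Nat.card N)) : N ≤ coreIn H := by
  haveI : (N.subgroupOf H).Normal := (normal_subgroupOf_iff_le_normalizer hNH).2 hn
  rw [coreIn, ← map_subgroupOf_eq_of_le hNH]
  refine map_mono (le_oddCore inferInstance ?_)
  rwa [Nat.card_congr (subgroupOfEquivOfLe hNH).toEquiv]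

/-- Odd subgroups are solvable. -/
theorem solvable_of_odd (K : Subgroup G) (h : Odd (Nat.card K)) : Group.IsSolvable K :=
  CfsgLib.OddEnd.odd_solvable K h

/-- A group with a normal 2-complement is solvable. -/
theorem solvable_of_odd_mem (R : Subgroup G) [R.Normal] (hR : Odd (Nat.card R))
    (h : ∀ y : G, Odd (orderOf y) → y ∈ R) : Group.IsSolvable G := by
  haveI := solvable_of_odd R hR
  haveI : Fact (Nat.Prime 2) := ⟨Nat.prime_two⟩
  have hp : IsPGroup 2 (G ⧸ R) := by
    intro x
    obtain ⟨g, rfl⟩ := QuotientGroup.mk_surjective x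
    obtain ⟨k, m, hm, he⟩ := Nat.exists_eq_two_pow_mul_odd (orderOf_pos g).ne'
    refine ⟨k, ?_⟩
    rw [← QuotientGroup.mk_pow, QuotientGroup.eq_one_iff]
    refine h _ ?_
    rw [orderOf_pow, he, Nat.gcd_eq_right (dvd_mul_right _ _),
      Nat.mul_div_cancel_left _ (by positivity)]
    exact hm
  haveI := hp.isNilpotent
  exact (Group.isSolvable_iff_subgroup_quotient R).2 ⟨inferInstance, inferInstance⟩

/-- Burnside: a Sylow 2-subgroup central in its normaliser gives a normal 2-complement. -/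
theorem exists_compl_of_burnside (P : Sylow 2 G)
    (hP : normalizer ((P : Subgroup G) : Set G) ≤ centralizer ((P : Subgroup G) : Set G)) :
    ∃ R : Subgroup G, R.Normal ∧ Odd (Nat.card R) ∧ ∀ y : G, Odd (orderOf y) → y ∈ R := by
  haveI : Fact (Nat.Prime 2) := ⟨Nat.prime_two⟩
  refine ⟨(MonoidHom.transferSylow P hP).ker, inferInstance,
    Nat.not_even_iff_odd.1 fun h => MonoidHom.not_dvd_card_ker_transferSylow P hP
      (even_iff_two_dvd.1 h), fun y hy => ?_⟩
  rw [MonoidHom.mem_ker]
  obtain ⟨k, hk⟩ := IsPGroup.iff_orderOf.1 P.2 (MonoidHom.transferSylow P hP y)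
  have h1 := orderOf_map_dvd (MonoidHom.transferSylow P hP) y
  rw [hk] at h1
  rcases k with _ | k
  · exact orderOf_eq_one_iff.1 (by rw [hk, pow_zero])
  · exact absurd ((dvd_pow_self 2 k.succ_ne_zero).trans h1) (by
      rw [← even_iff_two_dvd]; exact Nat.not_even_iff_odd.2 hy)

/-- A cyclic Sylow 2-subgroup gives a normal 2-complement. -/
theorem exists_compl_of_cyclic (P : Sylow 2 G) (hP : IsCyclic (P : Subgroup G)) :
    ∃ R : Subgroup G, R.Normal ∧ Odd (Nat.card R) ∧ ∀ y : G, Odd (orderOf y) → y ∈ R := by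
  by_cases h : Even (Nat.card G)
  · exact exists_compl_of_burnside P
      (hP.normalizer_le_centralizer ((Nat.minFac_eq_two_iff _).2 (even_iff_two_dvd.1 h)))
  · exact ⟨⊤, inferInstance, by rw [Subgroup.card_top]; exact Nat.not_even_iff_odd.1 h,
      fun y _ => mem_top y⟩

namespace DHyp

variable (hG : DHyp G)
include hG

/-- In the centraliser of an element of odd order, all elements of odd order lie in the core. -/
theorem mem_coreIn_cent {x y : G} (hx : Odd (orderOf x)) (hx1 : x ≠ 1) (hy : Odd (orderOf y))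
    (hxy : Commute y x) : y ∈ coreIn (centralizer ({x} : Set G)) := by
  haveI : Fact (Nat.Prime 2) := ⟨Nat.prime_two⟩
  set C := centralizer ({x} : Set G) with hC
  have hmem : ∀ {g : G}, g ∈ C → Commute g x := fun h => mem_centralizer_singleton_iff.1 h
  obtain ⟨P⟩ : Nonempty (Sylow 2 C) := inferInstance
  have hcyc : IsCyclic (P : Subgroup C) := by
    by_cases hb : (P : Subgroup C) = ⊥
    · rw [hb]; infer_instance
    haveI : Nontrivial (P : Subgroup C) := (nontrivial_iff_ne_bot _).2 hb
    obtain ⟨k, hk⟩ := IsPGroup.iff_card.1 P.2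
    haveI := P.2.center_nontrivial
    obtain ⟨z, hz⟩ := exists_prime_orderOf_dvd_card' (G := center (P : Subgroup C)) 2 (by
      obtain ⟨j, hj⟩ := IsPGroup.iff_card.1 (P.2.to_subgroup (center (P : Subgroup C)))
      rw [hj]
      rcases j with _ | j
      · exact absurd hj (by rw [pow_zero]; exact ne_of_gt Finite.one_lt_card)
      · exact dvd_pow_self 2 j.succ_ne_zero)
    set v : G := (((z : (P : Subgroup C)) : C) : G) with hv
    have hvI : Inv v := Inv.of_orderOf (by
      rw [hv, Subgroup.orderOf_coe, Subgroup.orderOf_coe, Subgroup.orderOf_coe, hz])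
    obtain ⟨A, hA⟩ := hG v hvI
    have hcomm : ∀ g : (P : Subgroup C), Commute ((g : C) : G) v := fun g =>
      congrArg (fun a : (P : Subgroup C) => ((a : C) : G)) (mem_center_iff.1 z.2 g)
    have hvx : Commute v x := hmem ((z : (P : Subgroup C)) : C).2
    have huniq : ∀ g : (P : Subgroup C), ((g : C) : G) * ((g : C) : G) = 1 → ((g : C) : G) ≠ 1 →
        ((g : C) : G) = v := fun g h1 h2 => by
      by_contra hne
      exact hx1 (hG.four_free hvI ⟨h1, h2⟩ (hcomm g) hne hx hvx.symm (hmem (g : C).2).symm)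
    have hPA : ∀ g : (P : Subgroup C), ((g : C) : G) ∈ A := fun g => by
      by_contra h
      have h1 := hA.out _ (hcomm g) h
      have h2 : ((g : C) : G) ≠ 1 := fun e => h (e ▸ one_mem _)
      exact h (huniq g h1 h2 ▸ hA.mem)
    have := CfsgLib.NormCyclic.isCyclic_of_two_roots (A := (P : Subgroup C).map C.subtype)
      (P.2.map _) (by rintro _ ⟨a, ha, rfl⟩ _ ⟨b, hb, rfl⟩
                      exact hA.comm _ (hPA ⟨a, ha⟩) _ (hPA ⟨b, hb⟩)) (z := v) (by
        rintro _ ⟨a, ha, rfl⟩ h
        exact or_iff_not_imp_left.2 fun h1 => huniq ⟨a, ha⟩ h h1)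
    exact ((P : Subgroup C).equivMapOfInjective C.subtype C.subtype_injective).isCyclic.2 this
  obtain ⟨R, hRn, hR, hall⟩ := exists_compl_of_cyclic P hcyc
  have hyC : y ∈ C := mem_centralizer_singleton_iff.2 hxy.eq
  exact ⟨⟨y, hyC⟩, le_oddCore hRn hR (hall _ (by rwa [Subgroup.orderOf_mk])), rfl⟩

omit hG in
/-- With trivial core, an involution not fused in its centraliser is central. -/
theorem central_of_isolated (hO : Cfsg.oddCore G = ⊥) {v : G} (hv : Inv v)
    (h : ∀ g : G, Commute v (g * v * g⁻¹) → g * v * g⁻¹ = v) : ∀ g : G, Commute g v := by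
  obtain ⟨N, hN, hodd, hc⟩ := CfsgLib.ZStar.zstar (a := v) ⟨hv.orderOf, h⟩
  intro g
  have h1 := le_oddCore hN hodd (hc g)
  rw [hO, mem_bot, mul_inv_eq_one, mul_inv_eq_iff_eq_mul] at h1
  exact h1.symm

end DHyp

end CfsgLib.DGroup
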