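import Cfsg.Agent.DGroup.Hyp
import Cfsg.Agent.NormCyclic.PSLAut
import Mathlib.FieldTheory.Finite.Basic

/-!
# `DHyp` groups between `PSL(2, q)` and its automorphism group
-/

set_option autoImplicit false
set_option linter.style.haveILetI false
set_option linter.unusedSectionVars false
set_option linter.unusedSimpArgs false
set_option linter.unusedTactic false
set_option linter.unreachableTactic false

namespace CfsgLib.DGroup.PGLAut

open CfsgLib.AutPSL
open CfsgLib.NormCyclic (Inv)
open CfsgLib.NormCyclic.PSLAut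
open scoped Matrix

/-- An element of the centraliser of an involution normalises the cyclic groups through it. -/
theorem conj_zpowers_mem {K : Type*} [Group K] (hK : DHyp K) {t x c : K} (ht : Inv t)
    (htx : t ∈ Subgroup.zpowers x) (hc : Commute c t) : c * x * c⁻¹ ∈ Subgroup.zpowers x := by
  obtain ⟨A, hA⟩ := hK t ht
  obtain ⟨i, hi⟩ := Subgroup.mem_zpowers_iff.1 htx
  have hxt : Commute x t := hi ▸ (Commute.refl x).zpow_right i
  by_cases h : x * x = 1
  · have hxt' : t = x := by
      obtain ⟨k, hk | hk⟩ := Int.even_or_odd' i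
      · refine absurd ?_ ht.2
        rw [← hi, hk, zpow_mul, zpow_two, h, one_zpow]
      · rw [← hi, hk, zpow_add_one, zpow_mul, zpow_two, h, one_zpow, one_mul]
    rw [← hxt', hc.eq, mul_inv_cancel_right]
    exact Subgroup.mem_zpowers t
  · rcases hA.conj_zpowers hc (hA.mem_of_sq_ne hxt h) with e | e <;> rw [e]
    exacts [Subgroup.mem_zpowers x, inv_mem (Subgroup.mem_zpowers x)]

variable {F : Type} [Field F] [Finite F] {H : Subgroup (MulAut (P F))}

/-- In characteristic two the field has at most four elements. -/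
theorem card_le_four (hH : DHyp ↥H) (hinn : ∀ s, inn s ∈ H) (h2 : (2 : F) = 0) :
    Nat.card F ≤ 4 := by
  classical
  haveI : Fintype F := Fintype.ofFinite F
  set I : Matrix.SpecialLinearGroup (Fin 2) F →* ↥H := inn.codRestrict H hinn with hI
  have inj : ∀ a b : F, I (up a) = I (up b) → a = b := by
    intro a b e
    obtain ⟨c, hc⟩ := inn_eq (congrArg Subtype.val e)
    have h00 := congrFun (congrFun hc 0) 0
    have h01 := congrFun (congrFun hc 0) 1
    simp [coe_up] at h00 h01
    rw [← h00, one_mul] at h01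
    exact h01
  have hinv : ∀ a : F, a ≠ 0 → Inv (I (up a)) := fun a ha => by
    refine ⟨?_, fun e => ha ?_⟩
    · rw [← map_mul, up_add, show a + a = (2 : F) * a by ring, h2, zero_mul]
      convert map_one I
      apply Subtype.ext; simp [up, Matrix.one_fin_two]
    · refine inj a 0 (e.trans ?_)
      symm; convert map_one I
      apply Subtype.ext; simp [up, Matrix.one_fin_two]
  have hcomm : ∀ a b : F, Commute (I (up a)) (I (up b)) := fun a b => by
    show I (up a) * I (up b) = I (up b) * I (up a)
    rw [← map_mul, ← map_mul, up_add, up_add, add_comm]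
  by_contra hgt
  push Not at hgt
  rw [Nat.card_eq_fintype_card] at hgt
  obtain ⟨b, hb0, hb1⟩ : ∃ b : F, b ≠ 0 ∧ b ≠ 1 := by
    by_contra h; push Not at h
    have : Fintype.card F ≤ 2 := by
      rw [← Finset.card_univ]
      refine le_trans (Finset.card_le_card (t := ({0, 1} : Finset F)) fun x _ => ?_) Finset.card_le_two
      by_cases hx : x = 0
      · simp [hx]
      · simp [h x hx]
    omega
  have hall : ∀ c : F, c = 0 ∨ c = 1 ∨ c = b ∨ c = 1 + b := fun c => or_iff_not_imp_left.2 fun hc => by
    rcases hH.no_eight (hinv 1 one_ne_zero) (hinv b hb0) (hinv c hc) (hcomm 1 b) (hcomm 1 c)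
      (hcomm b c) (fun e => hb1 (inj _ _ e).symm) with e | e | e
    · exact Or.inl (inj _ _ e)
    · exact Or.inr (Or.inl (inj _ _ e))
    · exact Or.inr (Or.inr (inj _ _ (e.trans (by rw [← map_mul, up_add]))))
  have : Fintype.card F ≤ 4 := by
    rw [← Finset.card_univ]
    refine le_trans (Finset.card_le_card (t := ({0, 1, b, 1 + b} : Finset F)) fun x _ => ?_)
      Finset.card_le_four
    simpa using hall x
  omega

/-- An automorphism of prime order fixing the prime field pointwise is excluded. -/
theorem no_field (hH : DHyp ↥H) (hinn : ∀ s, inn s ∈ H) (hodd : (2 : F) ≠ 0) {σ : F ≃+* F}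
    (hσ : σ ≠ 1) {ℓ : ℕ} (hℓ : ℓ.Prime) (hσℓ : σ ^ ℓ = 1)
    (hφ : semiAut (1 : GL (Fin 2) F) σ ∈ H) : False := by
  haveI : Fintype F := Fintype.ofFinite F
  set φ : ↥H := ⟨semiAut 1 σ, hφ⟩ with hφd
  have hpow : ∀ n : ℕ, (semiAut (1 : GL (Fin 2) F) σ) ^ n = semiAut 1 (σ ^ n) := by
    intro n
    induction n with
    | zero => rw [pow_zero, pow_zero]; exact semiAut_one.symm
    | succ n ih => rw [pow_succ', ih, semiAut_mul, map_one, mul_one, pow_succ']; rfl
  have hφℓ : φ ^ ℓ = 1 := Subtype.ext (by
    rw [SubgroupClass.coe_pow]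
    show (semiAut (1 : GL (Fin 2) F) σ) ^ ℓ = 1
    rw [hpow, hσℓ]; exact semiAut_one)
  have hφ1 : φ ≠ 1 := fun e => hσ (semiAut_eq_one le_rfl (congrArg Subtype.val e : semiAut 1 σ = 1)).1
  set I : Matrix.SpecialLinearGroup (Fin 2) F →* ↥H := inn.codRestrict H hinn with hI
  have hcomm : ∀ s : Matrix.SpecialLinearGroup (Fin 2) F,
      (s : Matrix (Fin 2) (Fin 2) F).map σ = (s : Matrix (Fin 2) (Fin 2) F) → Commute (I s) φ :=
    fun s hs => Subtype.ext (comm_field_inn hs).symm.eq
  have hscal : ∀ s : Matrix.SpecialLinearGroup (Fin 2) F,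
      (s : Matrix (Fin 2) (Fin 2) F) = (-1 : F) • 1 → I s = 1 := fun s hs => Subtype.ext (by
    show inn s = 1
    rw [inn_apply]
    exact semiAut_scalar (c := -1) hs)
  have hne : ∀ s : Matrix.SpecialLinearGroup (Fin 2) F, φ ≠ I s := fun s e => hσ
    (semiAut_eq_semiAut le_rfl (((congrArg Subtype.val e : semiAut 1 σ = inn s)).trans (inn_apply s))).1
  -- `-1` is a sum of two squares fixed by `σ`
  obtain ⟨a, b, hab, haσ, hbσ⟩ : ∃ a b : F, a * a + b * b = -1 ∧ σ a = a ∧ σ b = b := by
    haveI : CharP F (ringChar F) := ringChar.charP F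
    haveI : NeZero (ringChar F) := ⟨CharP.ringChar_ne_zero_of_finite F⟩
    obtain ⟨a, b, h⟩ := CharP.sq_add_sq F (ringChar F) (-1)
    refine ⟨a, b, ?_, map_natCast σ a, map_natCast σ b⟩
    push_cast at h
    linear_combination h
  let m : Matrix.SpecialLinearGroup (Fin 2) F :=
    ⟨!![a, b; b, -a], by rw [Matrix.det_fin_two_of]; linear_combination -hab⟩
  have hm : (m : Matrix (Fin 2) (Fin 2) F) = !![a, b; b, -a] := rfl
  have hwfix : ((wy : Matrix.SpecialLinearGroup (Fin 2) F) : Matrix (Fin 2) (Fin 2) F).map σ =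
      ((wy : Matrix.SpecialLinearGroup (Fin 2) F) : Matrix (Fin 2) (Fin 2) F) := by
    ext i j; fin_cases i <;> fin_cases j <;> simp [wy]
  have hmfix : (m : Matrix (Fin 2) (Fin 2) F).map σ = (m : Matrix (Fin 2) (Fin 2) F) := by
    ext i j; fin_cases i <;> fin_cases j <;> simp [hm, haσ, hbσ]
  have hwI : Inv (I wy) := by
    refine ⟨?_, fun e => ?_⟩
    · rw [← map_mul]
      refine hscal _ ?_
      rw [Matrix.SpecialLinearGroup.coe_mul, coe_wy]
      ext i j; fin_cases i <;> fin_cases j <;> simp [Matrix.mul_fin_two]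
    · rw [← map_one I] at e
      obtain ⟨c, hc⟩ := inn_eq (congrArg Subtype.val e)
      have := congrFun (congrFun hc 0) 1
      simp [coe_wy] at this
  have hmI : Inv (I m) := by
    refine ⟨?_, fun e => ?_⟩
    · rw [← map_mul]
      refine hscal _ ?_
      rw [Matrix.SpecialLinearGroup.coe_mul, hm]
      ext i j; fin_cases i <;> fin_cases j <;>
        simp [Matrix.mul_fin_two] <;> first | ring1 | linear_combination hab | linear_combination -hab
    · rw [← map_one I] at e
      obtain ⟨c, hc⟩ := inn_eq (congrArg Subtype.val e)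
      have h00 := congrFun (congrFun hc 0) 0
      have h01 := congrFun (congrFun hc 0) 1
      have h11 := congrFun (congrFun hc 1) 1
      simp [hm] at h00 h01 h11
      have ha : a = 0 := by
        have : (2 : F) * a = 0 := by linear_combination h00 - h11
        exact (mul_eq_zero.1 this).resolve_left hodd
      rw [ha, h01] at hab
      exact one_ne_zero (α := F) (by linear_combination hab)
  have hwm : Commute (I wy) (I m) := by
    rw [commute_iff_eq, ← mul_inv_eq_one, mul_inv_rev, ← map_inv I, ← map_inv I, ← map_mul,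
      ← map_mul, ← map_mul]
    refine hscal _ ?_
    simp only [Matrix.SpecialLinearGroup.coe_mul, Matrix.SpecialLinearGroup.coe_inv, coe_wy, hm,
      Matrix.adjugate_fin_two_of]
    ext i j; fin_cases i <;> fin_cases j <;>
      simp [Matrix.mul_fin_two] <;> first | ring1 | linear_combination hab | linear_combination -hab
  have hdist : I m ≠ I wy := fun e => by
    obtain ⟨c, hc⟩ := inn_eq (congrArg Subtype.val e)
    have h00 := congrFun (congrFun hc 0) 0
    have h01 := congrFun (congrFun hc 0) 1
    have h10 := congrFun (congrFun hc 1) 0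
    simp [hm, coe_wy] at h00 h01 h10
    have hb : b = 0 := by
      have : (2 : F) * b = 0 := by linear_combination h01 + h10
      exact (mul_eq_zero.1 this).resolve_left hodd
    rw [h00, hb] at hab
    exact one_ne_zero (α := F) (by linear_combination hab)
  rcases hℓ.eq_two_or_odd' with hℓ2 | hℓodd
  · subst hℓ2
    rcases hH.no_eight hwI hmI ⟨by rw [← pow_two, hφℓ], hφ1⟩ hwm (hcomm wy hwfix) (hcomm m hmfix)
      hdist.symm with e | e | e
    · exact hne _ e
    · exact hne _ e
    · exact hne _ (e.trans (map_mul I wy m).symm)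
  · exact hφ1 (hH.four_free hwI hmI hwm.symm hdist (hℓodd.of_dvd_nat (orderOf_dvd_of_pow_eq_one hφℓ))
      (hcomm wy hwfix).symm (hcomm m hmfix).symm)

/-- In odd characteristic such a group has no field automorphisms. -/
theorem le_innDiag (hH : DHyp ↥H) (hinn : ∀ s, inn s ∈ H) (hodd2 : (2 : F) ≠ 0) :
    H ≤ (innDiagHom 2 F).range := by
  classical
  haveI : Fintype F := Fintype.ofFinite F
  obtain ⟨ν, hν⟩ := IsCyclic.exists_generator (α := Fˣ)
  have hor : ∀ x : Fˣ, IsSquare x ∨ IsSquare (x * ν) := by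
    intro x
    obtain ⟨i, rfl⟩ := Subgroup.mem_zpowers_iff.1 (hν x)
    obtain ⟨k, hk | hk⟩ := Int.even_or_odd' i
    · exact Or.inl ⟨ν ^ k, by rw [← zpow_add, hk, two_mul]⟩
    · exact Or.inr ⟨ν ^ (k + 1), by rw [← zpow_add, ← zpow_add_one, hk]; ring_nf⟩
  have hsq : ∀ x y : Fˣ, ¬ IsSquare x → ¬ IsSquare y → IsSquare (x * y⁻¹) := by
    intro x y hx hy
    have := ((hor x).resolve_left hx).mul ((hor y).resolve_left hy).inv
    rwa [mul_inv_rev, mul_assoc, mul_inv_cancel_left] at this
  -- determinant square gives an inner automorphism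
  have hin : ∀ g : GL (Fin 2) F, IsSquare (Matrix.GeneralLinearGroup.det g) →
      innDiagHom 2 F g ∈ (inn : Matrix.SpecialLinearGroup (Fin 2) F →* _).range := by
    rintro g ⟨c, hc⟩
    refine ⟨⟨((c⁻¹ : Fˣ) : F) • (g : Matrix (Fin 2) (Fin 2) F), ?_⟩, ?_⟩
    · rw [Matrix.det_smul, Fintype.card_fin, ← Units.val_pow_eq_pow_val,
        ← Matrix.GeneralLinearGroup.val_det_apply, hc, ← Units.val_mul, pow_two,
        show c⁻¹ * c⁻¹ * (c * c) = 1 by group]
      rfl
    · rw [← mul_inv_eq_one]
      show innDiagHom 2 F _ * (innDiagHom 2 F g)⁻¹ = 1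
      rw [← map_inv, ← map_mul, innDiagHom_apply]
      refine semiAut_scalar (c := ((c⁻¹ : Fˣ) : F)) ?_
      rw [Units.val_mul]
      show ((c⁻¹ : Fˣ) : F) • (g : Matrix (Fin 2) (Fin 2) F) * _ = _
      rw [Matrix.smul_mul, ← Units.val_mul, mul_inv_cancel, Units.val_one]
  have hinH : ∀ g : GL (Fin 2) F, IsSquare (Matrix.GeneralLinearGroup.det g) →
      innDiagHom 2 F g ∈ H := fun g hg => by
    obtain ⟨s, hs⟩ := hin g hg
    exact hs ▸ hinn s
  have hall : ∀ g₀ : GL (Fin 2) F, ¬ IsSquare (Matrix.GeneralLinearGroup.det g₀) →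
      innDiagHom 2 F g₀ ∈ H → ∀ g, innDiagHom 2 F g ∈ H := by
    intro g₀ h0 h0H g
    by_cases hg : IsSquare (Matrix.GeneralLinearGroup.det g)
    · exact hinH g hg
    · have : innDiagHom 2 F (g * g₀⁻¹) ∈ H := hinH _ (by rw [map_mul, map_inv]; exact hsq _ _ hg h0)
      have h := mul_mem this h0H
      rwa [← map_mul, inv_mul_cancel_right] at h
  -- no field automorphisms
  have hnofield : ∀ (g : GL (Fin 2) F) (σ : F ≃+* F), semiAut g σ ∈ H → σ = 1 := by
    intro g₁ τ hτH
    by_contra hτ
    obtain ⟨ℓ, hℓ, hdvd⟩ := Nat.exists_prime_and_dvd (mt orderOf_eq_one_iff.1 hτ)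
    obtain ⟨g, hg, -⟩ := semiAut_pow g₁ τ (orderOf τ / ℓ)
    set σ := τ ^ (orderOf τ / ℓ) with hσd
    have hσH : semiAut g σ ∈ H := hg ▸ pow_mem hτH _
    have hσ : σ ≠ 1 := fun e => by
      have h := Nat.le_of_dvd ?_ (orderOf_dvd_of_pow_eq_one e)
      · exact absurd h (not_le.2 (Nat.div_lt_self (orderOf_pos τ) hℓ.one_lt))
      · exact Nat.div_pos (Nat.le_of_dvd (orderOf_pos τ) hdvd) hℓ.pos
    have hσℓ : σ ^ ℓ = 1 := by
      rw [hσd, ← pow_mul, Nat.div_mul_cancel hdvd, pow_orderOf_eq_one]
    have hpure : innDiagHom 2 F g ∈ H → False := fun hgH => by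
      refine no_field hH hinn hodd2 hσ hℓ hσℓ ?_
      have h := mul_mem (inv_mem hgH) hσH
      rw [← map_inv, innDiagHom_apply, semiAut_mul, glMap_refl, inv_mul_cancel] at h
      exact h
    by_cases hgsq : IsSquare (Matrix.GeneralLinearGroup.det g)
    · exact hpure (hinH g hgsq)
    rcases hℓ.eq_two_or_odd' with hℓ2 | hℓodd
    swap
    · -- a power is a non-inner diagonal automorphism
      obtain ⟨g', hg', hχ⟩ := semiAut_pow g σ ℓ
      rw [hσℓ] at hg'
      have hg'H : innDiagHom 2 F g' ∈ H := by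
        rw [innDiagHom_apply]; exact hg' ▸ pow_mem hσH ℓ
      refine hpure (hall g' (fun hs => ?_) hg'H g)
      let χ : Fˣ →* Multiplicative (ZMod 2) :=
        { toFun := fun x => if IsSquare x then 1 else Multiplicative.ofAdd 1
          map_one' := if_pos IsSquare.one
          map_mul' := fun x y => by
            by_cases hx : IsSquare x <;> by_cases hy : IsSquare y
            · simp [hx, hy, hx.mul hy]
            · have : ¬ IsSquare (x * y) := fun h => hy (by
                have := hx.inv.mul h; rwa [inv_mul_cancel_left] at this)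
              simp [hx, hy, this]
            · have : ¬ IsSquare (x * y) := fun h => hx (by
                have := h.mul hy.inv; rwa [mul_inv_cancel_right] at this)
              simp [hx, hy, this]
            · have hy' : ¬ IsSquare y⁻¹ := fun h => hy (inv_inv y ▸ h.inv)
              have := hsq x y⁻¹ hx hy'
              rw [inv_inv] at this
              simp only [hx, hy, this, if_true, if_false]
              decide }
      have h := hχ (Or.inr trivial) χ (fun x => by
        show (if _ then _ else _) = (if _ then _ else _)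
        simp only [isSquare_map σ])
      have e1 : χ (Matrix.GeneralLinearGroup.det g') = 1 := if_pos hs
      have e2 : χ (Matrix.GeneralLinearGroup.det g) = Multiplicative.ofAdd 1 := if_neg hgsq
      rw [e1, e2] at h
      obtain ⟨k, rfl⟩ := hℓodd
      rw [pow_succ, pow_mul, show (Multiplicative.ofAdd (1 : ZMod 2)) ^ 2 = 1 by decide, one_pow,
        one_mul] at h
      exact absurd h (by decide)
    subst hℓ2
    have hσσ : ∀ x, σ (σ x) = x := fun x => by
      have := RingEquiv.congr_fun hσℓ x
      rwa [pow_two] at this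
    have hnu : ¬ IsSquare ν := fun hνs => hgsq <| by
      rcases hor (Matrix.GeneralLinearGroup.det g) with h | h
      · exact h
      · have := h.mul hνs.inv; rwa [mul_inv_cancel_right] at this
    have hodd : (2 : F) ≠ 0 := by
      intro h2
      refine hnu ?_
      have hinj : Function.Injective (fun x : Fˣ => x * x) := fun x y e => Units.ext (by
        have e' : (x : F) * x = y * y := congrArg Units.val e
        have : ((x : F) - y) * ((x : F) - y) = 0 := by
          linear_combination e' + ((y : F) * y - x * y) * h2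
        rcases mul_eq_zero.1 this with h | h <;> exact sub_eq_zero.1 h)
      obtain ⟨x, hx⟩ := Finite.injective_iff_surjective.1 hinj ν
      exact ⟨x, hx.symm⟩
    set σu := Units.map (σ : F →* F) with hσu
    set N : Fˣ := ν * σu ν with hN
    have hNsq : IsSquare N := by
      have := hsq ν (σu ν)⁻¹ hnu (fun h => hnu ((isSquare_map σ).1 (inv_inv (σu ν) ▸ h.inv)))
      rwa [inv_inv] at this
    have hNfix : σu N = N := by
      rw [hN, map_mul, show σu (σu ν) = ν from Units.ext (hσσ ν), mul_comm]
    -- the twisted element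
    have heH : semiAut (dg ν) σ ∈ H := by
      have h1 : innDiagHom 2 F (dg ν * g⁻¹) ∈ H := hinH _ (by
        rw [map_mul, map_inv, det_dg]; exact hsq _ _ hnu hgsq)
      have h := mul_mem h1 hσH
      rwa [innDiagHom_apply, semiAut_mul, glMap_refl, inv_mul_cancel_right] at h
    set e : ↥H := ⟨semiAut (dg ν) σ, heH⟩ with he
    have hee : ((e * e : ↥H) : MulAut (P F)) = innDiagHom 2 F (dg N) := by
      show semiAut (dg ν) σ * semiAut (dg ν) σ = _
      rw [semiAut_mul, glMap_dg, ← map_mul, innDiagHom_apply,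
        show σ.trans σ = RingEquiv.refl F from RingEquiv.ext hσσ]
    have heej : ∀ j : ℤ, (((e * e) ^ j : ↥H) : MulAut (P F)) = innDiagHom 2 F (dg (N ^ j)) := fun j => by
      rw [SubgroupClass.coe_zpow, hee, map_zpow, map_zpow]
    -- `-1` is a power of `N`
    obtain ⟨j₀, hj₀⟩ : ∃ j : ℤ, N ^ j = -1 := by
      rcases Nat.even_or_odd (orderOf N) with ⟨m, hm⟩ | ⟨m, hm⟩
      · refine ⟨m, ?_⟩
        have hm0 : 0 < m := by have := orderOf_pos N; omega
        have h1 : (N ^ m) * (N ^ m) = 1 := by rw [← pow_add, ← hm, pow_orderOf_eq_one]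
        have h2 : N ^ m ≠ 1 := fun h => by
          have := Nat.le_of_dvd hm0 (orderOf_dvd_of_pow_eq_one h); omega
        rw [zpow_natCast]
        have h1' : ((N ^ m : Fˣ) : F) * (N ^ m : Fˣ) = 1 := congrArg Units.val h1
        rcases mul_self_eq_one_iff.1 h1' with h | h
        · exact absurd (Units.ext h) h2
        · exact Units.ext h
      · exfalso
        refine hnu ?_
        have hx : σ ((N ^ m * ν : Fˣ) : F) * (N ^ m * ν : Fˣ) = 1 := by
          have h1 : σu (N ^ m * ν) * (N ^ m * ν) = 1 := by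
            rw [map_mul, map_pow, hNfix, mul_mul_mul_comm, ← pow_add, mul_comm (σu ν), ← hN,
              ← pow_succ, show m + m + 1 = 2 * m + 1 by ring, ← hm, pow_orderOf_eq_one]
          exact congrArg Units.val h1
        have := ((hNsq.pow m).inv).mul (isSquare_of_norm_one hodd hσ hσσ hsq hx)
        rwa [inv_mul_cancel_left] at this
    set t : ↥H := (e * e) ^ j₀ with ht
    have htv : (t : MulAut (P F)) = innDiagHom 2 F (dg (-1)) := by rw [ht, heej, hj₀]
    have htinv : Inv t := by
      refine ⟨Subtype.ext ?_, fun h => ?_⟩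
      · rw [Subgroup.coe_mul, htv, ← map_mul, ← map_mul, neg_one_mul, neg_neg, map_one, map_one]
        rfl
      · have h' : innDiagHom 2 F (dg (-1)) = innDiagHom 2 F 1 := by
          rw [← htv, h, map_one]; rfl
        obtain ⟨c, hc⟩ := innDiag_eq h'
        have h00 := congrFun (congrFun hc 0) 0
        have h11 := congrFun (congrFun hc 1) 1
        simp [dg] at h00 h11
        rw [← h11] at h00
        exact hodd (by linear_combination -h00)
    have htmem : t ∈ Subgroup.zpowers e :=
      Subgroup.zpow_mem _ (mul_mem (Subgroup.mem_zpowers e) (Subgroup.mem_zpowers e)) _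
    set w : ↥H := ⟨inn wy, hinn wy⟩ with hw
    have hwt : Commute w t := Subtype.ext (by
      show inn wy * (t : MulAut (P F)) = (t : MulAut (P F)) * inn wy
      rw [htv, inn, MonoidHom.comp_apply, ← map_mul, ← map_mul, ← mul_inv_eq_one, ← map_inv,
        ← map_mul]
      refine semiAut_scalar (c := -1) ?_
      rw [Units.val_mul]
      refine (Units.mul_inv_eq_iff_eq_mul _).2 ?_
      rw [Units.val_mul, coe_toGL_wy, coe_dg]
      ext i j; fin_cases i <;> fin_cases j <;> simp [Matrix.mul_fin_two, coe_toGL_wy, coe_wy, coe_dg])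
    obtain ⟨i, hi⟩ := Subgroup.mem_zpowers_iff.1 (conj_zpowers_mem hH htinv htmem hwt)
    have hi' : semiAut (Matrix.SpecialLinearGroup.toGL wy * dg ν) σ =
        ((e ^ i : ↥H) : MulAut (P F)) * inn wy := by
      rw [hi]
      show _ = inn wy * semiAut (dg ν) σ * (inn wy)⁻¹ * inn wy
      rw [inv_mul_cancel_right, inn_apply, semiAut_mul, glMap_refl]
      rfl
    obtain ⟨k, hk | hk⟩ := Int.even_or_odd' i
    · rw [hk, zpow_mul, zpow_two, heej, innDiagHom_apply, inn_apply, semiAut_mul] at hi'
      exact hσ (semiAut_eq_semiAut le_rfl hi').1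
    · rw [hk, zpow_add_one, zpow_mul, zpow_two, Subgroup.coe_mul, heej, innDiagHom_apply, inn_apply,
        he, semiAut_mul, semiAut_mul, glMap_refl, ← map_mul] at hi'
      obtain ⟨c, hc⟩ := innDiag_eq (semiAut_eq_semiAut le_rfl hi').2
      have h01 := congrFun (congrFun hc 0) 1
      have h10 := congrFun (congrFun hc 1) 0
      rw [Units.val_mul, Units.val_mul, coe_glMap, coe_toGL_wy, coe_dg, coe_dg,
        (show ∀ τ : F ≃+* F, (!![0, 1; -1, 0] : Matrix (Fin 2) (Fin 2) F).map τ = !![0, 1; -1, 0] by
          intro τ; ext i j; fin_cases i <;> fin_cases j <;> simp) _] at h01 h10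
      simp [Matrix.mul_fin_two] at h01 h10
      rw [← h10] at h01
      have hνν : σu (ν * ν) = ν * ν := by
        have e1 : ν * ν = (N ^ k)⁻¹ := by
          refine eq_inv_of_mul_eq_one_right (Units.ext ?_)
          simp only [Units.val_mul, Units.val_one, Units.val_zpow_eq_zpow_val]
          linear_combination -h01
        rw [e1, map_inv, map_zpow, hNfix]
      refine hσ (RingEquiv.ext fun y => ?_)
      show σ y = y
      have hpm : ∀ y : F, σ y = y ∨ σ y = -y := fun y => by
        by_cases hy : y = 0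
        · left; rw [hy, map_zero]
        obtain ⟨i, hi⟩ := Subgroup.mem_zpowers_iff.1 (hν (Units.mk0 y hy))
        have h : σu (Units.mk0 y hy * Units.mk0 y hy) = Units.mk0 y hy * Units.mk0 y hy := by
          rw [← hi, ← mul_zpow, map_zpow, hνν]
        have h' : σ (y * y) = y * y := congrArg Units.val h
        rw [map_mul] at h'
        exact mul_self_eq_mul_self_iff.1 h'
      rcases hpm y with h | h
      · exact h
      rcases hpm (y + 1) with h' | h'
      all_goals rw [map_add, map_one, h] at h'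
      · have hy : y = 0 := by
          have : (2 : F) * y = 0 := by linear_combination -h'
          exact (mul_eq_zero.1 this).resolve_left hodd
        rw [hy, map_zero]
      · exact absurd (by linear_combination h' : (2 : F) = 0) hodd
  intro β hβ
  obtain ⟨g, σ, rfl⟩ := exists_semi_two β
  obtain rfl := hnofield g σ hβ
  exact ⟨g, rfl⟩

/-- Commuting automorphisms of `PSL(2, q)` lift to commuting matrices unless one of them is an
involution. -/
theorem lift_commute (hodd : (2 : F) ≠ 0) {g h : GL (Fin 2) F}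
    (hg : innDiagHom 2 F g * innDiagHom 2 F g ≠ 1) (hc : Commute (innDiagHom 2 F g) (innDiagHom 2 F h)) :
    (g : Matrix (Fin 2) (Fin 2) F) * h = (h : Matrix (Fin 2) (Fin 2) F) * g := by
  obtain ⟨c, hc'⟩ := innDiag_eq (g := g * h) (h := h * g) (by rw [map_mul, map_mul]; exact hc.eq)
  simp only [Units.val_mul] at hc'
  have hdh : (h : Matrix (Fin 2) (Fin 2) F).det ≠ 0 := (Matrix.GeneralLinearGroup.det h).ne_zero
  have hdg : (g : Matrix (Fin 2) (Fin 2) F).det ≠ 0 := (Matrix.GeneralLinearGroup.det g).ne_zero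
  have hdet := congrArg Matrix.det hc'
  rw [Matrix.det_smul, Fintype.card_fin, Matrix.det_mul, Matrix.det_mul] at hdet
  have hcc : c * c = 1 := by
    refine mul_right_cancel₀ (mul_ne_zero hdh hdg) ?_
    rw [one_mul]; linear_combination -hdet
  rcases mul_self_eq_one_iff.1 hcc with rfl | rfl
  · rwa [one_smul] at hc'
  exfalso
  -- the trace of `g` vanishes, so `g²` is a scalar
  rw [Matrix.det_fin_two] at hdh
  generalize hA : (g : Matrix (Fin 2) (Fin 2) F) = A at hc'
  generalize hB : (h : Matrix (Fin 2) (Fin 2) F) = B at hc' hdh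
  have e00 := congrFun (congrFun hc' 0) 0
  have e01 := congrFun (congrFun hc' 0) 1
  have e10 := congrFun (congrFun hc' 1) 0
  have e11 := congrFun (congrFun hc' 1) 1
  simp [Matrix.mul_apply, Fin.sum_univ_two] at e00 e01 e10 e11
  have htr : A 0 0 + A 1 1 = 0 := by
    have h2 : (2 : F) * ((A 0 0 + A 1 1) * (B 0 0 * B 1 1 - B 0 1 * B 1 0)) = 0 := by
      linear_combination B 1 1 * e00 - B 1 0 * e01 - B 0 1 * e10 + B 0 0 * e11
    exact (mul_eq_zero.1 ((mul_eq_zero.1 h2).resolve_left hodd)).resolve_right hdh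
  refine hg ?_
  rw [← map_mul, innDiagHom_apply]
  refine semiAut_scalar (c := -(A 0 0 * A 1 1 - A 0 1 * A 1 0)) ?_
  rw [Units.val_mul, hA]
  ext i j; fin_cases i <;> fin_cases j <;>
    simp [Matrix.mul_apply, Fin.sum_univ_two]
  · linear_combination A 0 0 * htr
  · linear_combination A 0 1 * htr
  · linear_combination A 1 0 * htr
  · linear_combination A 1 1 * htr

/-- The matrices commuting with a non-scalar `2 × 2` matrix commute with each other. -/
theorem matrix_comm {A B C : Matrix (Fin 2) (Fin 2) F}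
    (hA : A 0 1 ≠ 0 ∨ A 1 0 ≠ 0 ∨ A 0 0 - A 1 1 ≠ 0) (hB : A * B = B * A) (hC : A * C = C * A) :
    B * C = C * B := by
  have b00 := congrFun (congrFun hB 0) 0
  have b01 := congrFun (congrFun hB 0) 1
  have b10 := congrFun (congrFun hB 1) 0
  have c00 := congrFun (congrFun hC 0) 0
  have c01 := congrFun (congrFun hC 0) 1
  have c10 := congrFun (congrFun hC 1) 0
  simp [Matrix.mul_apply, Fin.sum_univ_two] at b00 b01 b10 c00 c01 c10
  have key : B 0 1 * C 1 0 - C 0 1 * B 1 0 = 0 ∧
      C 0 1 * (B 0 0 - B 1 1) - B 0 1 * (C 0 0 - C 1 1) = 0 ∧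
      B 1 0 * (C 0 0 - C 1 1) - C 1 0 * (B 0 0 - B 1 1) = 0 := by
    have cancel : ∀ {a k : F}, a ≠ 0 → a * k = 0 → k = 0 := fun ha h =>
      (mul_eq_zero.1 h).resolve_left ha
    rcases hA with h | h | h
    · have k2 : C 0 1 * (B 0 0 - B 1 1) - B 0 1 * (C 0 0 - C 1 1) = 0 := cancel h (by
        linear_combination B 0 1 * c01 - C 0 1 * b01)
      exact ⟨cancel h (by linear_combination B 0 1 * c00 - C 0 1 * b00), k2, cancel h (by
        linear_combination (C 0 0 - C 1 1) * b00 - (B 0 0 - B 1 1) * c00 - A 1 0 * k2)⟩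
    · have k3 : B 1 0 * (C 0 0 - C 1 1) - C 1 0 * (B 0 0 - B 1 1) = 0 := cancel h (by
        linear_combination B 1 0 * c10 - C 1 0 * b10)
      exact ⟨cancel h (by linear_combination B 1 0 * c00 - C 1 0 * b00), cancel h (by
        linear_combination (C 0 0 - C 1 1) * b00 - (B 0 0 - B 1 1) * c00 - A 0 1 * k3), k3⟩
    · have k3 : B 1 0 * (C 0 0 - C 1 1) - C 1 0 * (B 0 0 - B 1 1) = 0 := cancel h (by
        linear_combination (B 0 0 - B 1 1) * c10 - (C 0 0 - C 1 1) * b10)
      exact ⟨cancel h (by linear_combination C 1 0 * b01 - B 1 0 * c01 - A 0 1 * k3), cancel h (by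
        linear_combination (B 0 0 - B 1 1) * c01 - (C 0 0 - C 1 1) * b01), k3⟩
  obtain ⟨k1, k2, k3⟩ := key
  ext i j; fin_cases i <;> fin_cases j <;> simp [Matrix.mul_apply, Fin.sum_univ_two]
  · linear_combination k1
  · linear_combination k2
  · linear_combination k3
  · linear_combination -k1

/-- Two automorphisms in `PGL(2, q)` commuting with one that is not an involution commute. -/
theorem commute_trans (hodd : (2 : F) ≠ 0) {x y z : MulAut (P F)}
    (hx : x ∈ (innDiagHom 2 F).range) (hy : y ∈ (innDiagHom 2 F).range)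
    (hz : z ∈ (innDiagHom 2 F).range) (hxx : x * x ≠ 1) (hxy : Commute x y) (hxz : Commute x z) :
    Commute y z := by
  obtain ⟨g, rfl⟩ := hx
  obtain ⟨h, rfl⟩ := hy
  obtain ⟨k, rfl⟩ := hz
  have h1 := lift_commute hodd hxx hxy
  have h2 := lift_commute hodd hxx hxz
  have hA : (g : Matrix (Fin 2) (Fin 2) F) 0 1 ≠ 0 ∨ (g : Matrix (Fin 2) (Fin 2) F) 1 0 ≠ 0 ∨
      (g : Matrix (Fin 2) (Fin 2) F) 0 0 - (g : Matrix (Fin 2) (Fin 2) F) 1 1 ≠ 0 := by
    by_contra hcon
    push Not at hcon
    obtain ⟨a, b, c⟩ := hcon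
    refine hxx ?_
    have hg : innDiagHom 2 F g = 1 := by
      rw [innDiagHom_apply]
      refine semiAut_scalar (c := (g : Matrix (Fin 2) (Fin 2) F) 0 0) ?_
      ext i j; fin_cases i <;> fin_cases j <;> simp [a, b]
      linear_combination -c
    rw [hg, one_mul]
  show innDiagHom 2 F h * innDiagHom 2 F k = innDiagHom 2 F k * innDiagHom 2 F h
  rw [← map_mul, ← map_mul]
  exact congrArg _ (Units.ext (by rw [Units.val_mul, Units.val_mul]; exact matrix_comm hA h1 h2))

end CfsgLib.DGroup.PGLAut
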