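import Cfsg.Agent.DGroup.Normal
import Cfsg.Agent.DGroup.PGLAut
import Cfsg.Agent.NormCyclic.Main

/-!
# TI for non-simple groups: embedding in `PGL(2, q)`
-/

set_option autoImplicit false
set_option linter.style.haveILetI false
set_option linter.unusedSectionVars false

namespace CfsgLib.DGroup

open Subgroup
open CfsgLib.NormCyclic (Inv)

universe u

variable {G : Type u} [Group G] [Finite G]

/-- The inductive hypothesis. -/
def SmallTI (G : Type u) [Group G] : Prop :=
  ∀ (K : Type u) [Group K] [Finite K], Nat.card K < Nat.card G → DHyp K → Cfsg.oddCore K = ⊥ → TI K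

theorem oddCore_eq_bot_of_simple [IsSimpleGroup G] (hna : ¬ IsMulCommutative G) :
    Cfsg.oddCore G = ⊥ := by
  refine ((normal_oddCore G).eq_bot_or_eq_top).resolve_right fun h => hna ⟨⟨?_⟩⟩
  have hodd := odd_oddCore G
  rw [h, Subgroup.card_top] at hodd
  exact IsSimpleGroup.comm_iff_isSolvable.2 (CfsgLib.OddEnd.odd_solvable G hodd)

/-- A non-simple group inherits TI from its smaller sections. -/
theorem DHyp.ti_of_not_simple (hG : DHyp G) (hO : Cfsg.oddCore G = ⊥) (hns : ¬ Group.IsSolvable G)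
    (hsim : ¬ IsSimpleGroup G) (IH : SmallTI G) : TI G := by
  classical
  haveI : Nontrivial G := not_subsingleton_iff_nontrivial.1 fun h => hns inferInstance
  obtain ⟨M, hMn, hM0, -, hmin⟩ :=
    CfsgLib.Solvable.exists_minimal_normal_le (N := (⊤ : Subgroup G)) top_ne_bot
  haveI := hMn
  have hMna : ¬ IsMulCommutative M := fun h => hM0 (hG.no_solvable_normal hO hns M hMn
    (Group.isSolvable_of_comm fun a b => h.is_comm.comm a b))
  obtain ⟨T, hT⟩ := CfsgLib.ExtPrim.exists_isFactor M hM0 hmin hMna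
  haveI := hT.simple
  obtain ⟨t, htT, ht⟩ := CfsgLib.NormCyclic.exists_inv (fun H h => solvable_of_odd H h) T
    (fun h => hT.nonab ⟨⟨IsSimpleGroup.comm_iff_isSolvable.2 h⟩⟩)
  obtain ⟨A, hA⟩ := hG t ht
  haveI := hA.cent_solvable
  have hcs : ∀ B : Subgroup G, B ≤ centralizer (T : Set G) → Group.IsSolvable B := fun B hB => by
    refine Group.isSolvable_of_isSolvable_injective (inclusion_injective
      (show B ≤ centralizer ({t} : Set G) from hB.trans (centralizer_le ?_)))
    rintro x rfl; exact htT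
  have hoth : CfsgLib.ExtPrim.others T = ⊥ := by
    refine le_bot_iff.1 (iSup₂_le fun g hg => ?_)
    exfalso
    have hs := hcs _ ((CfsgLib.ExtPrim.cj_le_others hg).trans hT.others_comm)
    haveI : IsSimpleGroup (CfsgLib.ExtPrim.cj g T) := by
      exact CfsgLib.MinimalNormal.isSimpleGroup_iff_of_mulEquiv
        (T.equivMapOfInjective (MulAut.conj g).toMonoidHom (MulAut.conj g).injective)
    refine hT.nonab ⟨⟨fun a b =>
      (T.equivMapOfInjective (MulAut.conj g).toMonoidHom (MulAut.conj g).injective).injective ?_⟩⟩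
    rw [map_mul, map_mul]
    exact IsSimpleGroup.comm_iff_isSolvable.2 hs _ _
  have hTM : T = M := by rw [← hT.sup_others, hoth, sup_bot_eq]
  subst hTM
  have hMtop : T ≠ ⊤ := fun h => hsim (by
    haveI := hT.simple
    exact CfsgLib.MinimalNormal.isSimpleGroup_iff_of_mulEquiv
      ((MulEquiv.subgroupCongr h).trans (topEquiv (G := G))))
  have hMc : centralizer (T : Set G) = ⊥ :=
    hG.no_solvable_normal hO hns _ inferInstance (hcs _ le_rfl)
  -- the socle is `PSL(2, F)`
  have hMTI : TI T := IH T (CfsgLib.Solvable.card_lt_of_ne_top hMtop) (hG.subgroup T)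
    (oddCore_eq_bot_of_simple hT.nonab)
  obtain ⟨F₀, iF₀, iFt₀, ⟨e₀⟩⟩ := ((hG.subgroup T).normCyclic hMTI).simple_case hT.nonab
    (z := (⟨t, htT⟩ : T)) ⟨Subtype.ext ht.1, fun h => ht.2 (congrArg Subtype.val h)⟩
  obtain ⟨F, iF, iFt, h3, h4, ⟨e⟩⟩ := CfsgLib.NormCyclic.exists_field_ne_four hT.nonab e₀
  set ι : G →* MulAut (Matrix.ProjectiveSpecialLinearGroup (Fin 2) F) :=
    (MulAut.congr e).toMonoidHom.comp MulAut.conjNormal with hι
  have hιinj : Function.Injective ι := by
    rw [← MonoidHom.ker_eq_bot_iff, eq_bot_iff, ← hMc]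
    intro g hg
    rw [mem_centralizer_iff]
    intro m hm
    have h1 : MulAut.conjNormal (H := T) g = 1 :=
      (MulAut.congr e).injective (by rw [map_one]; exact hg)
    have h2 := congrArg Subtype.val (DFunLike.congr_fun h1 (⟨m, hm⟩ : T))
    rw [MulAut.conjNormal_apply] at h2
    exact (mul_inv_eq_iff_eq_mul.1 h2).symm
  have hconj : ∀ x, MulAut.conj x ∈ ι.range := fun x => by
    refine ⟨(e.symm x : T), MulEquiv.ext fun y => ?_⟩
    show e (MulAut.conjNormal ((e.symm x : T) : G) (e.symm y)) = x * y * x⁻¹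
    rw [show MulAut.conjNormal ((e.symm x : T) : G) (e.symm y) = e.symm x * e.symm y * (e.symm x)⁻¹
      from Subtype.ext (MulAut.conjNormal_apply _ _)]
    simp
  have hinn : ∀ s, CfsgLib.NormCyclic.PSLAut.inn s ∈ ι.range := fun s => by
    rw [CfsgLib.NormCyclic.PSLAut.inn_apply, CfsgLib.AutPSL.semiAut_toGL]; exact hconj _
  have hH : DHyp ι.range := hG.of_mulEquiv (MonoidHom.ofInjective hιinj)
  have hodd : (2 : F) ≠ 0 := fun h2 => by
    have := PGLAut.card_le_four hH hinn h2
    rw [Nat.card_eq_fintype_card] at this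
    omega
  have hle := PGLAut.le_innDiag hH hinn hodd
  intro v x y hv hx hxo hyo hxv hyx
  have hxx : ι x * ι x ≠ 1 := by
    rw [← map_mul, ← map_one ι]
    exact fun e => hx (eq_one_of_sq (hιinj e) hxo)
  have h := PGLAut.commute_trans hodd (hle ⟨x, rfl⟩) (hle ⟨y, rfl⟩) (hle ⟨v, rfl⟩) hxx
    (hyx.symm.map ι) (hxv.map ι)
  exact hιinj (by rw [map_mul, map_mul]; exact h.eq)

end CfsgLib.DGroup
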