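import Cfsg.Agent.DGroup.Piece

/-!
# The `p`-parts of involution centralisers
-/

set_option autoImplicit false
set_option linter.style.haveILetI false
set_option linter.unusedSectionVars false

namespace CfsgLib.DGroup

open Subgroup
open CfsgLib.NormCyclic (Inv)

universe u

variable {G : Type u} [Group G]

/-- The `p`-part of the odd part of the centraliser of `v`. -/
def Qp (v : G) (p : ℕ) : Subgroup G := closure {y | OC v y ∧ ∃ k : ℕ, y ^ p ^ k = 1}

variable [Finite G]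

theorem normalizer_le_normalizer_coreIn (H : Subgroup G) :
    normalizer (H : Set G) ≤ normalizer (coreIn H : Set G) := by
  have key : ∀ g ∈ normalizer (H : Set G),
      (coreIn H).map (MulAut.conj g).toMonoidHom ≤ coreIn H := by
    intro g hg
    refine le_coreIn ?_ (fun h hh => ?_) ?_
    · rintro _ ⟨x, hx, rfl⟩; exact conj_mem hg (coreIn_le H hx)
    · have e : h = g * (g⁻¹ * h * g) * g⁻¹ := by group
      rw [e]
      exact le_normalizer_map (MulAut.conj g).toMonoidHom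
        ⟨g⁻¹ * h * g, normalizer_coreIn H (conj_mem' hg hh), rfl⟩
    · rw [card_map_of_injective (f := (MulAut.conj g).toMonoidHom) (MulAut.conj g).injective]
      exact odd_coreIn H
  intro g hg
  exact mem_normalizer_iff.2 fun x => ⟨fun hx => key g hg ⟨x, hx, rfl⟩, fun hx => by
    have := key g⁻¹ (inv_mem hg) ⟨_, hx, rfl⟩
    simpa [mul_assoc] using this⟩

namespace DHyp

variable (hG : DHyp G)
include hG

theorem mem_Qp {v : G} (hv : Inv v) {p : ℕ} {y : G} :
    y ∈ Qp v p ↔ OC v y ∧ ∃ k : ℕ, y ^ p ^ k = 1 := by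
  refine ⟨fun hy => ?_, fun hy => subset_closure hy⟩
  induction hy using closure_induction with
  | mem x hx => exact hx
  | one => exact ⟨⟨Commute.one_left v, by rw [orderOf_one]; exact odd_one⟩, 0, one_pow _⟩
  | inv x _ ih =>
    exact ⟨⟨ih.1.1.inv_left, by rw [orderOf_inv]; exact ih.1.2⟩, ih.2.choose, by
      rw [inv_pow, ih.2.choose_spec, inv_one]⟩
  | mul x y _ _ ihx ihy =>
    obtain ⟨⟨hx, i, hi⟩, hy, j, hj⟩ := ihx, ihy
    refine ⟨hG.oc_mul hv hx hy, i + j, ?_⟩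
    rw [(hG.oc_commute hv hx hy).mul_pow, pow_add]
    nth_rw 2 [mul_comm]
    rw [pow_mul, pow_mul, hi, hj, one_pow, one_pow, one_mul]

theorem isPGroup_Qp {v : G} (hv : Inv v) (p : ℕ) : IsPGroup p (Qp v p) := by
  rintro ⟨y, hy⟩
  obtain ⟨-, k, hk⟩ := (hG.mem_Qp hv).1 hy
  exact ⟨k, Subtype.ext hk⟩

theorem odd_Qp {v : G} (hv : Inv v) (p : ℕ) : Odd (Nat.card (Qp v p)) := by
  refine Nat.not_even_iff_odd.1 fun he => ?_
  haveI : Fact (Nat.Prime 2) := ⟨Nat.prime_two⟩
  obtain ⟨x, hx⟩ := exists_prime_orderOf_dvd_card' 2 (even_iff_two_dvd.1 he)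
  have h2 := ((hG.mem_Qp hv).1 x.2).1.2
  rw [Subgroup.orderOf_coe, hx] at h2
  exact absurd h2 (by decide)

theorem conj_Qp {v : G} (hv : Inv v) (p : ℕ) (g : G) :
    (Qp v p).map (MulAut.conj g).toMonoidHom = Qp (g * v * g⁻¹) p := by
  ext y
  rw [Subgroup.mem_map_equiv, hG.mem_Qp hv, hG.mem_Qp (hv.conj g), MulAut.conj_symm_apply]
  have ho : orderOf (g⁻¹ * y * g) = orderOf y := by
    rw [show g⁻¹ * y * g = g⁻¹ * y * g⁻¹⁻¹ by group, CfsgLib.Invol.orderOf_conj_eq]
  have hc : Commute (g⁻¹ * y * g) v ↔ Commute y (g * v * g⁻¹) := by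
    rw [← Commute.conj_iff g (a := g⁻¹ * y * g) (b := v),
      show g * (g⁻¹ * y * g) * g⁻¹ = y by group]
  have hp : ∀ n : ℕ, (g⁻¹ * y * g) ^ n = 1 ↔ y ^ n = 1 := fun n => by
    rw [← orderOf_dvd_iff_pow_eq_one, ← orderOf_dvd_iff_pow_eq_one, ho]
  simp only [OC, ho, hc, hp]

theorem card_Qp_eq {v w : G} (hv : Inv v) (h : Fused v w) (p : ℕ) :
    Nat.card (Qp w p) = Nat.card (Qp v p) := by
  obtain ⟨g, rfl⟩ := h
  rw [← hG.conj_Qp hv p g]
  exact card_map_of_injective (f := (MulAut.conj g).toMonoidHom) (MulAut.conj g).injective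

end DHyp

namespace Four

variable (F : Four G)

theorem stab_Qp (hG : DHyp G) {v : G} (hv : F.Mem v) (p : ℕ) : F.Stab (Qp v p) := by
  have : ∀ s, F.Mem s → s ∈ Subgroup.normalizer (Qp v p : Set G) := fun s hs => by
    rw [CfsgLib.Bender.GSide.mem_norm_iff]
    show (Qp v p).map (MulAut.conj s).toMonoidHom = Qp v p
    rw [hG.conj_Qp (Mem.inv F hv), (Mem.commute F hs hv).eq, mul_inv_cancel_right]
  exact ⟨this _ (Or.inl rfl), this _ (Or.inr (Or.inl rfl))⟩

theorem piece_le_Qp {p : ℕ} {P : Subgroup G} (hP : IsPGroup p P) (hPo : Odd (Nat.card P)) (v : G) :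
    piece P v ≤ Qp v p := fun y hy => by
  obtain ⟨hyP, hyv⟩ := mem_piece.1 hy
  obtain ⟨k, hk⟩ := hP ⟨y, hyP⟩
  exact subset_closure ⟨⟨hyv, odd_orderOf hPo hyP⟩, k, congrArg Subtype.val hk⟩

/-- `P` is an invariant `p`-subgroup of odd order. -/
structure PInv (p : ℕ) (P : Subgroup G) : Prop where
  isp : IsPGroup p P
  odd : Odd (Nat.card P)
  stab : F.Stab P

/-- `T` is a maximal invariant `p`-subgroup. -/
def MaxP (p : ℕ) (T : Subgroup G) : Prop := F.PInv p T ∧ ∀ U, F.PInv p U → T ≤ U → U ≤ T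

theorem pinv_Qp (hG : DHyp G) {v : G} (hv : F.Mem v) (p : ℕ) : F.PInv p (Qp v p) :=
  ⟨hG.isPGroup_Qp (Mem.inv F hv) p, hG.odd_Qp (Mem.inv F hv) p, F.stab_Qp hG hv p⟩

theorem exists_maxP {p : ℕ} {P : Subgroup G} (h : F.PInv p P) : ∃ T, P ≤ T ∧ F.MaxP p T := by
  obtain ⟨T, hPT, hT, hmax⟩ := exists_maximal_ge_of_wellFoundedGT (F.PInv p) P h
  exact ⟨T, hPT, hT, fun U hU hTU => hmax hU hTU⟩

/-- The core of the centraliser of an element fixed or inverted by the four group is invariant. -/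
theorem stab_coreIn_cent {z : G} (h1 : F.t * z * F.t⁻¹ = z ∨ F.t * z * F.t⁻¹ = z⁻¹)
    (h2 : F.u * z * F.u⁻¹ = z ∨ F.u * z * F.u⁻¹ = z⁻¹) :
    F.Stab (coreIn (centralizer ({z} : Set G))) := by
  have : ∀ g : G, (g * z * g⁻¹ = z ∨ g * z * g⁻¹ = z⁻¹) →
      g ∈ Subgroup.normalizer (coreIn (centralizer ({z} : Set G)) : Set G) := fun g hg => by
    refine normalizer_le_normalizer_coreIn _ (mem_normalizer_iff.2 fun x => ?_)
    rw [mem_centralizer_singleton_iff, mem_centralizer_singleton_iff]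
    show Commute x z ↔ Commute (g * x * g⁻¹) z
    rcases hg with e | e
    · conv_rhs => rw [← e]
      exact (Commute.conj_iff g).symm
    · rw [← Commute.inv_right_iff (a := g * x * g⁻¹) (b := z), ← e]
      exact (Commute.conj_iff g).symm
  exact ⟨this _ h1, this _ h2⟩

theorem conj_pm (hG : DHyp G) {v z : G} (hv : F.Mem v) (hz : OC v z) {s : G} (hs : F.Mem s) :
    s * z * s⁻¹ = z ∨ s * z * s⁻¹ = z⁻¹ := by
  by_cases h : s = v
  · exact Or.inl (by rw [h, ← hz.1.eq, mul_inv_cancel_right])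
  · exact Or.inr (conj_eq hG (Mem.inv F hv) (Mem.inv F hs) (Mem.commute F hs hv) h hz)

theorem stab_coreIn_cent' (hG : DHyp G) {v z : G} (hv : F.Mem v) (hz : OC v z) :
    F.Stab (coreIn (centralizer ({z} : Set G))) :=
  F.stab_coreIn_cent (F.conj_pm hG hv hz (Or.inl rfl)) (F.conj_pm hG hv hz (Or.inr (Or.inl rfl)))

/-- An element of `N(V)` carries maximal invariant subgroups to maximal ones. -/
theorem MaxP.map {p : ℕ} {T : Subgroup G} (h : F.MaxP p T) {g : G}
    (hg : ∀ s, F.Mem s → F.Mem (g * s * g⁻¹) ∧ F.Mem (g⁻¹ * s * g)) :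
    F.MaxP p (T.map (MulAut.conj g).toMonoidHom) := by
  have key : ∀ (a : G) (U : Subgroup G), (∀ s, F.Mem s → F.Mem (a⁻¹ * s * a)) → F.PInv p U →
      F.PInv p (U.map (MulAut.conj a).toMonoidHom) := by
    intro a U ha hU
    refine ⟨hU.isp.map _, ?_, ?_⟩
    · rw [card_map_of_injective (f := (MulAut.conj a).toMonoidHom) (MulAut.conj a).injective]
      exact hU.odd
    · have : ∀ s, F.Mem s →
          s ∈ Subgroup.normalizer ((U.map (MulAut.conj a).toMonoidHom : Subgroup G) : Set G) := fun s hs =>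
        le_normalizer_map (MulAut.conj a).toMonoidHom ⟨a⁻¹ * s * a,
          Mem.mem_normalizer F (ha s hs) hU.stab, by
            show a * (a⁻¹ * s * a) * a⁻¹ = s
            group⟩
      exact ⟨this _ (Or.inl rfl), this _ (Or.inr (Or.inl rfl))⟩
  refine ⟨key g T (fun s hs => (hg s hs).2) h.1, fun U hU hle => ?_⟩
  have hle' : T ≤ U.map (MulAut.conj g⁻¹).toMonoidHom := fun x hx => by
    rw [Subgroup.mem_map_equiv]
    simpa using hle ⟨x, hx, rfl⟩
  intro x hx
  have := h.2 _ (key g⁻¹ U (fun s hs => by simpa using (hg s hs).1) hU) hle' (x := g⁻¹ * x * g)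
    ⟨x, hx, by simp⟩
  rw [Subgroup.mem_map_equiv]
  simpa using this

end Four

end CfsgLib.DGroup
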