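import Cfsg.Agent.DGroup.MemberStruct
import Cfsg.Agent.Invol.MaximalBender
import Cfsg.Agent.PLocal.PConstrained

/-!
# The `p`-cores of the core of a subgroup
-/

set_option autoImplicit false
set_option linter.style.haveILetI false
set_option linter.unusedSectionVars false

namespace CfsgLib.DGroup

open Subgroup
open CfsgLib.NormCyclic (Inv)

universe u

variable {G : Type u} [Group G] [Finite G]

/-- `O_p` of the core of `M`, as a subgroup of `G`. -/
def Op (p : ℕ) (M : Subgroup G) : Subgroup G := LocalB.opIn p (coreIn M)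

/-- The centre of `O_p` of the core of `M`. -/
def cen (p : ℕ) (M : Subgroup G) : Subgroup G := Op p M ⊓ centralizer (Op p M : Set G)

/-- The primes of the Fitting subgroup of the core. -/
noncomputable def sig (M : Subgroup G) : Finset ℕ :=
  haveI := Classical.decPred fun p : ℕ => Op p M ≠ ⊥
  (Nat.card G).primeFactors.filter fun p => Op p M ≠ ⊥

theorem Op_le (p : ℕ) (M : Subgroup G) : Op p M ≤ coreIn M := map_subtype_le _

theorem isPGroup_Op (p : ℕ) [Fact p.Prime] (M : Subgroup G) : IsPGroup p (Op p M) :=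
  LocalB.isPGroup_opIn (coreIn M)

theorem odd_Op (p : ℕ) (M : Subgroup G) : Odd (Nat.card (Op p M)) :=
  (odd_coreIn M).of_dvd_nat (card_dvd_of_le (Op_le p M))

theorem coreIn_le_normalizer_Op (p : ℕ) [Fact p.Prime] (M : Subgroup G) :
    coreIn M ≤ normalizer (Op p M : Set G) :=
  LocalB.le_normalizer_opIn (coreIn M)

theorem normalizer_le_normalizer_opIn (p : ℕ) [Fact p.Prime] (K : Subgroup G) :
    normalizer (K : Set G) ≤ normalizer (LocalB.opIn p K : Set G) := by
  have key : ∀ g ∈ normalizer (K : Set G),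
      (LocalB.opIn p K).map (MulAut.conj g).toMonoidHom ≤ LocalB.opIn p K := by
    intro g hg
    refine LocalB.le_opIn ?_ ((LocalB.isPGroup_opIn K).map _) fun h hh => ?_
    · rintro _ ⟨x, hx, rfl⟩; exact conj_mem hg (LocalB.opIn_le K hx)
    · have e : h = g * (g⁻¹ * h * g) * g⁻¹ := by group
      rw [e]
      exact le_normalizer_map (MulAut.conj g).toMonoidHom
        ⟨g⁻¹ * h * g, LocalB.le_normalizer_opIn K (conj_mem' hg hh), rfl⟩
  intro g hg
  exact mem_normalizer_iff.2 fun x => ⟨fun hx => key g hg ⟨x, hx, rfl⟩, fun hx => by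
    have := key g⁻¹ (inv_mem hg) ⟨_, hx, rfl⟩
    simpa [mul_assoc] using this⟩

theorem le_normalizer_Op (p : ℕ) [Fact p.Prime] (M : Subgroup G) :
    M ≤ normalizer (Op p M : Set G) :=
  (normalizer_coreIn M).trans (normalizer_le_normalizer_opIn p (coreIn M))

theorem le_normalizer_cen (p : ℕ) [Fact p.Prime] (M : Subgroup G) :
    M ≤ normalizer (cen p M : Set G) := fun g hg => by
  have h1 := le_normalizer_Op p M hg
  have h2 := mem_normalizer_centralizer h1
  exact mem_normalizer_iff.2 fun z => by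
    rw [cen, mem_inf, mem_inf]
    exact and_congr (mem_normalizer_iff.1 h1 z) (mem_normalizer_iff.1 h2 z)

theorem cen_ne_bot {p : ℕ} [Fact p.Prime] {M : Subgroup G} (h : Op p M ≠ ⊥) : cen p M ≠ ⊥ :=
  MaxBender.coreR_center_ne_bot (A := coreIn M) h

theorem Op_commute {p q : ℕ} [Fact p.Prime] [Fact q.Prime] (h : p ≠ q) {M : Subgroup G} {x y : G}
    (hx : x ∈ Op p M) (hy : y ∈ Op q M) : Commute x y :=
  MaxBender.coreR_commute (A := coreIn M) h hx hy

/-- The centre of one `O_p` commutes with all of them. -/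
theorem cen_commute {p q : ℕ} [Fact p.Prime] [Fact q.Prime] {M : Subgroup G} {x y : G}
    (hx : x ∈ cen p M) (hy : y ∈ Op q M) : Commute x y := by
  by_cases h : p = q
  · subst h; exact (mem_centralizer_iff.1 hx.2 y hy).symm
  · exact Op_commute h hx.1 hy

theorem mem_sig {M : Subgroup G} {p : ℕ} : p ∈ sig M ↔ p.Prime ∧ Op p M ≠ ⊥ := by
  rw [sig, @Finset.mem_filter _ _ (Classical.decPred _)]
  refine ⟨fun h => ⟨Nat.prime_of_mem_primeFactors h.1, h.2⟩, fun ⟨hp, hne⟩ => ⟨?_, hne⟩⟩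
  haveI : Fact p.Prime := ⟨hp⟩
  obtain ⟨k, hk⟩ := IsPGroup.iff_card.1 (isPGroup_Op p M)
  rcases k with _ | k
  · exact absurd (card_eq_one.1 (by rw [hk, pow_zero])) hne
  · exact Nat.mem_primeFactors.2 ⟨hp, ((dvd_pow_self p k.succ_ne_zero).trans hk.symm.dvd).trans
      (card_subgroup_dvd_card _), Nat.card_pos.ne'⟩

theorem orderOf_coprime {p : ℕ} [Fact p.Prime] {y : G} (hy : ∃ k, y ^ p ^ k = 1) {q : ℕ}
    [Fact q.Prime] (h : p ≠ q) : (orderOf y).Coprime q := by
  obtain ⟨k, hk⟩ := hy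
  exact (((Nat.coprime_primes Fact.out Fact.out).2 h).pow_left k).coprime_dvd_left
    (orderOf_dvd_of_pow_eq_one hk)

theorem pow_mem_Op {p : ℕ} [Fact p.Prime] {M : Subgroup G} {y : G} (hy : y ∈ Op p M) :
    ∃ k, y ^ p ^ k = 1 := by
  obtain ⟨k, hk⟩ := isPGroup_Op p M ⟨y, hy⟩
  exact ⟨k, congrArg Subtype.val hk⟩

/-- A `p`-subgroup and a `q`-subgroup normalising each other commute. -/
theorem commute_of_pq {p q : ℕ} [Fact p.Prime] [Fact q.Prime] (h : p ≠ q) {A B : Subgroup G}
    (hA : IsPGroup p A) (hB : IsPGroup q B) {a b : G} (ha : a ∈ A) (hb : b ∈ B)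
    (haB : a ∈ normalizer (B : Set G)) (hbA : b ∈ normalizer (A : Set G)) : Commute a b :=
  MaxBender.commute_of_inf_eq_bot (MaxBender.eq_bot_of_isPGroup h (hA.to_le inf_le_left)
    (hB.to_le inf_le_right)) ha hb haB hbA

/-- An element commuting with every `O_q` of the core commutes with its Fitting subgroup. -/
theorem fit_le_centralizer {M : Subgroup G} {v : G}
    (h : ∀ (q : ℕ), q.Prime → ∀ x ∈ Op q M, Commute x v) :
    MaxBender.fit (coreIn M) ≤ centralizer ({v} : Set G) := by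
  rw [MaxBender.fit, Comp.fitting_eq_iSup_pCore, Subgroup.map_iSup]
  exact iSup_le fun q x hx =>
    mem_centralizer_singleton_iff.2 (h q (Nat.prime_of_mem_primeFactors q.2) x hx).eq

/-- `C(F) ≤ F` for the core. -/
theorem mem_fit_of_commute {M : Subgroup G} {y : G} (hy : y ∈ coreIn M)
    (h : ∀ (q : ℕ), q.Prime → ∀ x ∈ Op q M, Commute x y) : y ∈ MaxBender.fit (coreIn M) := by
  haveI := solvable_of_odd (coreIn M) (odd_coreIn M)
  refine ⟨⟨y, hy⟩, CfsgLib.Fitting.centralizer_fittingSubgroup_le_of_solvable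
    (mem_centralizer_iff.2 fun z hz => Subtype.ext ?_), rfl⟩
  exact mem_centralizer_singleton_iff.1 (fit_le_centralizer h ⟨z, hz, rfl⟩)

/-- A `p`-element of the core commuting with every `O_q` lies in `O_p`. -/
theorem mem_Op_of_commute {p : ℕ} [Fact p.Prime] {M : Subgroup G} {y : G} (hy : y ∈ coreIn M)
    (hp : ∃ k, y ^ p ^ k = 1)
    (h : ∀ (q : ℕ), q.Prime → ∀ x ∈ Op q M, Commute x y) : y ∈ Op p M := by
  obtain ⟨k, hk⟩ := hp
  exact MaxBender.mem_coreR_of_fit (A := coreIn M) (mem_fit_of_commute hy h) hk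

/-- A normal subgroup of the core meeting each `O_r` trivially in order is trivial. -/
theorem eq_bot_of_coprime {M : Subgroup G} {N : Subgroup G} (hN : N ≤ coreIn M)
    (hn : coreIn M ≤ normalizer (N : Set G))
    (h : ∀ r ∈ sig M, (Nat.card N).Coprime r) : N = ⊥ := by
  have hcomm : ∀ y ∈ N, ∀ (q : ℕ), q.Prime → ∀ x ∈ Op q M, Commute x y := by
    intro y hy q hq x hx
    haveI : Fact q.Prime := ⟨hq⟩
    by_cases hbot : Op q M = ⊥
    · rw [hbot, mem_bot] at hx; rw [hx]; exact Commute.one_left y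
    refine MaxBender.commute_of_inf_eq_bot (Y := N) ?_ hx hy (hn (Op_le q M hx))
      (coreIn_le_normalizer_Op q M (hN hy))
    refine (eq_bot_iff_forall _).2 fun z hz => ?_
    obtain ⟨k, hk⟩ := pow_mem_Op hz.1
    exact orderOf_eq_one_iff.1 (Nat.eq_one_of_dvd_coprimes ((h q (mem_sig.2 ⟨hq, hbot⟩)).pow_right k)
      (Subgroup.orderOf_dvd_natCard _ hz.2) (orderOf_dvd_of_pow_eq_one hk))
  refine le_bot_iff.1 (le_of_primes fun p hp y hy hyk => ?_)
  haveI : Fact p.Prime := ⟨hp⟩
  have hmem := mem_Op_of_commute (hN hy) hyk (hcomm y hy)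
  by_cases hbot : Op p M = ⊥
  · rwa [hbot] at hmem
  obtain ⟨k, hk⟩ := hyk
  exact mem_bot.2 (orderOf_eq_one_iff.1 (Nat.eq_one_of_dvd_coprimes
    ((h p (mem_sig.2 ⟨hp, hbot⟩)).pow_right k)
    (Subgroup.orderOf_dvd_natCard _ hy) (orderOf_dvd_of_pow_eq_one hk)))

theorem exists_sig {M : Subgroup G} (h : coreIn M ≠ ⊥) : ∃ p, p ∈ sig M := by
  by_contra hc
  push Not at hc
  exact h (eq_bot_of_coprime le_rfl le_normalizer fun r hr => absurd hr (hc r))

end CfsgLib.DGroup
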