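import Cfsg.Agent.DGroup.Core
import Cfsg.Agent.KGroup.Invariant
import Cfsg.Agent.ZJ.ZJCenter
import Cfsg.Agent.Fusion.InnerZJ

/-!
# Members have two primes in their Fitting subgroup; the Bender lemma
-/

set_option autoImplicit false
set_option linter.style.haveILetI false
set_option linter.unusedSectionVars false

namespace CfsgLib.DGroup

open Subgroup
open CfsgLib.NormCyclic (Inv)

universe u

variable {G : Type u} [Group G] [Finite G]

/-- A characteristic subgroup is normalised by the normaliser. -/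
theorem normalizer_le_map_char (R : Subgroup G) (Z : Subgroup R) [hZ : Z.Characteristic] :
    normalizer (R : Set G) ≤ normalizer ((Z.map R.subtype : Subgroup G) : Set G) := by
  have key : ∀ g ∈ normalizer (R : Set G), ∀ x ∈ Z.map R.subtype, g * x * g⁻¹ ∈ Z.map R.subtype := by
    rintro g hg _ ⟨z, hz, rfl⟩
    let φ : R ≃* R :=
      { toFun := fun x => ⟨g * x * g⁻¹, conj_mem hg x.2⟩
        invFun := fun x => ⟨g⁻¹ * x * g, conj_mem' hg x.2⟩
        left_inv := fun x => Subtype.ext (by show g⁻¹ * (g * x * g⁻¹) * g = x; group)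
        right_inv := fun x => Subtype.ext (by show g * (g⁻¹ * x * g) * g⁻¹ = x; group)
        map_mul' := fun x y => Subtype.ext (by
          show g * ((x * y : R) : G) * g⁻¹ = g * x * g⁻¹ * (g * y * g⁻¹)
          rw [Subgroup.coe_mul]; group) }
    exact ⟨φ z, (characteristic_iff_map_eq.1 hZ φ) ▸ ⟨z, hz, rfl⟩, rfl⟩
  intro g hg
  exact mem_normalizer_iff.2 fun x => ⟨key g hg x, fun h => by
    simpa [mul_assoc] using key g⁻¹ (inv_mem hg) _ h⟩

namespace Four

variable (F : Four G)

/-- Exchange of the last two involutions. -/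
def flip : Four G := F.rot.rot.swap

@[simp] theorem flip_t : F.flip.t = F.t := rfl
@[simp] theorem flip_u : F.flip.u = F.w := rfl
@[simp] theorem flip_w : F.flip.w = F.u := rfl

/-- An invariant group of odd order centralises an invariant subgroup fixed by one involution. -/
theorem commute_of_fixed (hG : DHyp G) {v : G} (hv : F.Mem v) {K R : Subgroup G}
    (hR : Odd (Nat.card R)) (hs : F.Stab R) (hK : Odd (Nat.card K))
    (hn : R ≤ Subgroup.normalizer (K : Set G)) (hKv : ∀ k ∈ K, Commute k v) :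
    ∀ r ∈ R, ∀ k ∈ K, Commute r k := by
  have key : ∀ s, F.Mem s → piece R s ≤ centralizer (K : Set G) := by
    intro s hsm r hr
    obtain ⟨hrR, hrs⟩ := mem_piece.1 hr
    refine mem_centralizer_iff.2 fun k hk => ?_
    have hro := odd_orderOf hR hrR
    by_cases h : s = v
    · subst h
      exact (hG.oc_commute (Mem.inv F hsm) ⟨hKv k hk, odd_orderOf hK hk⟩ ⟨hrs, hro⟩).eq
    · exact (commute_of_conj (Mem.inv F hv).1 (hKv k hk) hro
        (hG.inverts (Mem.inv F hsm) (Mem.inv F hv) (Mem.commute F hv hsm) (Ne.symm h) ⟨hrs, hro⟩)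
        (hKv _ (conj_mem (hn hrR) hk))).eq.symm
  intro r hr k hk
  exact (mem_centralizer_iff.1 (F.le_of_pieces hG hR hs (key _ (Or.inl rfl))
    (key _ (Or.inr (Or.inl rfl))) (key _ (Or.inr (Or.inr rfl))) hr) k hk).symm

end Four

theorem IsMember.mem_four {M : Subgroup G} {F : Four G} (hM : IsMember M F.t) :
    F.t ∈ M ∧ F.u ∈ M :=
  ⟨hM.cent (mem_centralizer_singleton_iff.2 rfl),
    hM.cent (mem_centralizer_singleton_iff.2 F.htu.eq.symm)⟩

theorem IsMember.stab {M : Subgroup G} {F : Four G} (hM : IsMember M F.t) :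
    F.Stab (coreIn M) :=
  ⟨normalizer_coreIn M hM.mem_four.1, normalizer_coreIn M hM.mem_four.2⟩

theorem IsMember.stab_Op {M : Subgroup G} {F : Four G} (hM : IsMember M F.t) (p : ℕ)
    [Fact p.Prime] : F.Stab (Op p M) :=
  ⟨le_normalizer_Op p M hM.mem_four.1, le_normalizer_Op p M hM.mem_four.2⟩

theorem IsMember.stab_cen {M : Subgroup G} {F : Four G} (hM : IsMember M F.t) (p : ℕ)
    [Fact p.Prime] : F.Stab (cen p M) :=
  ⟨le_normalizer_cen p M hM.mem_four.1, le_normalizer_cen p M hM.mem_four.2⟩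

theorem IsMember.core_ne_bot {M : Subgroup G} {t : G} (hM : IsMember M t) : coreIn M ≠ ⊥ :=
  fun h => hM.big fun y hy => by rw [h, mem_bot] at hy; rw [hy]; exact Commute.one_left t

namespace Ctx

variable (C : Ctx G)
include C

theorem mem_core_of_oc {M : Subgroup G} {t y : G} (hM : IsMember M t) (hy : OC t y) :
    y ∈ coreIn M :=
  (C.member_core hM).1 y (hM.cent (mem_centralizer_singleton_iff.2 hy.1.eq)) hy.2

theorem exists_oc {M : Subgroup G} {t : G} (hM : IsMember M t) {v : G} (hv : Inv v) :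
    ∃ y, y ≠ 1 ∧ OC v y := by
  obtain ⟨F, rfl⟩ := C.exists_four hM.inv
  obtain ⟨s, hs, hs1⟩ := F.exists_piece C.hG (odd_coreIn M) hM.stab hM.core_ne_bot
  obtain ⟨x, hx, hx1⟩ := (piece (coreIn M) s).bot_or_exists_ne_one.resolve_left hs1
  obtain ⟨g, hg⟩ := C.one s v (Four.Mem.inv F hs) hv
  refine ⟨g * x * g⁻¹, fun h => hx1 (conj_eq_one_iff.1 h), ?_, ?_⟩
  · rw [← hg]; exact (Commute.conj_iff g).2 (mem_piece.1 hx).2
  · rw [CfsgLib.Invol.orderOf_conj_eq]; exact odd_orderOf (odd_coreIn M) (mem_piece.1 hx).1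

/-- No involution of the four group centralises the Fitting subgroup of the core. -/
theorem not_commute_all (F : Four G) {M : Subgroup G} (hM : IsMember M F.t) {v : G}
    (hv : F.Mem v) : ∃ p : ℕ, p.Prime ∧ ∃ x ∈ Op p M, ¬ Commute x v := by
  by_contra hc
  push Not at hc
  have hall : ∀ r ∈ coreIn M, Commute r v := by
    intro r hr
    have hfit : r ∈ MaxBender.fit (coreIn M) := mem_fit_of_commute hr fun q hq x hx => by
      haveI : Fact q.Prime := ⟨hq⟩
      exact (F.commute_of_fixed C.hG hv (odd_coreIn M) hM.stab (odd_Op q M)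
        (coreIn_le_normalizer_Op q M) (fun k hk => hc q hq k hk) r hr x hx).symm
    exact mem_centralizer_singleton_iff.1 (fit_le_centralizer hc hfit)
  by_cases h : v = F.t
  · subst h; exact hM.big hall
  obtain ⟨y, hy1, hy⟩ := C.exists_oc hM F.ht
  exact hy1 (C.hG.four_free F.ht (Four.Mem.inv F hv) (Four.Mem.commute F hv (Or.inl rfl)) h hy.2
    hy.1 (hall y (C.mem_core_of_oc hM hy)))

/-- Two involutions of a four group are not conjugate in a member at one of them. -/
theorem not_conj (F : Four G) {M : Subgroup G} (hM : IsMember M F.t) {g : G}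
    (hg : g * F.t * g⁻¹ = F.u) : g ∉ M := fun h => by
  have h' := (C.member_core hM).2 g h
  rw [hg, F.ht.inv_eq, ← F.htu.eq, F.mul] at h'
  exact F.hw.2 (eq_one_of_sq F.hw.1 (odd_orderOf (odd_coreIn M) h'))

/-- An element with a large centraliser gives a member. -/
theorem exists_member (F : Four G) {x y : G} (hx : OC F.t x) (hx1 : x ≠ 1)
    (hyo : Odd (orderOf y)) (hyx : Commute y x) (hyt : ¬ Commute y F.t) :
    ∃ L : Subgroup G, IsMember L F.t ∧ normalizer (zpowers x : Set G) ≤ L := by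
  have hne := C.normalizer_ne_top (D := zpowers x) (by rw [Nat.card_zpowers]; exact hx.2)
    (fun h => hx1 (zpowers_eq_bot.1 h))
  obtain ⟨L, hle, hL, hmax⟩ := exists_maximal_ge_of_wellFoundedGT (fun K : Subgroup G => K ≠ ⊤) _ hne
  have hmax' : ∀ K : Subgroup G, L ≤ K → K = L ∨ K = ⊤ := fun K hK => or_iff_not_imp_right.2
    fun h => le_antisymm (hmax h hK) hK
  exact ⟨L, C.member_of_bad F hx hx1 hyo hyx hyt hL hmax' hle, hle⟩

/-- A member contains the odd part of the centraliser of what it normalises. -/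
theorem mem_core_of_commute {L : Subgroup G} {t x y : G} (hL : IsMember L t)
    (hle : normalizer (zpowers x : Set G) ≤ L) (hyo : Odd (orderOf y)) (hyx : Commute y x) :
    y ∈ coreIn L := by
  refine (C.member_core hL).1 y (hle (centralizer_le_normalizer _ (mem_centralizer_iff.2 ?_))) hyo
  rintro z ⟨i, rfl⟩
  exact (hyx.zpow_right i).eq.symm

theorem normalizer_Op {M : Subgroup G} {t : G} (hM : IsMember M t) {p : ℕ} [Fact p.Prime]
    (h : Op p M ≠ ⊥) : normalizer (Op p M : Set G) = M :=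
  C.normalizer_eq hM (Op_le p M) h (le_normalizer_Op p M)

theorem centralizer_cen {M : Subgroup G} {t : G} (hM : IsMember M t) {p : ℕ} [Fact p.Prime]
    (h : Op p M ≠ ⊥) : centralizer (cen p M : Set G) ≤ M :=
  (centralizer_le_normalizer _).trans (C.normalizer_eq hM (inf_le_left.trans (Op_le p M))
    (cen_ne_bot h) (le_normalizer_cen p M)).le

/-- An odd element centralising the centre of one `O_p` is in the core. -/
theorem mem_core_of_cen {M : Subgroup G} {t y : G} (hM : IsMember M t) {p : ℕ} [Fact p.Prime]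
    (h : Op p M ≠ ⊥) (hyo : Odd (orderOf y)) (hy : ∀ z ∈ cen p M, Commute y z) : y ∈ coreIn M :=
  (C.member_core hM).1 y
    (C.centralizer_cen hM h (mem_centralizer_iff.2 fun z hz => (hy z hz).eq.symm)) hyo

/-- The Fitting subgroup of the core is not a `p`-group. -/
theorem two_primes {M : Subgroup G} {t : G} (hM : IsMember M t) (p : ℕ) :
    ∃ q ∈ sig M, q ≠ p := by
  by_contra hc
  push Not at hc
  obtain ⟨F, rfl⟩ := C.exists_four hM.inv
  obtain ⟨p', hp'⟩ := exists_sig hM.core_ne_bot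
  obtain rfl := hc p' hp'
  obtain ⟨hp, hne⟩ := mem_sig.1 hp'
  haveI : Fact p'.Prime := ⟨hp⟩
  have hG := C.hG
  set R := coreIn M with hR
  haveI := solvable_of_odd R (odd_coreIn M)
  have hp2 : p' ≠ 2 := by
    obtain ⟨x, hx, hx1⟩ := (Op p' M).bot_or_exists_ne_one.resolve_left hne
    obtain ⟨k, hk⟩ := pow_mem_Op hx
    rintro rfl
    have := odd_orderOf (odd_Op 2 M) hx
    obtain ⟨i, -, hi⟩ := (Nat.dvd_prime_pow Nat.prime_two).1 (orderOf_dvd_of_pow_eq_one hk)
    rcases i with _ | i
    · exact hx1 (orderOf_eq_one_iff.1 (hi.trans (pow_zero 2)))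
    · rw [hi] at this
      exact absurd this (by simp [Nat.even_pow, ← Nat.not_even_iff_odd])
  -- no `p'`-core
  have hO : Cfsg.pPrimeCore p' R = ⊥ := by
    refine (map_eq_bot_iff_of_injective _ R.subtype_injective).1 (eq_bot_of_coprime
      (map_subtype_le _) ?_ fun r hr => ?_)
    · intro g hg
      exact le_normalizer_map R.subtype ⟨⟨g, hg⟩, by
        haveI := (CfsgLib.Solvable.pPrimeCore_spec (G := R) p').1
        rw [normalizer_eq_top]; exact mem_top _, rfl⟩
    · obtain rfl := hc r hr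
      rw [card_map_of_injective R.subtype_injective]
      exact CfsgLib.Solvable.coprime_card_pPrimeCore (G := R) r
  -- the centre of the Thompson subgroup of the invariant Sylow subgroup
  obtain ⟨P, hPR, hP, hPs, hPc, hPmax⟩ := F.exists_syl hG (odd_coreIn M) hM.stab p'
  have hPS : Nat.card (P.subgroupOf R) = p' ^ (Nat.card R).factorization p' := by
    rw [Nat.card_congr (subgroupOfEquivOfLe hPR).toEquiv]; exact hPc
  set S : Sylow p' R := Sylow.ofCard (P.subgroupOf R) hPS with hS
  have hSc : (S : Subgroup R) = P.subgroupOf R := Sylow.coe_ofCard _ _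
  have hzn : (Cfsg.centerThompsonAOf (S : Subgroup R)).Characteristic := by
    rw [← CfsgLib.ZJ.famCenter_abelian_eq]
    exact CfsgLib.ZJ.famCenter_characteristic CfsgLib.ZJ.admissible_abelian S
      (CfsgLib.ZJ.famCenter_normal hp2 CfsgLib.ZJ.admissible_abelian S _
        (CfsgLib.ZJ.stronglyClosed_self S)
        (CfsgLib.ZJ.stableNormal_of_free hp2
          (CfsgLib.Invariant.not_involves_qd_of_odd (odd_coreIn M) hp2))
        (CfsgLib.Fitting.centralizer_pCore_le hO))
  set Z := Cfsg.centerThompsonAOf P with hZ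
  have hZmap : Z = (Cfsg.centerThompsonAOf (S : Subgroup R)).map R.subtype := by
    rw [← CfsgLib.ZJ.centerThompsonAOf_map R.subtype _ fun x _ h => R.subtype_injective
      (h.trans (map_one R.subtype).symm), hSc, map_subgroupOf_eq_of_le hPR]
  have hOpP : Op p' M ≤ P := hPmax _ (Op_le p' M) (isPGroup_Op p' M) (hM.stab_Op p')
  have hP1 : P ≠ ⊥ := fun h => hne (le_bot_iff.1 (h ▸ hOpP))
  have hZR : Z ≤ R := hZmap ▸ map_subtype_le _
  have hNZ : normalizer (Z : Set G) = M := by
    refine C.normalizer_eq hM hZR (CfsgLib.Fusion.centerThompsonAOf_ne_bot hP hP1) ?_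
    rw [hZmap]
    haveI := hzn
    exact (normalizer_coreIn M).trans (normalizer_le_map_char R _)
  have hNP : normalizer (P : Set G) ≤ M := by
    refine le_trans ?_ hNZ.le
    rw [hZ, ← CfsgLib.ZJ.famCenter_abelian_eq]
    exact CfsgLib.ZJ.normalizer_le_famCenter CfsgLib.ZJ.admissible_abelian P
  rcases C.pure_or_linked F p' with hpure | ⟨T, hT⟩
  · obtain ⟨v, hv, hPv⟩ := hpure P ⟨hP, (odd_coreIn M).of_dvd_nat (card_dvd_of_le hPR), hPs⟩
    obtain ⟨q, hq, x, hx, hxv⟩ := C.not_commute_all F hM hv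
    haveI : Fact q.Prime := ⟨hq⟩
    have : Op q M ≠ ⊥ := fun h => hxv (by rw [h, mem_bot] at hx; rw [hx]; exact Commute.one_left v)
    obtain rfl := hc q (mem_sig.2 ⟨hq, this⟩)
    exact hxv ((hG.mem_Qp (Four.Mem.inv F hv)).1 (hPv (hOpP hx))).1.1
  · have hPT : P ≤ T := hT.top P ⟨hP, (odd_coreIn M).of_dvd_nat (card_dvd_of_le hPR), hPs⟩
    have hPeq : P = T := by
      by_contra hne'
      obtain ⟨N, hlt, hNT, hNn⟩ := CfsgLib.Bender.GSide.exists_between
        (lt_of_le_of_ne hPT hne') hT.max.1.isp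
      have hNR : N ≤ R := fun y hy => (C.member_core hM).1 y (hNP (hNn hy))
        (odd_orderOf hT.max.1.odd (hNT hy))
      obtain ⟨k, hk⟩ := IsPGroup.iff_card.1 (hT.max.1.isp.to_le hNT)
      have h1 := CfsgLib.Solvable.card_lt_of_lt hlt
      have h2 := card_dvd_of_le hNR
      rw [hk] at h2 h1
      rw [hPc] at h1
      exact absurd (Nat.pow_le_pow_right hp.pos
        ((hp.pow_dvd_iff_le_factorization Nat.card_pos.ne').1 h2)) (not_le.2 h1)
    obtain ⟨g, g1, g2, g3⟩ := C.cycle F
    refine C.not_conj F hM g1 (hNP ?_)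
    rw [hPeq, CfsgLib.Bender.GSide.mem_norm_iff]
    exact hT.fix g (F.perms_of_cycle g1 g2 g3)

/-- For `p ≠ q` an `O_p` lying in another core lies in its `q'`-core. -/
theorem cross {M L : Subgroup G} {t : G} (hM : IsMember M t) {p q : ℕ} [Fact p.Prime]
    [Fact q.Prime] (hpq : p ≠ q) (hq : Op q M ≠ ⊥) (hpL : Op p M ≤ coreIn L)
    (hqL : Op q M ≤ coreIn L) :
    Op p M ≤ (Cfsg.pPrimeCore q (coreIn L)).map (coreIn L).subtype := by
  set R := coreIn L with hR
  haveI := solvable_of_odd R (odd_coreIn L)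
  have hmem : ∀ {n : R}, n ∈ normalizer (((Op q M).subgroupOf R : Subgroup R) : Set R) →
      (n : G) ∈ normalizer (Op q M : Set G) := fun {n} hn => by
    refine mem_normalizer_iff.2 fun x => ⟨fun hx => ?_, fun hx => ?_⟩
    · exact (mem_normalizer_iff.1 hn ⟨x, hqL hx⟩).1 hx
    · have hxR : x ∈ R := by
        have := mul_mem (mul_mem (inv_mem n.2) (hqL hx)) n.2
        simpa [mul_assoc] using this
      exact (mem_normalizer_iff.1 hn ⟨x, hxR⟩).2 hx
  have hsub : ∀ {n : R} {K : Subgroup G}, (n : G) ∈ normalizer (K : Set G) →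
      n ∈ normalizer ((K.subgroupOf R : Subgroup R) : Set R) := fun {n K} hn =>
    mem_normalizer_iff.2 fun x => by
      simp only [mem_subgroupOf, Subgroup.coe_mul, InvMemClass.coe_inv]
      exact mem_normalizer_iff.1 hn x
  have hD : (Op p M).subgroupOf R ≤ Cfsg.pPrimeCore q R := by
    refine CfsgLib.PConstrained.pPrimeCore_normalizer_le (P := (Op q M).subgroupOf R)
      (CfsgLib.Fitting.centralizer_pCore_le (CfsgLib.Fitting.pPrimeCore_quotient_eq_bot q))
      ((isPGroup_Op q M).comap_subtype) (fun d hd => ?_) (fun n hn => ?_) ?_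
    · exact hsub (coreIn_le_normalizer_Op q M (Op_le p M hd))
    · exact hsub (le_normalizer_Op p M (C.normalizer_Op hM hq ▸ hmem hn))
    · obtain ⟨k, hk⟩ := IsPGroup.iff_card.1 (isPGroup_Op p M)
      rw [Nat.card_congr (subgroupOfEquivOfLe hpL).toEquiv, hk]
      exact ((Nat.coprime_primes Fact.out Fact.out).2 hpq).pow_left k
  intro x hx
  exact ⟨⟨x, hpL hx⟩, hD hx, rfl⟩

/-- An `O_q` of the second core commutes with the other `O_p` of the first. -/
theorem cross_commute {M L : Subgroup G} {t : G} (hM : IsMember M t) {p q : ℕ} [Fact p.Prime]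
    [Fact q.Prime] (hpq : p ≠ q) (hq : Op q M ≠ ⊥) (hpL : Op p M ≤ coreIn L)
    (hqL : Op q M ≤ coreIn L) {x y : G} (hx : x ∈ Op p M) (hy : y ∈ Op q L) : Commute x y := by
  obtain ⟨x', hx', rfl⟩ := C.cross hM hpq hq hpL hqL hx
  obtain ⟨y', hy', rfl⟩ := hy
  haveI := (CfsgLib.Solvable.pPrimeCore_spec (G := coreIn L) q).1
  haveI := CfsgLib.Solvable.pCore_normal (G := coreIn L) q
  refine congrArg Subtype.val (Subgroup.commute_of_normal_of_disjoint _ _ inferInstance inferInstance
    (disjoint_iff.2 ?_) x' y' hx' hy').eq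
  rw [inf_comm]
  exact ZJ.isPGroup_inf_coprime (CfsgLib.Solvable.isPGroup_pCore q)
    (CfsgLib.Solvable.coprime_card_pPrimeCore q)

/-- Bender's lemma: two members whose Fitting subgroups lie in each other's cores are equal. -/
theorem eq_of_cross {M L : Subgroup G} {t s : G} (hM : IsMember M t) (hL : IsMember L s)
    (hXL : ∀ p : ℕ, p.Prime → Op p M ≤ coreIn L) (hYM : ∀ p : ℕ, p.Prime → Op p L ≤ coreIn M) :
    M = L := by
  -- the two sets of primes agree
  have sub : ∀ {M L : Subgroup G}, (∀ p : ℕ, p.Prime → Op p M ≤ coreIn L) →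
      (∀ p : ℕ, p.Prime → Op p L ≤ coreIn M) → ∀ r ∈ sig M, r ∈ sig L := by
    intro M L h1 h2 r hr
    obtain ⟨hrp, hne⟩ := mem_sig.1 hr
    haveI : Fact r.Prime := ⟨hrp⟩
    by_contra hrL
    refine hne (le_bot_iff.1 fun x hx => ?_)
    have hbot : Op r L = ⊥ := by_contra fun h => hrL (mem_sig.2 ⟨hrp, h⟩)
    have := mem_Op_of_commute (h1 r hrp hx) (pow_mem_Op hx) (p := r) fun q hq y hy => by
      haveI : Fact q.Prime := ⟨hq⟩
      by_cases hqr : q = r
      · subst hqr; rw [hbot, mem_bot] at hy; rw [hy]; exact Commute.one_left x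
      · exact commute_of_pq hqr (isPGroup_Op q L) (isPGroup_Op r M) hy hx
          (coreIn_le_normalizer_Op r M (h2 q hq hy)) (coreIn_le_normalizer_Op q L (h1 r hrp hx))
    rwa [hbot] at this
  -- one `O_p` of `M` lies in that of `L`
  have step : ∀ {M L : Subgroup G} {t : G}, IsMember M t →
      (∀ p : ℕ, p.Prime → Op p M ≤ coreIn L) → (∀ r ∈ sig L, r ∈ sig M) →
      ∀ p ∈ sig M, Op p M ≤ Op p L := by
    intro M L t hM hXL hsig p hpM
    obtain ⟨hp, -⟩ := mem_sig.1 hpM
    haveI : Fact p.Prime := ⟨hp⟩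
    set R := coreIn L with hR
    obtain ⟨q, hqM, hqp⟩ := C.two_primes hM p
    obtain ⟨hq, hqne⟩ := mem_sig.1 hqM
    haveI : Fact q.Prime := ⟨hq⟩
    let K : ℕ → Subgroup R := fun i => ⨅ (r : ℕ) (_ : r ∈ sig M ∧ r ≠ i), Cfsg.pPrimeCore r R
    have hKn : ∀ i, (K i).Normal := fun i =>
      normal_iInf_normal fun r => normal_iInf_normal fun _ => (CfsgLib.Solvable.pPrimeCore_spec r).1
    have hin : ∀ i, i.Prime → i ∈ sig M → ∀ x ∈ Op i M, ∀ (h : x ∈ R), (⟨x, h⟩ : R) ∈ K i := by
      intro i hi _ x hx h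
      haveI : Fact i.Prime := ⟨hi⟩
      simp only [K, mem_iInf]
      rintro r ⟨hrM, hri⟩
      obtain ⟨hr, hrne⟩ := mem_sig.1 hrM
      haveI : Fact r.Prime := ⟨hr⟩
      obtain ⟨x', hx', he⟩ := C.cross hM hri.symm hrne (hXL i hi) (hXL r hr) hx
      obtain rfl : x' = ⟨x, h⟩ := Subtype.ext he
      exact hx'
    have hdis : Disjoint (K p) (K q) := by
      rw [disjoint_iff]
      have hn : (K p ⊓ K q).Normal := by
        haveI := hKn p
        haveI := hKn q
        infer_instance
      refine (map_eq_bot_iff_of_injective _ R.subtype_injective).1 (eq_bot_of_coprime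
        (map_subtype_le _) (fun g hg => le_normalizer_map R.subtype ⟨⟨g, hg⟩, by
          haveI := hn
          rw [normalizer_eq_top]; exact mem_top _, rfl⟩) fun r hr => ?_)
      rw [card_map_of_injective R.subtype_injective]
      refine (CfsgLib.Solvable.coprime_card_pPrimeCore (G := R) r).coprime_dvd_left
        (card_dvd_of_le fun x hx => ?_)
      have hrM := hsig r hr
      by_cases h : r = p
      · exact (mem_iInf.1 (mem_iInf.1 hx.2 r)) ⟨hrM, fun e => hqp (e.symm.trans h)⟩
      · exact (mem_iInf.1 (mem_iInf.1 hx.1 r)) ⟨hrM, h⟩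
    -- the first one lies in `M`
    set Kp := (K p).map R.subtype with hKp
    have hKM : Kp ≤ coreIn M := by
      rintro _ ⟨k, hk, rfl⟩
      refine (C.member_core hM).1 _ ?_ (odd_orderOf (odd_coreIn L) k.2)
      rw [← C.normalizer_Op hM hqne]
      refine centralizer_le_normalizer _ (mem_centralizer_iff.2 fun x hx => ?_)
      exact (congrArg Subtype.val (Subgroup.commute_of_normal_of_disjoint _ _ (hKn p) (hKn q) hdis
        k ⟨x, hXL q hq hx⟩ hk (hin q hq hqM x hx _)).eq).symm
    have h1 : Op p M ≤ LocalB.opIn p Kp := LocalB.le_opIn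
      (fun x hx => ⟨⟨x, hXL p hp hx⟩, hin p hp hpM x hx _, rfl⟩) (isPGroup_Op p M)
      (hKM.trans (coreIn_le_normalizer_Op p M))
    refine h1.trans (LocalB.le_opIn ((LocalB.opIn_le Kp).trans (map_subtype_le _))
      (LocalB.isPGroup_opIn Kp) (fun g hg => normalizer_le_normalizer_opIn p Kp ?_))
    exact le_normalizer_map R.subtype ⟨⟨g, hg⟩, by
      haveI := hKn p
      rw [normalizer_eq_top]; exact mem_top _, rfl⟩
  obtain ⟨p, hp⟩ := exists_sig hM.core_ne_bot
  obtain ⟨hpp, hne⟩ := mem_sig.1 hp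
  haveI : Fact p.Prime := ⟨hpp⟩
  have hp' := sub hXL hYM p hp
  have he : Op p M = Op p L := le_antisymm (step hM hXL (sub hYM hXL) p hp)
    (step hL hYM (sub hXL hYM) p hp')
  rw [← C.normalizer_Op hM hne, ← C.normalizer_Op hL (mem_sig.1 hp').2, he]

end Ctx

end CfsgLib.DGroup
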