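import Cfsg.Agent.DGroup.Small

/-!
# From the TI property to the normaliser hypothesis
-/

set_option autoImplicit false
set_option linter.style.haveILetI false
set_option linter.unusedSectionVars false

namespace CfsgLib.DGroup

open Subgroup
open CfsgLib.NormCyclic (Inv)

universe u

/-- Odd elements commuting with `x` commute with the involutions centralising `x`. -/
def TI (G : Type u) [Group G] : Prop :=
  ∀ v x y : G, Inv v → x ≠ 1 → Odd (orderOf x) → Odd (orderOf y) → Commute x v → Commute y x →
    Commute y v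

variable {G : Type u} [Group G] [Finite G]

namespace DHyp

variable (hG : DHyp G)
include hG

/-- Under TI an element of odd order determines the involution centralising it. -/
theorem inv_unique (hTI : TI G) {t s y : G} (ht : Inv t) (hs : Inv s) (hy : Odd (orderOf y))
    (hy1 : y ≠ 1) (hyt : Commute y t) (hys : Commute y s) : s = t := by
  by_contra hne
  have hC : closure ({t, s} : Set G) ≤ centralizer ({y} : Set G) := (closure_le _).2 (by
    rintro x (rfl | rfl) <;> exact mem_centralizer_singleton_iff.2 (by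
      first | exact hyt.eq.symm | exact hys.eq.symm))
  rcases Nat.even_or_odd (orderOf (t * s)) with he | ho
  · obtain ⟨h2, hht, hhs⟩ := CfsgLib.Invol.half_props ht.orderOf hs.orderOf he
    have hhI := Inv.of_orderOf h2
    have hhy : Commute y ((t * s) ^ (orderOf (t * s) / 2)) := (hyt.mul_right hys).pow_right _
    have e1 : (t * s) ^ (orderOf (t * s) / 2) = t := by
      by_contra h
      exact hy1 (hG.four_free ht hhI hht h hy hyt hhy)
    rw [e1] at hhs
    exact hy1 (hG.four_free ht hs hhs.symm hne hy hyt hys)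
  · obtain ⟨d, hd, hds⟩ := CfsgLib.Invol.exists_conj_of_odd ht.orderOf hs.orderOf ho
    obtain ⟨m, hm⟩ := ho
    -- the conjugating element may be taken to be a power of `t * s`
    have h1 : Commute (t * s) y := (hyt.mul_right hys).symm
    have h2 : Commute (t * s) t := hTI t y (t * s) ht hy1 hy ⟨m, hm⟩ hyt h1
    have hst : Commute s t := by
      have h3 : Commute (t * (t * s)) t := (Commute.refl t).mul_left h2
      rwa [← mul_assoc, ht.1, one_mul] at h3
    exact hy1 (hG.four_free ht hs hst hne hy hyt hys)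

theorem normCyclic (hTI : TI G) : CfsgLib.NormCyclic.Hyp G := by
  intro X hX hev Y hYX hY
  obtain ⟨⟨x, hxX⟩, hgen⟩ := hX.exists_generator
  have hXx : ∀ z ∈ X, ∃ i : ℤ, x ^ i = z := fun z hz => by
    obtain ⟨i, hi⟩ := mem_zpowers_iff.1 (hgen ⟨z, hz⟩)
    exact ⟨i, by simpa using congrArg Subtype.val hi⟩
  have hord : orderOf x = Nat.card X := by
    rw [← orderOf_eq_card_of_forall_mem_zpowers hgen, Subgroup.orderOf_mk]
  set t := x ^ (orderOf x / 2) with ht'
  have ht : Inv t := Inv.of_orderOf (CfsgLib.Invol.orderOf_pow_half (isOfFinOrder_of_finite x)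
    (hord ▸ hev))
  have htX : t ∈ X := pow_mem hxX _
  obtain ⟨A, hA⟩ := hG t ht
  have hxA : x ∈ A := by
    have hxt : Commute x t := (Commute.refl x).pow_right _
    by_cases h : x * x = 1
    · have h2 : orderOf x = 2 := by
        have h1 : orderOf x ∣ 2 := orderOf_dvd_of_pow_eq_one (by rw [pow_two, h])
        exact Nat.le_antisymm (Nat.le_of_dvd two_pos h1) (Nat.le_of_dvd (orderOf_pos x)
          (even_iff_two_dvd.1 (hord ▸ hev)))
      have : t = x := by rw [ht', h2, show 2 / 2 = 1 from rfl, pow_one]
      exact this ▸ hA.mem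
    · exact hA.mem_of_sq_ne hxt h
  have hXA : ∀ z ∈ X, z ∈ A := fun z hz => by
    obtain ⟨i, rfl⟩ := hXx z hz; exact zpow_mem hxA i
  have main : ∀ Z : Subgroup G, Z ≤ X → Z ≠ ⊥ →
      normalizer (Z : Set G) = centralizer ({t} : Set G) := by
    intro Z hZ hZ0
    refine le_antisymm (fun g hg => ?_) fun g hg => ?_
    · refine mem_centralizer_singleton_iff.2 (mul_inv_eq_iff_eq_mul.1 ?_)
      obtain ⟨y, hyZ, hy1⟩ := Z.bot_or_exists_ne_one.resolve_left hZ0
      by_cases hZt : t ∈ Z
      · exact hA.invol _ (hXA _ (hZ (conj_mem hg hZt))) (ht.conj g).1 (ht.conj g).2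
      have hyo : ∀ z ∈ Z, Odd (orderOf z) := fun z hz => by
        by_contra h
        have he := Nat.not_odd_iff_even.1 h
        have h2 := Inv.of_orderOf (CfsgLib.Invol.orderOf_pow_half (isOfFinOrder_of_finite z) he)
        exact hZt (hA.invol _ (hXA _ (hZ (pow_mem hz _))) h2.1 h2.2 ▸ pow_mem hz _)
      refine hG.inv_unique hTI ht (ht.conj g) (hyo y hyZ) hy1 (hA.le y (hXA y (hZ hyZ))) ?_
      have := (Commute.conj_iff g).2 (hA.le _ (hXA _ (hZ (conj_mem' hg hyZ))))
      simpa [mul_assoc] using this
    · have hgt : Commute g t := mem_centralizer_singleton_iff.1 hg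
      have key : ∀ h : G, Commute h t → ∀ z ∈ Z, h * z * h⁻¹ ∈ Z := fun h hh z hz => by
        rcases hA.conj_zpowers hh (hXA z (hZ hz)) with e | e <;> rw [e]
        exacts [hz, inv_mem hz]
      exact mem_normalizer_iff.2 fun z => ⟨key g hgt z, fun h => by
        simpa [mul_assoc] using key g⁻¹ hgt.inv_left _ h⟩
  rw [main X le_rfl (fun h => ht.2 (mem_bot.1 (h ▸ htX))), main Y hYX hY]

end DHyp

end CfsgLib.DGroup
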