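import Cfsg.Agent.DGroup.Extremal

/-!
# There are no members; the TI theorem
-/

set_option autoImplicit false
set_option linter.style.haveILetI false
set_option linter.unusedSectionVars false

namespace CfsgLib.DGroup

open Subgroup
open CfsgLib.NormCyclic (Inv)

universe u

variable {G : Type u} [Group G] [Finite G]

theorem coreIn_map_le_of (M : Subgroup G) (g : G) :
    (coreIn M).map (MulAut.conj g).toMonoidHom ≤ coreIn (M.map (MulAut.conj g).toMonoidHom) := by
  refine le_coreIn (map_mono (coreIn_le M)) ?_ ?_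
  · rintro _ ⟨m, hm, rfl⟩
    exact le_normalizer_map (MulAut.conj g).toMonoidHom ⟨m, normalizer_coreIn M hm, rfl⟩
  · rw [card_map_of_injective (f := (MulAut.conj g).toMonoidHom) (MulAut.conj g).injective]
    exact odd_coreIn M

theorem IsMember.conj {M : Subgroup G} {t : G} (hM : IsMember M t) (g : G) :
    IsMember (M.map (MulAut.conj g).toMonoidHom) (g * t * g⁻¹) := by
  have hmem : ∀ {K : Subgroup G} {x : G}, x ∈ K.map (MulAut.conj g).toMonoidHom ↔ g⁻¹ * x * g ∈ K :=
    fun {K x} => by rw [Subgroup.mem_map_equiv, MulAut.conj_symm_apply]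
  refine ⟨hM.inv.conj g, fun h => hM.ne_top (eq_top_iff.2 fun x _ => ?_), fun K hK => ?_,
    fun x hx => hmem.2 (hM.cent (mem_centralizer_singleton_iff.2 ?_)), fun h => hM.big fun y hy => ?_⟩
  · have := h.ge (mem_top (g * x * g⁻¹))
    rwa [hmem, show g⁻¹ * (g * x * g⁻¹) * g = x by group] at this
  · rcases hM.max (K.map (MulAut.conj g⁻¹).toMonoidHom) (fun x hx => by
      rw [Subgroup.mem_map_equiv, MulAut.conj_symm_apply, inv_inv]
      exact hK ⟨x, hx, rfl⟩) with h | h
    · refine Or.inl (le_antisymm (fun x hx => hmem.2 (h.le ⟨x, hx, ?_⟩)) hK)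
      show g⁻¹ * x * g⁻¹⁻¹ = _
      group
    · refine Or.inr (eq_top_iff.2 fun x _ => ?_)
      obtain ⟨z, hz, he⟩ := h.ge (mem_top (g⁻¹ * x * g))
      have : g⁻¹ * z * g⁻¹⁻¹ = g⁻¹ * x * g := he
      rw [inv_inv] at this
      rwa [← mul_left_cancel (mul_right_cancel this)]
  · have h := (Commute.conj_iff g⁻¹).2 (show Commute x (g * t * g⁻¹) from mem_centralizer_singleton_iff.1 hx)
    simpa [mul_assoc, Commute, SemiconjBy] using h
  · exact (Commute.conj_iff g).1 (h _ (coreIn_map_le_of M g ⟨y, hy, rfl⟩))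

namespace Ctx

variable (C : Ctx G)
include C

/-- The case where every centre lies in the centraliser: one configuration. -/
theorem false_of_central (F : Four G) {M : Subgroup G} (hM : IsMember M F.t)
    (hB : ∀ (L : Subgroup G) (s : G), IsMember L s → ∀ q, q.Prime → ∀ z ∈ cen q L, Commute z s)
    {p : ℕ} [Fact p.Prime] {y : G} (hy : y ∈ Op p M) (hy1 : y ≠ 1) (hyu : Commute y F.u)
    (hya : ∀ a ∈ piece (Op p M) F.t, Commute a y) : False := by
  have hG := C.hG
  have hyo := odd_orderOf (odd_Op p M) hy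
  obtain ⟨r, hr, hrp⟩ := C.two_primes hM p
  obtain ⟨hrP, hrne⟩ := mem_sig.1 hr
  haveI : Fact r.Prime := ⟨hrP⟩
  obtain ⟨z, hz, hz1⟩ := (cen r M).bot_or_exists_ne_one.resolve_left (cen_ne_bot hrne)
  have hzo := odd_orderOf (odd_Op r M) hz.1
  have hzy : Commute z y := cen_commute hz hy
  obtain ⟨L, hL, hle⟩ := C.exists_member F.swap (x := y) ⟨hyu, hyo⟩ hy1 hzo hzy fun h =>
    hz1 (hG.four_free F.ht F.hu F.htu.symm F.ne.symm hzo (hB M F.t hM r hrP z hz) h)
  have hsub : ∀ x, Odd (orderOf x) → Commute x y → x ∈ coreIn L := fun x hx hxy =>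
    C.mem_core_of_commute hL hle hx hxy
  obtain ⟨r', hr', hr'p⟩ := C.two_primes hL p
  obtain ⟨hr'P, hr'ne⟩ := mem_sig.1 hr'
  haveI : Fact r'.Prime := ⟨hr'P⟩
  obtain ⟨z', hz', hz'1⟩ := (cen r' L).bot_or_exists_ne_one.resolve_left (cen_ne_bot hr'ne)
  have hz'o := odd_orderOf (odd_Op r' L) hz'.1
  have hz'u : Commute z' F.u := hB L F.u hL r' hr'P z' hz'
  have hcen : ∀ x ∈ coreIn L, Commute x z' := fun x hx =>
    F.swap.commute_of_fixed hG (Or.inl rfl) (odd_coreIn L) (IsMember.stab (F := F.swap) hL)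
      ((odd_Op r' L).of_dvd_nat (card_dvd_of_le inf_le_left))
      ((coreIn_le L).trans (le_normalizer_cen r' L)) (fun k hk => hB L F.u hL r' hr'P k hk) x hx z' hz'
  have hz'R : z' ∈ coreIn M := C.mem_core_of_cen hM hrne hz'o fun x hx =>
    (hcen x (hsub x (odd_orderOf (odd_Op r M) hx.1) (cen_commute hx hy))).symm
  have hz'p := pow_mem_Op hz'.1
  have hall : ∀ l, l.Prime → ∀ x ∈ Op l M, Commute x z' := by
    intro l hl x hx
    haveI : Fact l.Prime := ⟨hl⟩
    by_cases h : l = p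
    · subst h
      refine (F.rot_commute hG (isPGroup_Op l M) (odd_Op l M) (hM.stab_Op l) ⟨hz'u, hz'o⟩
        (coreIn_le_normalizer_Op l M hz'R) (orderOf_coprime hz'p hr'p) (fun a ha => ?_) x hx).symm
      obtain ⟨haX, hat⟩ := mem_piece.1 ha
      exact (hcen a (hsub a (odd_orderOf (odd_Op l M) haX) (hya a ha))).symm
    · exact hcen x (hsub x (odd_orderOf (odd_Op l M) hx) (Op_commute h hx hy))
  have hmem := mem_Op_of_commute hz'R hz'p hall
  have hcenM : z' ∈ cen r' M :=
    ⟨hmem, mem_centralizer_iff.2 fun x hx => (hall r' hr'P x hx).eq⟩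
  exact hz'1 (hG.four_free F.ht F.hu F.htu.symm F.ne.symm hz'o
    (hB M F.t hM r' hr'P z' hcenM) hz'u)

/-- If there are members, one is of the first kind. -/
theorem exists_caseA {M : Subgroup G} {t : G} (hM : IsMember M t) :
    ∃ (L : Subgroup G) (s : G), IsMember L s ∧ CaseA L s := by
  by_contra hc
  have hB : ∀ (L : Subgroup G) (s : G), IsMember L s → ∀ q, q.Prime → ∀ z ∈ cen q L, Commute z s :=
    fun L s hL q hq z hz => by_contra fun h => hc ⟨L, s, hL, q, hq, z, hz, h⟩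
  have hG := C.hG
  obtain ⟨F, rfl⟩ := C.exists_four hM.inv
  obtain ⟨p, hp, x, hx, hxt⟩ := C.not_commute_all F hM (Or.inl rfl)
  haveI : Fact p.Prime := ⟨hp⟩
  set T := Op p M with hT
  have hTs : F.Stab T := hM.stab_Op p
  have hTp := isPGroup_Op p M
  obtain ⟨N, hNT, ⟨hNn, hNs, hNc⟩, hmin⟩ := exists_minimal_le_of_wellFoundedLT
    (fun N : Subgroup G => T ≤ normalizer (N : Set G) ∧ F.Stab N ∧ ¬ ∀ y ∈ N, Commute y F.t) T
    ⟨le_normalizer, hTs, fun h => hxt (h x hx)⟩
  have hNo := (odd_Op p M).of_dvd_nat (card_dvd_of_le hNT)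
  have hle : ⁅N, T⁆ ≤ N := le_normalizer_iff_commutator_le_left.1 hNn
  have hcomm : ∀ c ∈ ⁅N, T⁆, Commute c F.t := by
    by_contra hcc
    have hNn' : ∀ g, g ∈ normalizer (N : Set G) → g ∈ normalizer (T : Set G) →
        g ∈ normalizer ((⁅N, T⁆ : Subgroup G) : Set G) := fun g h1 h2 => by
      rw [CfsgLib.Bender.GSide.mem_norm_iff] at h1 h2 ⊢
      show (⁅N, T⁆ : Subgroup G).map (MulAut.conj g).toMonoidHom = ⁅N, T⁆
      rw [map_commutator]
      exact congrArg₂ _ h1 h2
    have heq := le_antisymm hle (hmin (y := ⁅N, T⁆)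
      ⟨fun g hg => hNn' g (hNn hg) (le_normalizer hg), ⟨hNn' _ hNs.1 hTs.1, hNn' _ hNs.2 hTs.2⟩, hcc⟩
      hle)
    refine hNc fun y hy => ?_
    obtain ⟨m, hm⟩ := (Subgroup.isNilpotent_iff_lowerCentralSeries _).1 hTp.isNilpotent
    have : ∀ i, N ≤ T.lowerCentralSeries i := by
      intro i
      induction i with
      | zero => exact hNT
      | succ i hi => exact heq.ge.trans (commutator_mono hi le_rfl)
    have hy1 := hm ▸ this m hy
    rw [mem_bot] at hy1
    rw [hy1]; exact Commute.one_left _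
  obtain ⟨v, hv, y, hy, hyv, hy1⟩ : ∃ v, (v = F.u ∨ v = F.w) ∧ ∃ y ∈ N, Commute y v ∧ y ≠ 1 := by
    by_contra hcon
    push Not at hcon
    refine hNc fun y hy => ?_
    have hb : ∀ v, (v = F.u ∨ v = F.w) → piece N v ≤ centralizer ({F.t} : Set G) := fun v hv z hz => by
      rw [hcon v hv z (mem_piece.1 hz).1 (mem_piece.1 hz).2]; exact one_mem _
    exact mem_centralizer_singleton_iff.1 (F.le_of_pieces hG hNo hNs inf_le_right
      (hb _ (Or.inl rfl)) (hb _ (Or.inr rfl)) hy)
  have hyo := odd_orderOf hNo hy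
  have hya : ∀ a ∈ piece T F.t, Commute a y := by
    intro a ha
    obtain ⟨haT, hat⟩ := mem_piece.1 ha
    have hcm : a * y * a⁻¹ * y⁻¹ ∈ ⁅N, T⁆ := by
      rw [commutator_comm]; exact commutator_mem_commutator haT hy
    refine commute_of_comm F.ht.1 hat hyo ?_ (hcomm _ hcm) (odd_orderOf hNo (hle hcm))
    rcases hv with rfl | rfl
    · exact hG.inverts F.hu F.ht F.htu F.ne ⟨hyv, hyo⟩
    · exact hG.inverts F.hw F.ht F.htw F.ne_tw ⟨hyv, hyo⟩
  rcases hv with rfl | rfl
  · exact C.false_of_central F hM hB (hNT hy) hy1 hyv hya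
  · exact C.false_of_central F.flip hM hB (hNT hy) hy1 hyv hya

/-- A central element of the core at `u` has its normaliser in the member. -/
theorem absorb (F : Four G) {M : Subgroup G} (hM : IsMember M F.t) (hmax : MaxPrimes M)
    {p : ℕ} [Fact p.Prime] {z : G} (hz : z ∈ cen p M) (hz1 : z ≠ 1) (hzu : Commute z F.u) :
    IsMember M F.u ∧ normalizer (zpowers z : Set G) ≤ M := by
  obtain ⟨q, hq, x, hx, hxu⟩ := C.not_commute_all F hM (Or.inr (Or.inl rfl))
  haveI : Fact q.Prime := ⟨hq⟩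
  obtain ⟨L, hL, hle⟩ := C.exists_member F.swap (x := z) ⟨hzu, odd_orderOf (odd_Op p M) hz.1⟩ hz1
    (odd_orderOf (odd_Op q M) hx) (cen_commute hz hx).symm hxu
  have := C.eq_of_le F hM hmax hL fun r hr y hy => by
    haveI : Fact r.Prime := ⟨hr⟩
    exact C.mem_core_of_commute hL hle (odd_orderOf (odd_Op r M) hy) (cen_commute hz hy).symm
  subst this
  exact ⟨hL, hle⟩

/-- There are no members. -/
theorem no_member {M : Subgroup G} {t : G} (hM : IsMember M t) : False := by
  classical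
  obtain ⟨L0, s0, hL0, hA0⟩ := C.exists_caseA hM
  obtain ⟨⟨M, t⟩, ⟨hM, hA⟩, hmax⟩ := Set.exists_max_image
    {q : Subgroup G × G | IsMember q.1 q.2 ∧ CaseA q.1 q.2} (fun q => (sig q.1).card)
    (Set.toFinite _) ⟨(L0, s0), hL0, hA0⟩
  have hmax' : MaxPrimes M := fun L s h1 h2 => hmax (L, s) ⟨h1, h2⟩
  clear hmax hL0 hA0
  have hG := C.hG
  obtain ⟨p, hp, x, hx, hxt⟩ := hA
  haveI : Fact p.Prime := ⟨hp⟩
  obtain ⟨F, rfl, z, hz, hz1, hzu⟩ : ∃ F : Four G, F.t = t ∧ ∃ z ∈ cen p M, z ≠ 1 ∧ Commute z F.u := by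
    obtain ⟨F, rfl⟩ := C.exists_four hM.inv
    by_contra hc
    have hb : ∀ v, (v = F.u ∨ v = F.w) → piece (cen p M) v ≤ centralizer ({F.t} : Set G) := by
      rintro v hv z hz
      obtain ⟨hz1, hz2⟩ := mem_piece.1 hz
      by_cases h : z = 1
      · rw [h]; exact one_mem _
      exfalso
      rcases hv with rfl | rfl
      · exact hc ⟨F, rfl, z, hz1, h, hz2⟩
      · exact hc ⟨F.flip, rfl, z, hz1, h, hz2⟩
    exact hxt (mem_centralizer_singleton_iff.1 (F.le_of_pieces hG
      ((odd_Op p M).of_dvd_nat (card_dvd_of_le inf_le_left)) (hM.stab_cen p) inf_le_right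
      (hb _ (Or.inl rfl)) (hb _ (Or.inr rfl)) hx))
  obtain ⟨hMu, -⟩ := C.absorb F hM hmax' hz hz1 hzu
  -- no part at the third involution
  have hnw : ∀ q, q.Prime → ∀ c ∈ cen q M, Commute c F.w → c = 1 := by
    intro q hq c hc hcw
    haveI : Fact q.Prime := ⟨hq⟩
    by_contra h1
    obtain ⟨hMw, -⟩ := C.absorb F.flip hM hmax' hc h1 hcw
    refine C.no_three F hM fun v hv y hy => ?_
    rcases hv with rfl | rfl | rfl
    exacts [C.mem_core_of_oc hM hy, C.mem_core_of_oc hMu hy, C.mem_core_of_oc hMw hy]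
  -- the parts of `O(C(t))` and `O(C(u))` centralise the centres
  have hcentral : ∀ q, q.Prime → ∀ a, (OC F.t a ∨ OC F.u a) → ∀ c ∈ cen q M, Commute a c := by
    intro q hq a ha c hc
    haveI : Fact q.Prime := ⟨hq⟩
    have haR : a ∈ coreIn M := ha.elim (C.mem_core_of_oc hM) (C.mem_core_of_oc hMu)
    have hinvw : ∀ b, (OC F.t b ∨ OC F.u b) → F.w * b * F.w = b⁻¹ := fun b hb => by
      rcases hb with h | h
      · exact hG.inverts F.ht F.hw F.htw.symm F.ne_tw.symm h
      · exact hG.inverts F.hu F.hw F.huw.symm F.ne_uw.symm h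
    have hcw : ∀ k ∈ cen q M, F.w * k * F.w = k⁻¹ := by
      intro k hk
      set Pt := piece (cen q M) F.t
      set Pu := piece (cen q M) F.u
      have hcomm : ∀ a ∈ cen q M, ∀ b ∈ cen q M, Commute a b := fun a ha b hb => cen_commute ha hb.1
      have hnorm : Pt ≤ normalizer (Pu : Set G) := fun a ha => centralizer_le_normalizer _
        (mem_centralizer_iff.2 fun b hb => (hcomm b (mem_piece.1 hb).1 a (mem_piece.1 ha).1).eq)
      have hk' : k ∈ Pt ⊔ Pu := F.le_of_pieces hG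
        ((odd_Op q M).of_dvd_nat (card_dvd_of_le inf_le_left)) (hM.stab_cen q) le_sup_left
        le_sup_right (fun b hb => by
          rw [hnw q hq b (mem_piece.1 hb).1 (mem_piece.1 hb).2]; exact one_mem _) hk
      obtain ⟨a, ha, b, hb, rfl⟩ := (CfsgLib.Solvable.mem_sup_of_le_normalizer hnorm).1 hk'
      have ha' := hinvw a (Or.inl ⟨(mem_piece.1 ha).2, odd_orderOf (odd_Op q M) (mem_piece.1 ha).1.1⟩)
      have hb' := hinvw b (Or.inr ⟨(mem_piece.1 hb).2, odd_orderOf (odd_Op q M) (mem_piece.1 hb).1.1⟩)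
      calc F.w * (a * b) * F.w = (F.w * a * F.w) * (F.w * b * F.w) := by
            simp only [mul_assoc, ← mul_assoc F.w F.w, F.hw.1, one_mul]
        _ = (a * b)⁻¹ := by
            rw [ha', hb', ← mul_inv_rev, (hcomm a (mem_piece.1 ha).1 b (mem_piece.1 hb).1).eq]
    have hwi : F.w⁻¹ = F.w := F.hw.inv_eq
    have h1 : F.w * a * F.w⁻¹ = a⁻¹ := by rw [hwi]; exact hinvw a ha
    have h2 : F.w * c * F.w⁻¹ = c⁻¹ := by rw [hwi]; exact hcw c hc
    have h3 := hcw _ (conj_mem (le_normalizer_cen q M (coreIn_le M haR)) hc)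
    have h4 : F.w * (a * c * a⁻¹) * F.w⁻¹ = a⁻¹ * c⁻¹ * a := by
      rw [← conj_mul, ← conj_mul, ← conj_inv, h1, h2, inv_inv]
    rw [hwi, h3] at h4
    refine commute_of_sq (ha.elim (·.2) (·.2)) (Commute.inv_right_iff.1 ?_)
    show a * a * c⁻¹ = c⁻¹ * (a * a)
    calc a * a * c⁻¹ = a * (a * c * a⁻¹)⁻¹ * a := by group
      _ = a * (a⁻¹ * c⁻¹ * a) * a := by rw [h4]
      _ = _ := by group
  obtain ⟨g, g1, g2, -⟩ := C.cycle F
  -- conjugates of the centres
  have hconjt : ∀ {b : G}, OC F.u b → OC F.t (g⁻¹ * b * g) := fun {b} hb => ⟨by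
    have h := (Commute.conj_iff g⁻¹).2 hb.1
    rw [← g1] at h
    simpa [mul_assoc] using h, by
      have := CfsgLib.Invol.orderOf_conj_eq g⁻¹ b
      rw [inv_inv] at this
      rw [this]; exact hb.2⟩
  have hconju : ∀ {b : G}, OC F.w b → OC F.u (g⁻¹ * b * g) := fun {b} hb => ⟨by
    have h := (Commute.conj_iff g⁻¹).2 hb.1
    rw [← g2] at h
    simpa [mul_assoc] using h, by
      have := CfsgLib.Invol.orderOf_conj_eq g⁻¹ b
      rw [inv_inv] at this
      rw [this]; exact hb.2⟩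
  have hback : ∀ {a b : G}, Commute (g⁻¹ * a * g) b → Commute a (g * b * g⁻¹) := fun {a b} h => by
    have := (Commute.conj_iff g).2 h
    rwa [show g * (g⁻¹ * a * g) * g⁻¹ = a by group] at this
  set M' := M.map (MulAut.conj g).toMonoidHom with hM'
  have hM'u : IsMember M' F.u := g1 ▸ hM.conj g
  have hin : ∀ l, l.Prime → Op l M ≤ coreIn M' := by
    intro l hl
    haveI : Fact l.Prime := ⟨hl⟩
    obtain ⟨q, hq, hql⟩ := C.two_primes hM l
    obtain ⟨hqP, hqne⟩ := mem_sig.1 hq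
    haveI : Fact q.Prime := ⟨hqP⟩
    have key : cen q M ≤ (centralizer (Op l M : Set G)).comap (MulAut.conj g).toMonoidHom := by
      refine F.le_of_pieces hG ((odd_Op q M).of_dvd_nat (card_dvd_of_le inf_le_left)) (hM.stab_cen q)
        ?_ ?_ (fun c hc => by rw [hnw q hqP c (mem_piece.1 hc).1 (mem_piece.1 hc).2]; exact one_mem _)
      · intro c hc
        obtain ⟨hcc, hct⟩ := mem_piece.1 hc
        have hco := odd_orderOf (odd_Op q M) hcc.1
        have hc'u : OC F.u (g * c * g⁻¹) := ⟨by rw [← g1]; exact (Commute.conj_iff g).2 hct, by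
          rwa [CfsgLib.Invol.orderOf_conj_eq]⟩
        refine mem_centralizer_iff.2 fun x hx => (F.rot.swap.rot_commute hG (isPGroup_Op l M)
          (odd_Op l M) (hM.stab_Op l).rot.swap hc'u
          (coreIn_le_normalizer_Op l M (C.mem_core_of_oc hMu hc'u)) ?_ (fun y hy => ?_) x hx).eq.symm
        · rw [CfsgLib.Invol.orderOf_conj_eq]; exact orderOf_coprime (pow_mem_Op hcc.1) hql
        · obtain ⟨hyX, hyw⟩ := mem_piece.1 hy
          exact (hback (hcentral q hqP _ (Or.inr (hconju ⟨hyw, odd_orderOf (odd_Op l M) hyX⟩)) c hcc)).symm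
      · intro c hc
        obtain ⟨hcc, hcu⟩ := mem_piece.1 hc
        have hco := odd_orderOf (odd_Op q M) hcc.1
        show g * c * g⁻¹ ∈ centralizer (Op l M : Set G)
        by_cases hc1 : c = 1
        · rw [hc1, mul_one, mul_inv_cancel]; exact one_mem _
        have hc'w : OC F.w (g * c * g⁻¹) := ⟨by rw [← g2]; exact (Commute.conj_iff g).2 hcu, by
          rwa [CfsgLib.Invol.orderOf_conj_eq]⟩
        have hcom : ∀ b, OC F.u b → Commute b (g * c * g⁻¹) := fun b hb =>
          hback (hcentral q hqP _ (Or.inl (hconjt hb)) c hcc)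
        have hc'R : g * c * g⁻¹ ∈ coreIn M := by
          obtain ⟨-, hle⟩ := C.absorb F hM hmax' hcc hc1 hcu
          exact C.mem_core_of_commute hM hle hc'w.2 (hcom c ⟨hcu, hco⟩).symm
        refine mem_centralizer_iff.2 fun x hx => (F.rot.rot_commute hG (isPGroup_Op l M)
          (odd_Op l M) (hM.stab_Op l).rot hc'w (coreIn_le_normalizer_Op l M hc'R) ?_
          (fun y hy => ?_) x hx).eq.symm
        · rw [CfsgLib.Invol.orderOf_conj_eq]; exact orderOf_coprime (pow_mem_Op hcc.1) hql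
        · obtain ⟨hyX, hyu⟩ := mem_piece.1 hy
          exact (hcom y ⟨hyu, odd_orderOf (odd_Op l M) hyX⟩).symm
    intro x hx
    have hxo := odd_orderOf (odd_Op l M) hx
    refine coreIn_map_le_of M g ⟨g⁻¹ * x * g, ?_, by simp [mul_assoc]⟩
    refine C.mem_core_of_cen hM hqne (by
      have := CfsgLib.Invol.orderOf_conj_eq g⁻¹ x
      rw [inv_inv] at this
      rwa [this]) fun c hc => ?_
    have h1 : Commute x (g * c * g⁻¹) := mem_centralizer_iff.1 (key hc) x hx
    have h2 := (Commute.conj_iff g⁻¹).2 h1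
    simpa [mul_assoc] using h2
  have heq := C.eq_of_le F hM hmax' hM'u hin
  refine C.not_conj F hM g1 ?_
  have hne : M ≠ ⊥ := fun h => F.ht.2 (mem_bot.1 (h ▸ hM.mem_four.1))
  have hnM : normalizer (M : Set G) = M := (hM.max _ le_normalizer).resolve_right fun h => by
    haveI := C.simple
    rcases (normalizer_eq_top_iff.1 h).eq_bot_or_eq_top with h' | h'
    exacts [hne h', hM.ne_top h']
  rw [← hnM, CfsgLib.Bender.GSide.mem_norm_iff]
  exact heq

/-- A simple group in the context satisfies TI. -/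
theorem ti : TI G := by
  intro v x y hv hx1 hxo hyo hxv hyx
  by_contra hne
  obtain ⟨F, rfl⟩ := C.exists_four hv
  obtain ⟨L, hL, -⟩ := C.exists_member F ⟨hxv, hxo⟩ hx1 hyo hyx hne
  exact C.no_member hL

end Ctx

/-- A `DHyp` group with trivial core satisfies TI. -/
theorem DHyp.ti {G : Type u} [Group G] [Finite G] (hG : DHyp G) (hO : Cfsg.oddCore G = ⊥) :
    TI G := by
  suffices H : ∀ (n : ℕ) (K : Type u) [Group K] [Finite K], Nat.card K = n → DHyp K →
      Cfsg.oddCore K = ⊥ → TI K from H _ G rfl hG hO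
  intro n
  induction n using Nat.strong_induction_on with | _ n ih => ?_
  intro K _ _ hn hK hKO
  have IH : SmallTI K := fun L _ _ hlt h1 h2 => ih _ (hn ▸ hlt) L rfl h1 h2
  by_cases hs : Group.IsSolvable K
  · intro v x y hv hx1 hxo _ hxv _
    haveI := hs
    exact absurd (hK.eq_one_of_solvable hKO hv ⟨hxv, hxo⟩) hx1
  by_cases hsim : IsSimpleGroup K
  · exact Ctx.ti ⟨hK, hsim, fun h => hs (Group.isSolvable_of_comm fun a b => h.is_comm.comm a b), IH⟩
  · exact hK.ti_of_not_simple hKO hs hsim IH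

end CfsgLib.DGroup
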