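import Cfsg.Agent.DGroup.Ctx
import Cfsg.Agent.Classical.PSLTwoSub

/-!
# An involution with elementary abelian centraliser
-/

set_option autoImplicit false
set_option linter.style.haveILetI false
set_option linter.unusedSectionVars false
set_option linter.unusedSimpArgs false

namespace CfsgLib.DGroup

open Subgroup
open CfsgLib.NormCyclic (Inv)

universe u

section PGL

variable {F : Type} [Field F] [Finite F]

theorem mk_eq_one_iff (g : GL (Fin 2) F) :
    Matrix.ProjGenLinGroup.mk g = 1 ↔ ∃ c : F, (g : Matrix (Fin 2) (Fin 2) F) = c • 1 := by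
  refine Iff.trans (QuotientGroup.eq_one_iff g) ?_
  rw [Matrix.GeneralLinearGroup.center_eq_range_scalar]
  constructor
  · rintro ⟨u, rfl⟩
    exact ⟨u, by rw [Matrix.smul_one_eq_diagonal]; rfl⟩
  · rintro ⟨c, hc⟩
    have hc0 : c ≠ 0 := fun h => g.det_ne_zero (by rw [hc, h, zero_smul, Matrix.det_zero])
    exact ⟨Units.mk0 c hc0, Units.ext (by rw [hc, Matrix.smul_one_eq_diagonal]; rfl)⟩

/-- In characteristic two `PGL(2, F)` has no element of order four. -/
theorem no_order_four (h2 : (2 : F) = 0) {x : Matrix.ProjGenLinGroup (Fin 2) F}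
    (h : (x * x) * (x * x) = 1) : x * x = 1 := by
  obtain ⟨g, rfl⟩ := Matrix.ProjGenLinGroup.mk_surjective x
  rw [← map_mul] at h ⊢
  rw [← map_mul, mk_eq_one_iff] at h
  rw [mk_eq_one_iff]
  obtain ⟨c, hc⟩ := h
  simp only [Units.val_mul] at hc ⊢
  generalize (g : Matrix (Fin 2) (Fin 2) F) = A at hc ⊢
  have e01 := congrFun (congrFun hc 0) 1
  have e10 := congrFun (congrFun hc 1) 0
  have e00 := congrFun (congrFun hc 0) 0
  have e11 := congrFun (congrFun hc 1) 1
  simp [Matrix.mul_apply, Fin.sum_univ_two] at e00 e01 e10 e11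
  set T := A 0 0 + A 1 1 with hT
  have h01 : A 0 1 * T * T * T = 0 := by
    linear_combination e01 + (A 0 1 * (A 0 0 * A 1 1 - A 0 1 * A 1 0) * T) * h2
  have h10 : A 1 0 * T * T * T = 0 := by
    linear_combination e10 + (A 1 0 * (A 0 0 * A 1 1 - A 0 1 * A 1 0) * T) * h2
  have hdd : (A 0 0 - A 1 1) * T * T * T = 0 := by
    linear_combination e00 - e11 + ((A 0 0 - A 1 1) * (A 0 0 * A 1 1 - A 0 1 * A 1 0) * T) * h2
  refine ⟨(A 0 0 * A 0 0 + A 0 1 * A 1 0), ?_⟩
  by_cases hT0 : T = 0
  · have h11 : A 1 1 = A 0 0 := by linear_combination hT0 - A 0 0 * h2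
    ext i j; fin_cases i <;> fin_cases j <;> simp [Matrix.mul_apply, Fin.sum_univ_two, h11]
    · linear_combination A 0 0 * A 0 1 * h2
    · linear_combination A 0 0 * A 1 0 * h2
    · ring
  · have hT3 : T * T * T ≠ 0 := mul_ne_zero (mul_ne_zero hT0 hT0) hT0
    have z : ∀ a : F, a * T * T * T = 0 → a = 0 := fun a ha =>
      (mul_eq_zero.1 (by linear_combination ha : a * (T * T * T) = 0)).resolve_right hT3
    have a01 := z _ h01
    have a10 := z _ h10
    have a11 : A 1 1 = A 0 0 := by linear_combination -(z _ hdd)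
    ext i j; fin_cases i <;> fin_cases j <;> simp [Matrix.mul_apply, Fin.sum_univ_two, a01, a10, a11]

/-- In odd characteristic every involution of `PGL(2, F)`, `|F| > 3`, commutes with an element
which is not an involution. -/
theorem exists_commute_sq_ne (h2 : (2 : F) ≠ 0) (h3 : 3 < Nat.card F)
    {x : Matrix.ProjGenLinGroup (Fin 2) F} (hx : x * x = 1) (hx1 : x ≠ 1) :
    ∃ y, Commute y x ∧ y * y ≠ 1 := by
  obtain ⟨g, rfl⟩ := Matrix.ProjGenLinGroup.mk_surjective x
  rw [← map_mul, mk_eq_one_iff] at hx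
  obtain ⟨c, hc⟩ := hx
  have hns : ¬ ∃ c : F, (g : Matrix (Fin 2) (Fin 2) F) = c • 1 := fun h => hx1 ((mk_eq_one_iff g).2 h)
  have hdet : (g : Matrix (Fin 2) (Fin 2) F).det ≠ 0 := g.det_ne_zero
  simp only [Units.val_mul] at hc
  generalize hA : (g : Matrix (Fin 2) (Fin 2) F) = A at hc hns hdet
  have e01 := congrFun (congrFun hc 0) 1
  have e10 := congrFun (congrFun hc 1) 0
  have e00 := congrFun (congrFun hc 0) 0
  have e11 := congrFun (congrFun hc 1) 1
  simp [Matrix.mul_apply, Fin.sum_univ_two] at e00 e01 e10 e11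
  have htr : A 0 0 + A 1 1 = 0 := by
    by_contra htr
    have a01 : A 0 1 = 0 :=
      (mul_eq_zero.1 (by linear_combination e01 : A 0 1 * (A 0 0 + A 1 1) = 0)).resolve_right htr
    have a10 : A 1 0 = 0 :=
      (mul_eq_zero.1 (by linear_combination e10 : A 1 0 * (A 0 0 + A 1 1) = 0)).resolve_right htr
    have a11 : A 1 1 = A 0 0 := by
      have := (mul_eq_zero.1 (by linear_combination e00 - e11 :
        (A 0 0 - A 1 1) * (A 0 0 + A 1 1) = 0)).resolve_right htr
      linear_combination -this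
    exact hns ⟨A 0 0, by ext i j; fin_cases i <;> fin_cases j <;> simp [a01, a10, a11]⟩
  classical
  haveI : Fintype F := Fintype.ofFinite F
  -- a scalar `a ≠ 0` with `A + a` invertible
  obtain ⟨a, ha0, haD⟩ : ∃ a : F, a ≠ 0 ∧ a * a ≠ c := by
    by_contra hcon
    push Not at hcon
    obtain ⟨b, hb0, hb1, hb2⟩ : ∃ b : F, b ≠ 0 ∧ b ≠ 1 ∧ b ≠ -1 := by
      by_contra h; push Not at h
      have : Fintype.card F ≤ 3 := by
        rw [← Finset.card_univ]
        refine le_trans (Finset.card_le_card (t := ({0, 1, -1} : Finset F)) fun z _ => ?_)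
          Finset.card_le_three
        by_cases z0 : z = 0
        · simp [z0]
        by_cases z1 : z = 1
        · simp [z1]
        simp [h z z0 z1]
      rw [Nat.card_eq_fintype_card] at h3
      omega
    have h := (hcon b hb0).trans (hcon 1 one_ne_zero).symm
    rcases mul_self_eq_one_iff.1 (h.trans (mul_one 1)) with e | e
    exacts [hb1 e, hb2 e]
  set B : Matrix (Fin 2) (Fin 2) F := A + a • 1 with hB
  have hBdet : B.det ≠ 0 := by
    rw [Matrix.det_fin_two]
    simp [hB]
    intro h
    exact haD (by linear_combination h + e00 - (A 0 0 + a) * htr)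
  set k : GL (Fin 2) F := Matrix.GeneralLinearGroup.mkOfDetNeZero B hBdet with hk
  have hkB : (k : Matrix (Fin 2) (Fin 2) F) = B := rfl
  refine ⟨Matrix.ProjGenLinGroup.mk k, ?_, fun h => ?_⟩
  · refine Commute.map (Units.ext ?_) Matrix.ProjGenLinGroup.mk
    rw [Units.val_mul, Units.val_mul, hkB, hA, hB, add_mul, mul_add, Matrix.smul_mul, Matrix.one_mul,
      Matrix.mul_smul, Matrix.mul_one]
  · rw [← map_mul, mk_eq_one_iff] at h
    obtain ⟨d, hd⟩ := h
    rw [Units.val_mul, hkB] at hd
    have d01 := congrFun (congrFun hd 0) 1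
    have d10 := congrFun (congrFun hd 1) 0
    have d00 := congrFun (congrFun hd 0) 0
    have d11 := congrFun (congrFun hd 1) 1
    simp [hB, Matrix.mul_apply, Fin.sum_univ_two] at d00 d01 d10 d11
    have h2a : (2 : F) * a ≠ 0 := mul_ne_zero h2 ha0
    have a01 : A 0 1 = 0 := (mul_eq_zero.1 (by linear_combination d01 - A 0 1 * htr :
      (2 : F) * a * A 0 1 = 0)).resolve_left h2a
    have a10 : A 1 0 = 0 := (mul_eq_zero.1 (by linear_combination d10 - A 1 0 * htr :
      (2 : F) * a * A 1 0 = 0)).resolve_left h2a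
    have a11 : A 1 1 = A 0 0 := by
      have := (mul_eq_zero.1 (by linear_combination d00 - d11 - (A 0 0 - A 1 1) * htr :
        (2 : F) * a * (A 0 0 - A 1 1) = 0)).resolve_left h2a
      linear_combination -this
    exact hns ⟨A 0 0, by ext i j; fin_cases i <;> fin_cases j <;> simp [a01, a10, a11]⟩

end PGL

/-- A nonsolvable group has no involution with elementary abelian centraliser when another
involution is a square. -/
theorem DHyp.false_of_exp_two {X : Type u} [Group X] [Finite X] (hX : DHyp X) (hTI : TI X)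
    (hO : Cfsg.oddCore X = ⊥) (hns : ¬ Group.IsSolvable X) {u e : X} (hu : Inv u)
    (he : Inv (e * e)) (hC : ∀ c : X, Commute c u → c * c = 1) : False := by
  haveI : Nontrivial X := not_subsingleton_iff_nontrivial.1 fun h => hns inferInstance
  have hss : ∀ N : Subgroup X, N.Normal → Group.IsSolvable ↥N → N = ⊥ :=
    fun N h1 h2 => hX.no_solvable_normal hO hns N h1 h2
  obtain ⟨F, iF, iFt, h3, hiso⟩ := (hX.normCyclic hTI).recognition
    (fun H h => solvable_of_odd H h) hss
  rcases hiso with ⟨⟨φ⟩⟩ | ⟨⟨φ⟩⟩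
  · -- one class, so `u` is a square
    haveI : IsSimpleGroup (Matrix.ProjectiveSpecialLinearGroup (Fin 2) F) :=
      CfsgLib.Linear.PSLTwo.isSimple (by rw [Nat.card_eq_fintype_card]; omega)
    haveI : IsSimpleGroup X := CfsgLib.MinimalNormal.isSimpleGroup_iff_of_mulEquiv φ.symm
    obtain ⟨g, hg⟩ := hX.one_class (fun h => hns (Group.isSolvable_of_comm fun a b => h.is_comm.comm a b))
      he hu
    have hf : g * e * g⁻¹ * (g * e * g⁻¹) = u := by rw [conj_mul, hg]
    refine hu.2 (hf.symm.trans (hC _ ?_))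
    rw [← hf]
    exact ((Commute.refl _).mul_right (Commute.refl _))
  · by_cases h2 : (2 : F) = 0
    · refine he.2 (φ.injective ?_)
      rw [map_one, map_mul]
      exact no_order_four h2 (by rw [← map_mul, ← map_mul, he.1, map_one])
    · obtain ⟨y, hy, hy2⟩ := exists_commute_sq_ne h2 (by rw [Nat.card_eq_fintype_card]; exact h3)
        (x := φ u) (by rw [← map_mul, hu.1, map_one]) (fun h => hu.2 (φ.injective (by rw [h, map_one])))
      obtain ⟨c, rfl⟩ := φ.surjective y
      refine hy2 ?_
      rw [← map_mul, hC c (φ.injective (by rw [map_mul, map_mul]; exact hy.eq)), map_one]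

end CfsgLib.DGroup
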