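import Cfsg.Agent.DGroup.TopBase
import Cfsg.Agent.DGroup.FourCent
import Cfsg.Agent.DGroup.NoMember
import Cfsg.Agent.S0514
import Cfsg.Agent.S1221
import Cfsg.Agent.Invol.ThompsonTransfer

/-!
# The base at one involution spreads to all involutions
-/

set_option autoImplicit false
set_option linter.style.haveILetI false
set_option linter.unusedSectionVars false

namespace CfsgLib.DGroup

open Subgroup
open CfsgLib.NormCyclic (Inv)

universe u

variable {G : Type u} [Group G] [Finite G]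

/-- The induction hypothesis for spreading a base. -/
def SmallBase (G : Type u) [Group G] : Prop :=
  ∀ (K : Type u) [Group K] [Finite K], Nat.card K < Nat.card G → Cfsg.oddCore K = ⊥ →
    ¬ Group.IsSolvable K → ∀ (t : K) (A : Subgroup K), Inv t → IsBase t A → DHyp K

theorem isPGroup_zpowers_inv {v : G} (hv : Inv v) : IsPGroup 2 (zpowers v) :=
  haveI : Fact (Nat.Prime 2) := ⟨Nat.prime_two⟩
  IsPGroup.of_card (n := 1) (by rw [Nat.card_zpowers, hv.orderOf, pow_one])

/-- Involutions are conjugate into any Sylow 2-subgroup. -/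
theorem exists_conj_mem_sylow (S : Sylow 2 G) {v : G} (hv : Inv v) :
    ∃ b : G, b * v * b⁻¹ ∈ (S : Subgroup G) := by
  haveI : Fact (Nat.Prime 2) := ⟨Nat.prime_two⟩
  obtain ⟨R, hR⟩ := (isPGroup_zpowers_inv hv).exists_le_sylow
  obtain ⟨b, hb⟩ := MulAction.exists_smul_eq G R S
  exact ⟨b, by rw [← hb]; exact ⟨v, hR (mem_zpowers v), rfl⟩⟩

/-- Bases on a Sylow 2-subgroup give `DHyp`. -/
theorem dhyp_of_sylow (S : Sylow 2 G)
    (h : ∀ v ∈ (S : Subgroup G), Inv v → ∃ B : Subgroup G, IsBase v B) : DHyp G := by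
  intro v hv
  obtain ⟨b, hb⟩ := exists_conj_mem_sylow S hv
  obtain ⟨B, hB⟩ := h _ hb (hv.conj b)
  have := hB.conj b⁻¹
  rw [show b⁻¹ * (b * v * b⁻¹) * b⁻¹⁻¹ = v by group] at this
  exact ⟨_, this⟩

namespace IsBase

variable {t : G} {A : Subgroup G} (hA : IsBase t A)
include hA

/-- Without roots a 2-subgroup centralising `t` meets `A` in `⟨t⟩`. -/
theorem mem_two (hno : ¬ HasRoot t) {P : Subgroup G} (hP : IsPGroup 2 P) {x : G} (hxP : x ∈ P)
    (hxA : x ∈ A) : x = 1 ∨ x = t := by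
  refine or_iff_not_imp_left.2 fun hx1 => hA.invol x hxA ?_ hx1
  obtain ⟨k, hk⟩ := hP ⟨x, hxP⟩
  have hk' : x ^ 2 ^ k = 1 := congrArg Subtype.val hk
  by_contra hxx
  classical
  have hex : ∃ i, x ^ 2 ^ i = 1 := ⟨k, hk'⟩
  have h0 := Nat.find_spec hex
  have hmin := fun i => Nat.find_min hex (m := i)
  rcases hi : Nat.find hex with _ | _ | i
  · rw [hi, pow_zero, pow_one] at h0; exact hx1 h0
  · rw [hi, pow_one, pow_two] at h0; exact hxx h0
  · rw [hi] at h0
    refine hno ⟨x ^ 2 ^ i, hA.invol _ (mul_mem (pow_mem hxA _) (pow_mem hxA _)) ?_ fun e => ?_⟩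
    · rw [← pow_add, ← pow_add, ← h0]; congr 1; ring
    · refine hmin (i + 1) (by omega) ?_
      rw [← e, ← pow_add]; congr 1; ring

/-- A 2-subgroup of `C(t)` is abelian when `t` has no root. -/
theorem two_comm (hno : ¬ HasRoot t) {P : Subgroup G} (hP : IsPGroup 2 P)
    (hPt : ∀ x ∈ P, Commute x t) : ∀ x ∈ P, ∀ y ∈ P, Commute x y := by
  intro x hx y hy
  by_cases hxA : x ∈ A
  · rcases hA.mem_two hno hP hx hxA with rfl | rfl
    exacts [Commute.one_left y, (hPt y hy).symm]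
  by_cases hyA : y ∈ A
  · rcases hA.mem_two hno hP hy hyA with rfl | rfl
    exacts [Commute.one_right x, hPt x hx]
  rcases hA.mem_two hno hP (mul_mem hx hy) (hA.two x y (hPt x hx) (hPt y hy) hxA hyA) with h | h
  · rw [eq_inv_of_mul_eq_one_right h]; exact (Commute.refl x).inv_right
  · rw [show y = x⁻¹ * t by rw [← h, inv_mul_cancel_left]]
    exact (Commute.refl x).inv_right.mul_right (hPt x hx)

/-- A 2-subgroup through `u` of `C(t)` lies in the four group. -/
theorem two_mem (hno : ¬ HasRoot t) {P : Subgroup G} (hP : IsPGroup 2 P) {u : G} (hu : Inv u)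
    (hut : Commute u t) (hne : u ≠ t) (huP : u ∈ P) {x : G} (hxP : x ∈ P) (hxt : Commute x t) :
    x = 1 ∨ x = t ∨ x = u ∨ x = t * u := by
  by_cases hxA : x ∈ A
  · exact (hA.mem_two hno hP hxP hxA).imp_right Or.inl
  rcases hA.mem_two hno hP (mul_mem hxP huP) (hA.two x u hxt hut hxA (hA.not_mem hu hne)) with h | h
  · exact Or.inr (Or.inr (Or.inl (by rw [eq_inv_of_mul_eq_one_left h, hu.inv_eq])))
  · exact Or.inr (Or.inr (Or.inr (by rw [← h, mul_assoc, hu.1, mul_one])))

/-- A central involution other than `t` is impossible. -/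
theorem false_of_central (IH : SmallBase G) (hns : ¬ Group.IsSolvable G) (ht : Inv t) {z y : G}
    (hz : Inv z) (hne : z ≠ t) (hzc : ∀ g : G, Commute g z) (hyt : y * t * y⁻¹ = t * z) :
    False := by
  haveI : Fact (Nat.Prime 2) := ⟨Nat.prime_two⟩
  set Z := zpowers z with hZ
  haveI hZn : Z.Normal := ⟨fun x hx g => by
    obtain ⟨i, rfl⟩ := mem_zpowers_iff.1 hx
    rw [((hzc g).zpow_right i).eq, mul_inv_cancel_right]
    exact zpow_mem (mem_zpowers z) i⟩
  have hZm : ∀ x ∈ Z, x = 1 ∨ x = z := by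
    intro x hx
    obtain ⟨i, rfl⟩ := mem_zpowers_iff.1 hx
    rcases Int.even_or_odd i with ⟨j, rfl⟩ | ⟨j, rfl⟩
    · left; rw [← two_mul, zpow_mul, zpow_two, hz.1, one_zpow]
    · right; rw [zpow_add, zpow_mul, zpow_two, hz.1, one_zpow, one_mul, zpow_one]
  set π := QuotientGroup.mk' Z with hπ
  have heq : ∀ {a b : G}, π a = π b → b = a ∨ b = a * z := fun {a b} h => by
    have hm : a⁻¹ * b ∈ Z := QuotientGroup.eq.1 h
    rcases hZm _ hm with e | e
    · exact Or.inl (inv_mul_eq_one.1 e).symm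
    · exact Or.inr (by rw [← e, mul_inv_cancel_left])
  set τ := π t with hτ
  have hτI : Inv τ := ⟨by rw [← map_mul, ht.1, map_one], fun e => by
    rcases hZm t ((QuotientGroup.eq_one_iff t).1 e) with h | h
    exacts [ht.2 h, hne h.symm]⟩
  -- the centraliser of `t` is the four group
  have hcent : ∀ g : G, Commute g t → g = 1 ∨ g = t ∨ g = z ∨ g = t * z := fun g hg =>
    hA.four_cent hz (hzc t).symm hne hg (hzc g)
  have htz : π (t * z) = τ := by
    rw [map_mul, (QuotientGroup.eq_one_iff z).2 (mem_zpowers z) |> fun h => (h : π z = 1), mul_one]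
  have hπz : π z = 1 := (QuotientGroup.eq_one_iff z).2 (mem_zpowers z)
  set η := π y with hη
  have hyη : Commute η τ := by
    refine mul_inv_eq_iff_eq_mul.1 ?_
    rw [← map_inv, ← map_mul, ← map_mul, hyt, htz]
  have hycomm : ¬ Commute y t := fun h => by
    rw [h.eq, mul_inv_cancel_right] at hyt
    exact hz.2 (mul_eq_left.1 hyt.symm)
  -- the centraliser of the image
  have hC : ∀ c, Commute c τ → c = 1 ∨ c = τ ∨ c = η ∨ c = η * τ := by
    intro c hc
    obtain ⟨g, rfl⟩ := QuotientGroup.mk'_surjective Z c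
    have h1 : π (g * t * g⁻¹) = π t := by
      rw [map_mul, map_mul, map_inv, hc.eq, mul_inv_cancel_right]
    have h4 : ∀ v : G, (v = 1 ∨ v = t ∨ v = z ∨ v = t * z) → π v = 1 ∨ π v = τ := by
      rintro v (rfl | rfl | rfl | rfl)
      exacts [Or.inl (map_one π), Or.inr rfl, Or.inl hπz, Or.inr htz]
    rcases heq h1.symm with e | e
    · exact (h4 g (hcent g (mul_inv_eq_iff_eq_mul.1 e))).imp_right Or.inl
    · have : Commute (y⁻¹ * g) t := mul_inv_eq_iff_eq_mul.1 (by
        rw [show y⁻¹ * g * t * (y⁻¹ * g)⁻¹ = y⁻¹ * (g * t * g⁻¹) * y by group, e, ← hyt]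
        group)
      rcases h4 _ (hcent _ this) with h | h
      · exact Or.inr (Or.inr (Or.inl (by
          rw [map_mul, map_inv, inv_mul_eq_one] at h; exact h.symm)))
      · exact Or.inr (Or.inr (Or.inr (by rw [← h, map_mul, map_inv, mul_inv_cancel_left])))
  have hη2 : η * η = 1 := by
    rcases hC _ (hyη.mul_left hyη) with h | h | h | h
    · exact h
    · exfalso
      rw [← map_mul] at h
      rcases heq h with e | e
      · exact hycomm (by rw [e]; exact (Commute.refl y).mul_right (Commute.refl y))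
      · refine hycomm ?_
        rw [e]
        exact ((Commute.refl y).mul_right (Commute.refl y)).mul_right (hzc y)
    · rw [mul_eq_left.1 h, one_mul]
    · have hητ : η = τ := mul_left_cancel h
      rw [hητ, hτI.1]
  have hsq : ∀ c, Commute c τ → c * c = 1 := by
    intro c hc
    rcases hC c hc with rfl | rfl | rfl | rfl
    · exact one_mul 1
    · exact hτI.1
    · exact hη2
    · rw [hyη.symm.mul_mul_mul_comm, hη2, hτI.1, mul_one]
  have hηne : η ≠ 1 ∧ η ≠ τ := by
    refine ⟨fun h => ?_, fun h => hycomm ?_⟩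
    · rcases hZm y ((QuotientGroup.eq_one_iff y).1 h) with e | e
      · exact hycomm (e ▸ Commute.one_left t)
      · exact hycomm (e ▸ (hzc t).symm)
    · rcases heq h.symm with e | e
      · rw [e]
      · rw [e]; exact (Commute.refl t).mul_left (hzc t).symm
  have hτz : ∀ i, i ∈ zpowers τ → i = 1 ∨ i = τ := fun i hi => by
    obtain ⟨k, rfl⟩ := mem_zpowers_iff.1 hi
    rcases Int.even_or_odd k with ⟨j, rfl⟩ | ⟨j, rfl⟩
    · left; rw [← two_mul, zpow_mul, zpow_two, hτI.1, one_zpow]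
    · right; rw [zpow_add, zpow_mul, zpow_two, hτI.1, one_zpow, one_mul, zpow_one]
  have hB : IsBase τ (zpowers τ) := by
    refine ⟨fun x hx => ?_, mem_zpowers τ, fun x hx w hw => ?_, fun x hx _ h1 => (hτz x hx).resolve_left h1,
      fun x hx _ => hsq x hx, fun x w hx hw hxA hwA => ?_⟩
    · rcases hτz x hx with rfl | rfl
      exacts [Commute.one_left _, Commute.refl _]
    · rcases hτz x hx with rfl | rfl <;> rcases hτz w hw with rfl | rfl
      exacts [Commute.one_left _, Commute.one_left _, Commute.one_right _, Commute.refl _]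
    · have hcase : ∀ v, Commute v τ → v ∉ zpowers τ → v = η ∨ v = η * τ := fun v hv hvA => by
        rcases hC v hv with rfl | rfl | h
        · exact absurd (one_mem _) hvA
        · exact absurd (mem_zpowers _) hvA
        · exact h
      rcases hcase x hx hxA with rfl | rfl <;> rcases hcase w hw hwA with rfl | rfl
      · rw [hη2]; exact one_mem _
      · rw [← mul_assoc, hη2, one_mul]; exact mem_zpowers τ
      · rw [mul_assoc, ← hyη.eq, ← mul_assoc, hη2, one_mul]; exact mem_zpowers τ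
      · rw [hyη.symm.mul_mul_mul_comm, hη2, hτI.1, mul_one]; exact one_mem _
  have hnsq : ¬ Group.IsSolvable (G ⧸ Z) := fun h => hns (by
    haveI : Group.IsSolvable Z := Group.isSolvable_of_comm fun a b => by
      rcases hZm _ a.2 with e | e <;> rcases hZm _ b.2 with e' | e' <;>
        exact Subtype.ext (by simp [e, e'])
    exact (Group.isSolvable_iff_subgroup_quotient Z).2 ⟨inferInstance, h⟩)
  -- a 2-subgroup through the images
  have hp4 : IsPGroup 2 (closure ({τ, η} : Set (G ⧸ Z))) := by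
    have hle : ∀ x ∈ closure ({τ, η} : Set (G ⧸ Z)), Commute x τ := fun x hx => by
      induction hx using closure_induction with
      | mem a ha => rcases ha with rfl | rfl; exacts [Commute.refl _, hyη]
      | one => exact Commute.one_left _
      | inv a _ iha => exact iha.inv_left
      | mul a b _ _ iha ihb => exact iha.mul_left ihb
    intro x
    exact ⟨1, Subtype.ext (by rw [pow_one, pow_two]; exact hsq _ (hle _ x.2))⟩
  obtain ⟨P, hP⟩ := hp4.exists_le_sylow
  have hτP : τ ∈ (P : Subgroup (G ⧸ Z)) := hP (subset_closure (Or.inl rfl))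
  have hηP : η ∈ (P : Subgroup (G ⧸ Z)) := hP (subset_closure (Or.inr rfl))
  by_cases hexp : ∀ s ∈ (P : Subgroup (G ⧸ Z)), s * s = 1
  · -- a four Sylow subgroup: the lifts would commute
    have hPfour : ∀ x ∈ (P : Subgroup (G ⧸ Z)), x = 1 ∨ x = τ ∨ x = η ∨ x = τ * η := by
      intro x hx
      have hxτ : Commute x τ := by
        have h1 := hexp _ (mul_mem hx hτP)
        calc x * τ = (x * τ)⁻¹ := eq_inv_of_mul_eq_one_left h1
          _ = τ * x := by
            rw [mul_inv_rev, hτI.inv_eq, inv_eq_of_mul_eq_one_right (hexp x hx)]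
      rw [← hyη.eq]
      exact hC x hxτ
    obtain ⟨hf1, hf2⟩ := fused_of_four_sylow P hnsq hτP hηP hτI.2 hPfour hyη.symm fun g _ hg => by
      rcases hC g hg with rfl | rfl | rfl | rfl
      exacts [Commute.one_left _, hyη.symm, Commute.refl _, (Commute.refl _).mul_left hyη.symm]
    have hlift : ∀ {b : G}, Fused τ (π b) → b * b = 1 := by
      intro b hf
      obtain ⟨g, hg⟩ := hf
      obtain ⟨g, rfl⟩ := QuotientGroup.mk'_surjective Z g
      rw [← map_inv, ← map_mul, ← map_mul] at hg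
      rcases heq hg with e | e <;> rw [e]
      · exact (ht.conj g).1
      · rw [(hzc _).symm.mul_mul_mul_comm, (ht.conj g).1, hz.1, mul_one]
    have hy1 : y * y = 1 := hlift hf1
    have hty1 : t * y * (t * y) = 1 := hlift (b := t * y) (by rw [map_mul]; exact hf2)
    refine hycomm ?_
    calc y * t = (t * y)⁻¹ := by rw [mul_inv_rev, ht.inv_eq, inv_eq_of_mul_eq_one_right hy1]
      _ = t * y := inv_eq_of_mul_eq_one_right hty1
  · -- some involution is a square
    push Not at hexp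
    obtain ⟨s, hs, hss⟩ := hexp
    obtain ⟨k, hk⟩ := P.2 ⟨s, hs⟩
    have hk' : s ^ 2 ^ k = 1 := congrArg Subtype.val hk
    obtain ⟨e, he⟩ : ∃ e : G ⧸ Z, Inv (e * e) := by
      classical
      have hex : ∃ i, s ^ 2 ^ i = 1 := ⟨k, hk'⟩
      have h0 := Nat.find_spec hex
      have hmin := fun i => Nat.find_min hex (m := i)
      rcases hi : Nat.find hex with _ | _ | i
      · rw [hi, pow_zero, pow_one] at h0; exact absurd (by rw [h0, one_mul]) hss
      · rw [hi, pow_one, pow_two] at h0; exact absurd h0 hss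
      · rw [hi] at h0
        refine ⟨s ^ 2 ^ i, ?_, fun h => hmin (i + 1) (by omega) ?_⟩
        · rw [← pow_add, ← pow_add, ← h0]; congr 1; ring
        · rw [← h, ← pow_add]; congr 1; ring
    haveI := normal_oddCore (G ⧸ Z)
    set N := Cfsg.oddCore (G ⧸ Z) with hN
    have hNo : Odd (Nat.card N) := odd_oddCore _
    have hns' : ¬ Group.IsSolvable ((G ⧸ Z) ⧸ N) := fun h => hnsq (by
      haveI := solvable_of_odd N hNo
      exact (Group.isSolvable_iff_subgroup_quotient N).2 ⟨inferInstance, h⟩)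
    have hlt : Nat.card ((G ⧸ Z) ⧸ N) < Nat.card G :=
      lt_of_le_of_lt (Nat.card_le_card_of_surjective _ QuotientGroup.mk_surjective)
        (CfsgLib.Solvable.card_quotient_lt fun h => hz.2 (zpowers_eq_bot.1 h))
    have hO : Cfsg.oddCore ((G ⧸ Z) ⧸ N) = ⊥ := CfsgLib.LocalB.oddCore_quotient
    have hX := IH _ hlt hO hns' _ _ (mk_inv hNo hτI) (hB.map_quot hNo hτI)
    refine hX.false_of_exp_two (hX.ti hO) hO hns' (mk_inv hNo hτI) (e := (QuotientGroup.mk e))
      (by rw [← QuotientGroup.mk_mul]; exact mk_inv hNo he) fun c hc => ?_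
    obtain ⟨g, rfl⟩ := QuotientGroup.mk_surjective c
    obtain ⟨c, hc', hcg⟩ := cent_lift hNo hτI hc
    rw [← hcg, ← QuotientGroup.mk_mul, hsq c hc', QuotientGroup.mk_one]

/-- The dihedral configuration. -/
theorem dhyp_of_dihedral (hO : Cfsg.oddCore G = ⊥) (ht : Inv t) (S : Sylow 2 G) {z y : G}
    (hz : Inv z) (hzS : ∀ x ∈ (S : Subgroup G), Commute x z) (hzt : ¬ Fused t z)
    (htS : t ∈ (S : Subgroup G)) (hzmem : z ∈ (S : Subgroup G))
    (hScent : ∀ x ∈ (S : Subgroup G), Commute x t → x = 1 ∨ x = t ∨ x = z ∨ x = t * z)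
    (hne : ∃ h ∈ (S : Subgroup G), ¬ Commute h t ∧ Fused t (t * z))
    (hy : y ∈ (S : Subgroup G)) (hyne : y ≠ z) {g₀ : G} (hg₀ : g₀ * z * g₀⁻¹ = y) : DHyp G := by
  haveI : Fact (Nat.Prime 2) := ⟨Nat.prime_two⟩
  obtain ⟨h₀, hh₀, hh₀t, htzf⟩ := hne
  have hyI : Inv y := hg₀ ▸ hz.conj g₀
  have hyf : Fused z y := ⟨g₀, hg₀⟩
  have hty : ¬ Fused t y := fun h => hzt (h.trans hyf.symm)
  have htyne : t ≠ y := fun e => hty (e ▸ Fused.refl t)
  have hzne : z ≠ t := fun e => hzt (e ▸ Fused.refl t)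
  set c := t * y with hc
  have hinv : t * c * t⁻¹ = c⁻¹ := CfsgLib.Invol.conj_mul_inv ht.orderOf hyI.orderOf
  have hct : ∀ k : ℤ, c ^ k * t = t * c ^ (-k) := fun k => by
    have := CfsgLib.Invol.conj_zpow_of_inverts hinv k
    rw [← this, ht.inv_eq, ← mul_assoc, ← mul_assoc, ht.1, one_mul]
  have hcS : c ∈ (S : Subgroup G) := mul_mem htS hy
  -- `c` has even order more than two
  have hncy : ¬ Commute y t := fun h => by
    rcases hScent y hy h with e | e | e | e
    · exact hyI.2 e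
    · exact htyne e.symm
    · exact hyne e
    · exact hty (e ▸ htzf)
  have hc2 : c * c ≠ 1 := fun h => hncy (by
    show y * t = t * y
    rw [show y * t = (t * y)⁻¹ by rw [mul_inv_rev, ht.inv_eq, hyI.inv_eq]]
    exact inv_eq_of_mul_eq_one_right h)
  have hpow_inv : ∀ k : ℤ, c ^ k * c ^ k = 1 → c ^ k ≠ 1 → c ^ k = z := by
    intro k h1 h2
    have hcomm : Commute (c ^ k) t := by
      show c ^ k * t = t * c ^ k
      rw [hct, zpow_neg, inv_eq_of_mul_eq_one_right h1]
    have hnot := CfsgLib.Invol.not_mem_zpowers ht.orderOf hyI.orderOf htyne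
    have hmem : c ^ k ∈ zpowers c := zpow_mem (mem_zpowers c) k
    rcases hScent _ (zpow_mem hcS k) hcomm with e | e | e | e
    · exact absurd e h2
    · exact absurd (by rw [e] at hmem; exact hmem) hnot
    · exact e
    · exfalso
      -- `z` is an even power, so `t` would be a power
      obtain ⟨j, hj⟩ := IsPGroup.iff_orderOf.1 S.2 ⟨c, hcS⟩
      rw [Subgroup.orderOf_mk] at hj
      have hev : Even (orderOf c) := by
        rcases j with _ | j
        · exact absurd (by rw [orderOf_eq_one_iff.1 (hj.trans (pow_zero 2)), one_mul]) hc2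
        · exact ⟨2 ^ j, by rw [hj, pow_succ]; ring⟩
      obtain ⟨h2', hh1, -⟩ := CfsgLib.Invol.half_props ht.orderOf hyI.orderOf hev
      have hh2 := Inv.of_orderOf h2'
      rcases hScent _ (pow_mem hcS _) hh1 with e' | e' | e' | e'
      · exact hh2.2 e'
      · have hm : (t * y) ^ (orderOf (t * y) / 2) ∈ zpowers (t * y) := pow_mem (mem_zpowers _) _
        rw [e'] at hm
        exact hnot hm
      · refine hnot ?_
        have : t = c ^ k * c ^ (orderOf c / 2) := by
          show t = c ^ k * (t * y) ^ (orderOf c / 2)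
          rw [e, e', mul_assoc, hz.1, mul_one]
        have hm := mul_mem hmem (pow_mem (mem_zpowers c) (orderOf c / 2))
        rw [← this] at hm
        exact hm
      · have hh3 := hzS t htS
        refine hncy ?_
        have hyc : Commute y (t * z) := by
          rw [← e']
          exact ((CfsgLib.Invol.half_props ht.orderOf hyI.orderOf hev).2.2).symm
        have := hyc.mul_right (hzS y hy)
        rwa [mul_assoc, hz.1, mul_one] at this
  obtain ⟨j, hj⟩ : ∃ j, orderOf c = 2 ^ (j + 2) := by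
    obtain ⟨j, hj⟩ := IsPGroup.iff_orderOf.1 S.2 ⟨c, hcS⟩
    rw [Subgroup.orderOf_mk] at hj
    rcases j with _ | _ | j
    · exact absurd (by rw [orderOf_eq_one_iff.1 (hj.trans (pow_zero 2)), one_mul]) hc2
    · exact absurd (by rw [← pow_two]; exact orderOf_dvd_iff_pow_eq_one.1 hj.dvd) hc2
    · exact ⟨j, hj⟩
  set d := c ^ 2 ^ j with hd
  have hdz : d * d = z := by
    have := hpow_inv ((2 ^ j + 2 ^ j : ℕ) : ℤ) (by
      rw [zpow_natCast, ← pow_add, ← orderOf_dvd_iff_pow_eq_one, hj, pow_succ, pow_succ]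
      exact Dvd.intro 1 (by ring)) (by
      rw [zpow_natCast, ← two_mul, ← pow_succ']
      exact fun h => absurd (Nat.le_of_dvd (by positivity) (hj ▸ orderOf_dvd_of_pow_eq_one h))
        (not_le.2 (Nat.pow_lt_pow_right (by norm_num) (by omega))))
    rwa [zpow_natCast, pow_add] at this
  -- the Sylow subgroup is the dihedral group on `t`, `y`
  set D := closure ({t, y} : Set G) with hD
  have hDS : D ≤ S := (closure_le _).2 (by rintro x (rfl | rfl); exacts [htS, hy])
  have htD : t ∈ D := subset_closure (Or.inl rfl)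
  have hyD : y ∈ D := subset_closure (Or.inr rfl)
  have hcD : c ∈ D := mul_mem htD hyD
  have hzD : z ∈ D := hdz ▸ mul_mem (pow_mem hcD _) (pow_mem hcD _)
  have hrefl : ∀ i : ℤ, c ^ (-i) * t * (c ^ (-i))⁻¹ = t * c ^ (2 * i) := fun i => by
    rw [CfsgLib.Invol.zpow_conj_invol ht.1 hinv, mul_neg, neg_neg]
  have hrefl' : ∀ i : ℤ, c ^ (-i) * y * (c ^ (-i))⁻¹ = t * c ^ (2 * i + 1) := fun i => by
    have hy' : y = t * c := by rw [hc, ← mul_assoc, ht.1, one_mul]
    rw [hy', ← conj_mul, hrefl, ((Commute.refl c).zpow_left (-i)).eq, mul_inv_cancel_right,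
      zpow_add, zpow_one, mul_assoc]
  have hSD : (S : Subgroup G) = D := by
    by_contra hne
    obtain ⟨N, hlt, hNS, hNn⟩ := CfsgLib.Bender.GSide.exists_between
      (lt_of_le_of_ne hDS (Ne.symm hne)) S.2
    obtain ⟨h, hh, hhD⟩ := SetLike.exists_of_lt hlt
    have hhS := hNS hh
    have hVD : ∀ x ∈ (S : Subgroup G), Commute x t → x ∈ D := fun x hx hxt => by
      rcases hScent x hx hxt with rfl | rfl | rfl | rfl
      exacts [one_mem _, htD, hzD, mul_mem htD hzD]
    have himg : h * t * h⁻¹ ∈ D := conj_mem (hNn hh) htD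
    rcases (CfsgLib.Invol.mem_closure_pair_iff ht.orderOf hyI.orderOf).1 himg with ⟨k, hk⟩ | ⟨k, hk⟩
    · -- a rotation
      have hcomm : Commute (h⁻¹ * c * h) t := by
        have h1 : Commute c (h * t * h⁻¹) := by
          rw [hk]; exact (Commute.refl c).zpow_right k
        have := (Commute.conj_iff h⁻¹).2 h1
        simpa [mul_assoc] using this
      have hmem : h⁻¹ * c * h ∈ D := conj_mem' (hNn hh) hcD
      have hsq : h⁻¹ * c * h * (h⁻¹ * c * h) = 1 := by
        rcases hScent _ (hDS hmem) hcomm with e | e | e | e <;> rw [e]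
        · exact one_mul 1
        · exact ht.1
        · exact hz.1
        · exact (ht.mul hz (hzS t htS) hzne.symm).1
      refine hc2 ?_
      calc c * c = h * (h⁻¹ * c * h * (h⁻¹ * c * h)) * h⁻¹ := by group
        _ = 1 := by rw [hsq]; group
    · rcases Int.even_or_odd k with ⟨i, rfl⟩ | ⟨i, rfl⟩
      · rw [← two_mul, ← hrefl] at hk
        have hcomm : Commute ((c ^ (-i))⁻¹ * h) t := mul_inv_eq_iff_eq_mul.1 (by
          rw [show (c ^ (-i))⁻¹ * h * t * ((c ^ (-i))⁻¹ * h)⁻¹ =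
            (c ^ (-i))⁻¹ * (h * t * h⁻¹) * c ^ (-i) by group, show h * t * h⁻¹ = _ from hk]
          group)
        have := hVD _ (mul_mem (inv_mem (zpow_mem hcS _)) hhS) hcomm
        exact hhD (by simpa using mul_mem (zpow_mem hcD (-i)) this)
      · rw [← hrefl'] at hk
        exact hty (Fused.trans ⟨h, hk⟩ (Fused.symm ⟨_, rfl⟩))
  have hSmem : ∀ x ∈ (S : Subgroup G), (∃ k : ℤ, x = c ^ k) ∨ ∃ k : ℤ, x = t * c ^ k := fun x hx =>
    (CfsgLib.Invol.mem_closure_pair_iff ht.orderOf hyI.orderOf).1 (by rw [hSD] at hx; exact hx)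
  -- classes of the involutions of `S`
  have hclass : ∀ x ∈ (S : Subgroup G), Inv x → x = z ∨ Fused t x ∨
      ∃ i : ℤ, c ^ (-i) * y * (c ^ (-i))⁻¹ = x := by
    intro x hx hxI
    rcases hSmem x hx with ⟨k, rfl⟩ | ⟨k, rfl⟩
    · exact Or.inl (hpow_inv k hxI.1 hxI.2)
    · rcases Int.even_or_odd k with ⟨i, rfl⟩ | ⟨i, rfl⟩
      · exact Or.inr (Or.inl ⟨c ^ (-i), by rw [hrefl, two_mul]⟩)
      · exact Or.inr (Or.inr ⟨i, hrefl' i⟩)
  -- the centraliser of `z`
  set K := centralizer ({z} : Set G) with hK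
  have memK : ∀ {x : G}, x ∈ K ↔ Commute x z := fun {x} => by
    rw [hK, mem_centralizer_singleton_iff]; rfl
  have hSK : (S : Subgroup G) ≤ K := fun x hx => memK.2 (hzS x hx)
  obtain ⟨R', hR'n, hR'o, e, he⟩ := Cfsg.Agent.S0514.result S (orderOf c)
    (by rw [hj]; calc 2 = 2 ^ 1 := rfl
      _ ≤ 2 ^ (j + 2) := Nat.pow_le_pow_right two_pos (by omega))
    (by rw [hSD]; exact CfsgLib.Invol.nonempty_dihedral_equiv ht.orderOf hyI.orderOf htyne)
    z hz.orderOf
  haveI := hR'n
  have hall : ∀ x : K, Odd (orderOf x) → x ∈ R' := fun x hx => by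
    have h1 : x ^ 2 ^ e ∈ R' := he ▸ R'.pow_index_mem x
    obtain ⟨i, hi⟩ := exists_pow_eq_self_of_coprime ((Nat.coprime_two_left.2 hx).pow_left e)
    exact hi ▸ pow_mem h1 i
  set R := R'.map K.subtype with hR
  have hRo : Odd (Nat.card R) := by rw [hR, card_map_of_injective K.subtype_injective]; exact hR'o
  have hRK : R ≤ K := map_subtype_le _
  have hRn : K ≤ normalizer (R : Set G) := fun g hg =>
    le_normalizer_map K.subtype ⟨⟨g, hg⟩, by rw [normalizer_eq_top]; exact mem_top _, rfl⟩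
  have hRall : ∀ x ∈ K, Odd (orderOf x) → x ∈ R := fun x hx ho =>
    ⟨⟨x, hx⟩, hall _ (by rwa [Subgroup.orderOf_mk]), rfl⟩
  have hsup : (S : Subgroup G).subgroupOf K ⊔ R' = ⊤ := by
    rw [← index_eq_one]
    have ho : Odd ((S : Subgroup G).subgroupOf K ⊔ R').index := by
      have h1 : Odd ((S : Subgroup G).subgroupOf K).index :=
        (Nat.not_even_iff_odd.1 fun h => S.not_dvd_index (even_iff_two_dvd.1 h)).of_dvd_nat
          (relIndex_dvd_index_of_le hSK)
      exact h1.of_dvd_nat (index_dvd_of_le le_sup_left)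
    have hd : ((S : Subgroup G).subgroupOf K ⊔ R').index ∣ 2 ^ e := he ▸ index_dvd_of_le le_sup_right
    exact (Nat.Coprime.pow_right e (Nat.coprime_two_right.2 ho)).eq_one_of_dvd hd
  have hdec : ∀ x ∈ K, ∃ s ∈ (S : Subgroup G), ∃ r ∈ R, s * r = x := fun x hx => by
    obtain ⟨s, hs, r, hr, he'⟩ := (CfsgLib.Solvable.mem_sup_of_le_normalizer le_normalizer_of_normal).1
      (hsup ▸ mem_top (⟨x, hx⟩ : K) : (⟨x, hx⟩ : K) ∈ (S : Subgroup G).subgroupOf K ⊔ R')
    exact ⟨s, hs, r, ⟨r, hr, rfl⟩, congrArg Subtype.val he'⟩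
  -- `t` inverts the core of the centraliser
  have hinvR : ∀ r ∈ R, t * r * t = r⁻¹ := by
    intro r hr
    obtain ⟨a, ha, i, -, hat, hit, rfl⟩ := CfsgLib.Bender.GSide.split hRo ht.1 hr (by
      have := conj_mem (hRn (hSK htS)) hr
      rwa [ht.inv_eq] at this)
    have hao := odd_orderOf hRo ha
    have ha1 : a = 1 := by
      refine eq_one_of_sq ?_ hao
      rcases hA.four_cent hz (hzS t htS).symm hzne hat.symm (memK.1 (hRK ha)) with e | e | e | e <;>
        rw [e]
      exacts [one_mul 1, ht.1, hz.1, (ht.mul hz (hzS t htS) hzne.symm).1]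
    rw [ha1, one_mul, hit]
  have hRcomm : ∀ a ∈ R, ∀ b ∈ R, Commute a b := fun a ha b hb => by
    have h := hinvR _ (mul_mem ha hb)
    rw [show t * (a * b) * t = (t * a * t) * (t * b * t) by
      simp only [mul_assoc, ← mul_assoc t t, ht.1, one_mul], hinvR a ha, hinvR b hb,
      ← mul_inv_rev] at h
    exact (inv_injective h).symm
  -- the fixed points of `y`
  set X := R ⊓ centralizer ({y} : Set G) with hX
  have memX : ∀ {x : G}, x ∈ X ↔ x ∈ R ∧ Commute x y := fun {x} => by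
    rw [hX, mem_inf, mem_centralizer_singleton_iff]; rfl
  have hX0 : X = ⊥ := by
    -- a normal subgroup of index two without `t`
    let Q : Subgroup G :=
      { carrier := {q | ∃ k : ℤ, (Even k ∧ q = c ^ k) ∨ (Odd k ∧ q = t * c ^ k)}
        one_mem' := ⟨0, Or.inl ⟨Even.zero, (zpow_zero c).symm⟩⟩
        mul_mem' := by
          rintro _ _ ⟨a, ⟨ha, rfl⟩ | ⟨ha, rfl⟩⟩ ⟨b, ⟨hb, rfl⟩ | ⟨hb, rfl⟩⟩
          · exact ⟨a + b, Or.inl ⟨ha.add hb, (zpow_add c a b).symm⟩⟩
          · exact ⟨-a + b, Or.inr ⟨ha.neg.add_odd hb, by rw [← mul_assoc, hct, mul_assoc, ← zpow_add]⟩⟩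
          · exact ⟨a + b, Or.inr ⟨ha.add_even hb, by rw [mul_assoc, ← zpow_add]⟩⟩
          · exact ⟨-a + b, Or.inl ⟨ha.neg.add_odd hb, by
              rw [← mul_assoc, mul_assoc t, hct, ← mul_assoc t t, ht.1, one_mul, ← zpow_add]⟩⟩
        inv_mem' := by
          rintro _ ⟨a, ⟨ha, rfl⟩ | ⟨ha, rfl⟩⟩
          · exact ⟨-a, Or.inl ⟨ha.neg, (zpow_neg c a).symm⟩⟩
          · exact ⟨a, Or.inr ⟨ha, by rw [mul_inv_rev, ht.inv_eq, ← zpow_neg, hct, neg_neg]⟩⟩ }
    have hcor : ∀ k l : ℤ, c ^ k = c ^ l → (Even k ↔ Even l) := by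
      intro k l h
      rw [zpow_eq_zpow_iff_modEq, hj, Int.modEq_iff_dvd] at h
      have h2 : (2 : ℤ) ∣ l - k := dvd_trans ⟨2 ^ (j + 1), by push_cast; ring⟩ h
      rw [← even_iff_two_dvd, Int.even_sub] at h2
      exact h2.symm
    have hnot := CfsgLib.Invol.not_mem_zpowers ht.orderOf hyI.orderOf htyne
    have htQ : t ∉ Q := by
      rintro ⟨k, ⟨-, h⟩ | ⟨hk, h⟩⟩
      · have hm := zpow_mem (mem_zpowers c) k
        rw [← h] at hm
        exact hnot hm
      · have h' : c ^ k = c ^ (0 : ℤ) := by rw [zpow_zero]; exact mul_eq_left.1 h.symm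
        exact Int.not_odd_iff_even.2 ((hcor k 0 h').2 Even.zero) hk
    have hrel : Q.relIndex (S : Subgroup G) = 2 := by
      rw [relIndex, index_eq_two_iff]
      refine ⟨⟨t, htS⟩, fun s => ?_⟩
      simp only [mem_subgroupOf, Subgroup.coe_mul]
      by_cases hs : (s : G) ∈ Q
      · exact Or.inr ⟨hs, fun h => htQ (by simpa using mul_mem (inv_mem hs) h)⟩
      · refine Or.inl ⟨?_, hs⟩
        rcases hSmem _ s.2 with ⟨k, hk⟩ | ⟨k, hk⟩
        · have hko : Odd k := Int.not_even_iff_odd.1 fun h => hs ⟨k, Or.inl ⟨h, hk⟩⟩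
          exact ⟨-k, Or.inr ⟨hko.neg, by rw [hk, hct]⟩⟩
        · have hke : Even k := Int.not_odd_iff_even.1 fun h => hs ⟨k, Or.inr ⟨h, hk⟩⟩
          exact ⟨-k, Or.inl ⟨hke.neg, by rw [hk, mul_assoc, hct, ← mul_assoc, ht.1, one_mul]⟩⟩
    rcases CfsgLib.ThompsonTransfer.thompson_transfer (S : Subgroup G) Q
        (Nat.not_even_iff_odd.1 fun h => S.not_dvd_index (even_iff_two_dvd.1 h)) hrel ht.1 with
      ⟨M, hM, hMi, htM⟩ | ⟨g, k, ⟨hk, hgk⟩ | ⟨hk, hgk⟩⟩
    rotate_left
    · exact absurd ⟨g, hgk.trans (hpow_inv k (hgk ▸ (ht.conj g).1) (hgk ▸ (ht.conj g).2))⟩ hzt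
    · obtain ⟨i, rfl⟩ := hk
      exact absurd (Fused.trans ⟨g, hgk.trans (hrefl' i).symm⟩ (Fused.symm ⟨_, rfl⟩)) hty
    haveI := hM
    have hzM : z ∈ M := hdz ▸ mul_self_mem_of_index_two hMi d
    have hyM : y ∈ M := hg₀ ▸ hM.conj_mem z hzM g₀
    have hModd : ∀ x : G, Odd (orderOf x) → x ∈ M := fun x hx => by
      obtain ⟨i, hi⟩ := exists_pow_eq_self_of_coprime (x := x) (n := 2) (Nat.coprime_two_left.2 hx)
      rw [← hi]
      exact pow_mem (by rw [pow_two]; exact mul_self_mem_of_index_two hMi x) i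
    by_contra hX1
    set N1 := normalizer (X : Set G) with hN1
    have hXR : X ≤ R := inf_le_left
    have hN1S : (S : Subgroup G) ≤ N1 := by
      rw [hSD, hD, closure_le]
      have key : ∀ s : G, s * s = 1 → (∀ x ∈ X, s * x * s ∈ X) → s ∈ N1 := fun s hs h =>
        mem_normalizer_iff.2 fun x => ⟨fun hx => by rw [inv_eq_of_mul_eq_one_right hs]; exact h x hx,
          fun hx => by
            have := h _ hx
            rwa [inv_eq_of_mul_eq_one_right hs, show s * (s * x * s) * s = s * s * x * (s * s) by group,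
              hs, one_mul, mul_one] at this⟩
      rintro s (rfl | rfl)
      · exact key _ ht.1 fun x hx => by rw [hinvR x (hXR hx)]; exact inv_mem hx
      · exact key _ hyI.1 fun x hx => by
          rw [(memX.1 hx).2.symm.eq, mul_assoc, hyI.1, mul_one]; exact hx
    have hKN : K ≤ N1 := by
      intro x hx
      obtain ⟨s, hs, r, hr, rfl⟩ := hdec x hx
      refine mul_mem (hN1S hs) (centralizer_le_normalizer _ (mem_centralizer_iff.2 fun a ha => ?_))
      exact (hRcomm a (hXR ha) r hr).eq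
    -- the conjugating element normalises `X`
    have hg₀N : g₀ ∈ N1 := by
      have hkey : ∀ x ∈ X, g₀⁻¹ * x * g₀ ∈ X := by
        intro x hx
        obtain ⟨hxR, hxy⟩ := memX.1 hx
        set z₁ := g₀⁻¹ * z * g₀ with hz₁
        have hz₁I : Inv z₁ := by simpa [hz₁] using hz.conj g₀⁻¹
        have hzy : Commute z y := (hzS y hy).symm
        have hz₁K : z₁ ∈ K := memK.2 (by
          have := (Commute.conj_iff g₀⁻¹).2 hzy
          rw [← hg₀] at this
          simpa [mul_assoc, hz₁] using this)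
        -- conjugate it into `S` inside `K`
        haveI : Fact (Nat.Prime 2) := ⟨Nat.prime_two⟩
        let SK : Sylow 2 K := S.subtype hSK
        obtain ⟨b, hb⟩ := exists_conj_mem_sylow SK (v := (⟨z₁, hz₁K⟩ : K))
          ⟨Subtype.ext hz₁I.1, fun h => hz₁I.2 (congrArg Subtype.val h)⟩
        have hbS : (b : G) * z₁ * (b : G)⁻¹ ∈ (S : Subgroup G) := hb
        have hxz : Commute (g₀⁻¹ * x * g₀) z := by
          have := (Commute.conj_iff g₀⁻¹).2 hxy
          rw [← hg₀] at this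
          simpa [mul_assoc] using this
        have hxz₁ : Commute (g₀⁻¹ * x * g₀) z₁ := by
          have := (Commute.conj_iff g₀⁻¹).2 (memK.1 (hRK hxR))
          simpa [mul_assoc, hz₁] using this
        have hxR' : g₀⁻¹ * x * g₀ ∈ R := hRall _ (memK.2 hxz) (by
          have := CfsgLib.Invol.orderOf_conj_eq g₀⁻¹ x
          rw [inv_inv] at this
          rw [this]; exact odd_orderOf hRo hxR)
        rcases hclass _ hbS (hz₁I.conj _) with h | h | ⟨i, h⟩
        · exfalso
          have hz₁z : z₁ = z := by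
            have hbz := memK.1 b.2
            calc z₁ = (b : G)⁻¹ * ((b : G) * z₁ * (b : G)⁻¹) * b := by group
              _ = z := by rw [h, mul_assoc, hbz.symm.eq, inv_mul_cancel_left]
          refine hyne ?_
          rw [← hg₀]
          nth_rw 1 [← hz₁z]
          rw [hz₁]; group
        · exact absurd ((h.trans (Fused.symm ⟨(b : G), rfl⟩)).trans
            ⟨g₀, show g₀ * z₁ * g₀⁻¹ = z by rw [hz₁]; group⟩) hzt
        · -- `z₁ = k y k⁻¹` with `k ∈ N1`
          have hkN : (b : G)⁻¹ * c ^ (-i) ∈ N1 :=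
            mul_mem (inv_mem (hKN b.2)) (hN1S (zpow_mem hcS _))
          have hkK : (b : G)⁻¹ * c ^ (-i) ∈ K :=
            mul_mem (inv_mem b.2) (hSK (zpow_mem hcS _))
          set k := (b : G)⁻¹ * c ^ (-i) with hk
          have hk1 : k * y * k⁻¹ = z₁ := by
            rw [hk, show (b : G)⁻¹ * c ^ (-i) * y * ((b : G)⁻¹ * c ^ (-i))⁻¹ =
              (b : G)⁻¹ * (c ^ (-i) * y * (c ^ (-i))⁻¹) * b by group, h]
            group
          have hmem : k⁻¹ * (g₀⁻¹ * x * g₀) * k ∈ X := memX.2 ⟨conj_mem' (hRn hkK) hxR', by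
            have := (Commute.conj_iff k⁻¹).2 hxz₁
            rw [← hk1] at this
            simpa [mul_assoc] using this⟩
          have := conj_mem hkN hmem
          rwa [show k * (k⁻¹ * (g₀⁻¹ * x * g₀) * k) * k⁻¹ = g₀⁻¹ * x * g₀ by group] at this
      have hle : X.map (MulAut.conj g₀⁻¹).toMonoidHom ≤ X := by
        rintro _ ⟨x, hx, rfl⟩
        simpa using hkey x hx
      have heq := CfsgLib.Solvable.eq_of_le_of_card_le hle
        (card_map_of_injective (f := (MulAut.conj g₀⁻¹).toMonoidHom) (MulAut.conj g₀⁻¹).injective).ge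
      have hm : g₀⁻¹ ∈ N1 := (CfsgLib.Bender.GSide.mem_norm_iff).2 heq
      simpa using inv_mem hm
    -- involutions of the index-two subgroup normalising `X`
    have hinvol : ∀ v, NormCyclic.Inv v → v ∈ M → v ∈ N1 → ∃ n ∈ N1, n * z * n⁻¹ = v := by
      intro v hv hvM hvN
      let SN : Sylow 2 N1 := S.subtype hN1S
      obtain ⟨b, hb⟩ := exists_conj_mem_sylow SN (v := (⟨v, hvN⟩ : N1))
        ⟨Subtype.ext hv.1, fun h => hv.2 (congrArg Subtype.val h)⟩
      have hbS : (b : G) * v * (b : G)⁻¹ ∈ (S : Subgroup G) := hb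
      rcases hclass _ hbS (hv.conj _) with h | ⟨g, hg⟩ | ⟨i, h⟩
      · exact ⟨(b : G)⁻¹, inv_mem b.2, by rw [← h]; group⟩
      · refine absurd ?_ htM
        have := hM.conj_mem _ (hM.conj_mem v hvM (b : G)) g⁻¹
        rw [← hg] at this
        rwa [show g⁻¹ * (g * t * g⁻¹) * g⁻¹⁻¹ = t by group] at this
      · refine ⟨(b : G)⁻¹ * c ^ (-i) * g₀, mul_mem (mul_mem (inv_mem b.2) (hN1S (zpow_mem hcS _))) hg₀N, ?_⟩
        rw [show (b : G)⁻¹ * c ^ (-i) * g₀ * z * ((b : G)⁻¹ * c ^ (-i) * g₀)⁻¹ =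
          (b : G)⁻¹ * (c ^ (-i) * (g₀ * z * g₀⁻¹) * (c ^ (-i))⁻¹) * b by group, hg₀, h]
        group
    set H := N1.subgroupOf M with hH
    have hXM : X ≤ M := fun x hx => hModd x (odd_orderOf hRo (hXR hx))
    have hXo : Odd (Nat.card X) := hRo.of_dvd_nat (card_dvd_of_le hXR)
    have hXle : X ≤ coreIn M → X ≤ Cfsg.oddCore G := fun h => h.trans (le_oddCore
      (normalizer_eq_top_iff.1 (top_le_iff.1 ((normalizer_eq_top (H := M)).ge.trans
        (normalizer_le_normalizer_coreIn M)))) (odd_coreIn M))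
    have hse : Cfsg.IsStronglyEmbedded H := by
      refine ⟨fun h => hX1 ?_, even_iff_two_dvd.2 ?_, fun g hg => Nat.not_even_iff_odd.1 fun hev => hg ?_⟩
      · exact le_bot_iff.1 (hO ▸ hXle (le_coreIn hXM (subgroupOf_eq_top.1 h) hXo))
      · have hzH : (⟨z, hzM⟩ : M) ∈ H := show z ∈ N1 from hN1S hzmem
        have := Subgroup.orderOf_dvd_natCard H hzH
        rwa [Subgroup.orderOf_mk, hz.orderOf] at this
      · obtain ⟨⟨v, hv⟩, hv2⟩ := exists_prime_orderOf_dvd_card' 2 (even_iff_two_dvd.1 hev)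
        rw [Subgroup.orderOf_mk] at hv2
        obtain ⟨hvH, w, hwH, hwv⟩ := hv
        change g * w * g⁻¹ = v at hwv
        have hvI : Inv (v : G) := Inv.of_orderOf (by rw [Subgroup.orderOf_coe, hv2])
        have hwv' : (g : G) * w * (g : G)⁻¹ = v := congrArg Subtype.val hwv
        have hwI : Inv (w : G) := by
          have := hvI.conj (g : G)⁻¹
          rwa [← hwv', show (g : G)⁻¹ * ((g : G) * w * (g : G)⁻¹) * (g : G)⁻¹⁻¹ = w by group] at this
        obtain ⟨n2, hn2, hnv⟩ := hinvol v hvI v.2 hvH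
        obtain ⟨n1, hn1, hnw⟩ := hinvol w hwI w.2 hwH
        show (g : G) ∈ N1
        have hcK : n2⁻¹ * g * n1 ∈ N1 := hKN (memK.2 (mul_inv_eq_iff_eq_mul.1 (by
          calc n2⁻¹ * g * n1 * z * (n2⁻¹ * g * n1)⁻¹
              = n2⁻¹ * ((g : G) * (n1 * z * n1⁻¹) * (g : G)⁻¹) * n2 := by group
            _ = z := by rw [hnw, hwv', ← hnv]; group)))
        have := mul_mem (mul_mem hn2 hcK) (inv_mem hn1)
        rwa [show n2 * (n2⁻¹ * g * n1) * n1⁻¹ = (g : G) by group] at this
    have hle := Cfsg.Agent.S1221.result H hse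
    refine hX1 (le_bot_iff.1 (hO ▸ hXle ?_))
    intro x hx
    have hxH : (X.subgroupOf M).subgroupOf H ≤ Cfsg.oddCore H := by
      refine le_oddCore ⟨fun a ha b => show ((b : M) : G) * ((a : M) : G) * ((b : M) : G)⁻¹ ∈ X from
        conj_mem b.2 ha⟩ ?_
      rw [Nat.card_congr (subgroupOfEquivOfLe (H := X.subgroupOf M) (K := H) fun a ha =>
        le_normalizer ha).toEquiv, Nat.card_congr (subgroupOfEquivOfLe hXM).toEquiv]
      exact hXo
    exact ⟨⟨x, hXM hx⟩, hle ⟨⟨⟨x, hXM hx⟩, le_normalizer hx⟩, hxH hx, rfl⟩, rfl⟩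
  -- hence `y` inverts, so `c` centralises the core
  have hinvy : ∀ r ∈ R, y * r * y = r⁻¹ := by
    intro r hr
    obtain ⟨a, ha, i, -, hay, hiy, rfl⟩ := CfsgLib.Bender.GSide.split hRo hyI.1 hr (by
      have := conj_mem (hRn (hSK hy)) hr
      rwa [hyI.inv_eq] at this)
    have ha1 : a = 1 := by
      have : a ∈ X := memX.2 ⟨ha, hay.symm⟩
      rwa [hX0, mem_bot] at this
    rw [ha1, one_mul, hiy]
  have hcR : ∀ r ∈ R, Commute c r := fun r hr => by
    have h1 : c * r * c⁻¹ = r := by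
      rw [hc, show t * y * r * (t * y)⁻¹ = t * (y * r * y⁻¹) * t⁻¹ by group, ht.inv_eq, hyI.inv_eq,
        hinvy r hr, hinvR _ (inv_mem hr), inv_inv]
    exact mul_inv_eq_iff_eq_mul.1 h1
  -- the base at `z`
  have hnorm : zpowers c ≤ normalizer (R : Set G) := fun x hx =>
    hRn (hSK (zpowers_le.2 hcS hx))
  have memB : ∀ {x : G}, x ∈ zpowers c ⊔ R ↔ ∃ a ∈ zpowers c, ∃ r ∈ R, a * r = x :=
    CfsgLib.Solvable.mem_sup_of_le_normalizer hnorm
  have hcR' : ∀ a ∈ zpowers c, ∀ r ∈ R, Commute a r := fun a ha r hr => by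
    obtain ⟨i, rfl⟩ := mem_zpowers_iff.1 ha
    exact (hcR r hr).zpow_left i
  have hBcomm : ∀ a ∈ zpowers c ⊔ R, ∀ b ∈ zpowers c ⊔ R, Commute a b := by
    intro a ha b hb
    obtain ⟨a₁, ha₁, r, hr, rfl⟩ := memB.1 ha
    obtain ⟨b₁, hb₁, s, hs, rfl⟩ := memB.1 hb
    have hab : Commute a₁ b₁ := by
      obtain ⟨i, rfl⟩ := mem_zpowers_iff.1 ha₁
      obtain ⟨l, rfl⟩ := mem_zpowers_iff.1 hb₁
      exact (Commute.refl c).zpow_zpow i l
    exact (hab.mul_right (hcR' a₁ ha₁ s hs)).mul_left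
      ((hcR' b₁ hb₁ r hr).symm.mul_right (hRcomm r hr s hs))
  have hout : ∀ x ∈ K, x ∉ zpowers c ⊔ R → ∃ k : ℤ, ∃ r ∈ R, x = t * (c ^ k * r) := by
    intro x hx hxB
    obtain ⟨s, hs, r, hr, rfl⟩ := hdec x hx
    rcases hSmem s hs with ⟨k, rfl⟩ | ⟨k, rfl⟩
    · exact absurd (memB.2 ⟨_, zpow_mem (mem_zpowers c) k, r, hr, rfl⟩) hxB
    · exact ⟨k, r, hr, mul_assoc _ _ _⟩
  have htwist : ∀ (k : ℤ) (r : G), r ∈ R → t * (c ^ k * r) * t = (c ^ k * r)⁻¹ := fun k r hr => by
    rw [show t * (c ^ k * r) * t = (t * c ^ k * t) * (t * r * t) by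
        simp only [mul_assoc, ← mul_assoc t t, ht.1, one_mul], hinvR r hr,
      show t * c ^ k * t = c ^ (-k) by rw [mul_assoc, hct, ← mul_assoc, ht.1, one_mul],
      (hcR' _ (zpow_mem (mem_zpowers c) k) r hr).eq, mul_inv_rev, zpow_neg]
  have hBz : IsBase z (zpowers c ⊔ R) := by
    refine ⟨fun x hx => ?_, mem_sup_left (hdz ▸ mul_mem (pow_mem (mem_zpowers c) _) (pow_mem (mem_zpowers c) _)),
      hBcomm, fun x hx hxx hx1 => ?_, fun x hx hxB => ?_, fun x w hx hw hxB hwB => ?_⟩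
    · obtain ⟨a, ha, r, hr, rfl⟩ := memB.1 hx
      exact (hzS a (zpowers_le.2 hcS ha)).mul_left (memK.1 (hRK hr))
    · obtain ⟨a, ha, r, hr, rfl⟩ := memB.1 hx
      rw [(hcR' a ha r hr).symm.mul_mul_mul_comm] at hxx
      have hrr : r * r = (a * a)⁻¹ := eq_inv_of_mul_eq_one_right hxx
      have hmem : r * r ∈ (S : Subgroup G) := hrr ▸ inv_mem (mul_mem (zpowers_le.2 hcS ha) (zpowers_le.2 hcS ha))
      obtain ⟨k, hk⟩ := S.2 ⟨_, hmem⟩
      have ho : Odd (orderOf (r * r)) := odd_orderOf hRo (mul_mem hr hr)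
      have hr2 : r * r = 1 := orderOf_eq_one_iff.1 (Nat.eq_one_of_dvd_coprimes
        ((Nat.coprime_two_right.2 ho).pow_right k) dvd_rfl
        (orderOf_dvd_of_pow_eq_one (congrArg Subtype.val hk)))
      have hr1 := eq_one_of_sq hr2 (odd_orderOf hRo hr)
      rw [hr2, mul_one] at hxx
      rw [hr1, mul_one] at hx1 ⊢
      obtain ⟨i, rfl⟩ := mem_zpowers_iff.1 ha
      exact hpow_inv i hxx hx1
    · obtain ⟨k, r, hr, rfl⟩ := hout x (memK.2 hx) hxB
      rw [← mul_assoc, htwist k r hr, inv_mul_cancel]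
    · obtain ⟨k, r, hr, rfl⟩ := hout x (memK.2 hx) hxB
      obtain ⟨l, s, hs, rfl⟩ := hout w (memK.2 hw) hwB
      rw [← mul_assoc, htwist k r hr]
      exact mul_mem (inv_mem (memB.2 ⟨_, zpow_mem (mem_zpowers c) k, r, hr, rfl⟩))
        (memB.2 ⟨_, zpow_mem (mem_zpowers c) l, s, hs, rfl⟩)
  refine dhyp_of_sylow S fun v hv hvI => ?_
  rcases hclass v hv hvI with rfl | ⟨g, hg⟩ | ⟨i, h⟩
  · exact ⟨_, hBz⟩
  · exact ⟨_, hg ▸ hA.conj g⟩
  · have h' : c ^ (-i) * g₀ * z * (c ^ (-i) * g₀)⁻¹ = v := by rw [← h, ← hg₀]; group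
    exact ⟨_, h' ▸ hBz.conj (c ^ (-i) * g₀)⟩

/-- The base spreads when `t` has no root. -/
theorem dhyp_of_no_root (IH : SmallBase G) (hO : Cfsg.oddCore G = ⊥) (hns : ¬ Group.IsSolvable G)
    (ht : Inv t) (hno : ¬ HasRoot t) : DHyp G := by
  haveI : Fact (Nat.Prime 2) := ⟨Nat.prime_two⟩
  obtain ⟨u, hu, hut, hune⟩ := hA.exists_outside ht hns
  let F : Four G := ⟨t, u, t * u, ht, hu, ht.mul hu hut.symm hune.symm, hut.symm, hune.symm, rfl⟩
  obtain ⟨S, hS⟩ := F.card_V.exists_le_sylow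
  have htS : t ∈ (S : Subgroup G) := hS (subset_closure (Or.inl rfl))
  have huS : u ∈ (S : Subgroup G) := hS (subset_closure (Or.inr rfl))
  by_cases hall : ∀ x ∈ (S : Subgroup G), Commute x t
  · obtain ⟨h1, h2⟩ := fused_of_four_sylow S hns htS huS ht.2
      (fun x hx => hA.two_mem hno S.2 hu hut hune huS hx (hall x hx)) hut.symm fun g hg hgt => by
        rcases hA.two_mem hno S.2 hu hut hune huS (conj_mem hg huS) (hall _ (conj_mem hg huS)) with
          e | e | e | e
        · exact absurd (conj_eq_one_iff.1 e) hu.2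
        · exfalso
          refine hune (mul_left_cancel (mul_right_cancel (e.trans ?_)) : u = t)
          rw [hgt.eq, mul_inv_cancel_right]
        · exact mul_inv_eq_iff_eq_mul.1 e
        · exact absurd (hA.hasRoot_of_swap ht hu hut hune hgt e) hno
    refine dhyp_of_sylow S fun v hv hvI => ?_
    rcases hA.two_mem hno S.2 hu hut hune huS hv (hall v hv) with e | e | e | e
    · exact absurd e hvI.2
    · exact ⟨A, e ▸ hA⟩
    · obtain ⟨g, hg⟩ := h1; exact ⟨_, e ▸ hg ▸ hA.conj g⟩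
    · obtain ⟨g, hg⟩ := h2; exact ⟨_, e ▸ hg ▸ hA.conj g⟩
  push Not at hall
  obtain ⟨x₀, hx₀, hx₀t⟩ := hall
  -- the central involution
  obtain ⟨z, hz, hzmem, hzS⟩ : ∃ z, Inv z ∧ z ∈ (S : Subgroup G) ∧
      ∀ x ∈ (S : Subgroup G), Commute x z := by
    haveI : Nontrivial (S : Subgroup G) := ⟨⟨⟨t, htS⟩, 1, fun h => ht.2 (congrArg Subtype.val h)⟩⟩
    haveI := S.2.center_nontrivial
    obtain ⟨j, hj⟩ := IsPGroup.iff_card.1 (S.2.to_subgroup (center (S : Subgroup G)))
    obtain ⟨c, hc2⟩ := exists_prime_orderOf_dvd_card' (G := center (S : Subgroup G)) 2 (by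
      rw [hj]
      rcases j with _ | j
      · exact absurd hj (by rw [pow_zero]; exact ne_of_gt Finite.one_lt_card)
      · exact dvd_pow_self 2 j.succ_ne_zero)
    exact ⟨_, Inv.of_orderOf (by rw [Subgroup.orderOf_coe, Subgroup.orderOf_coe, hc2]),
      (c : (S : Subgroup G)).2, fun x hx => congrArg Subtype.val (mem_center_iff.1 c.2 ⟨x, hx⟩)⟩
  have hzne : z ≠ t := fun e => hx₀t (e ▸ hzS x₀ hx₀)
  have hzt' : Commute z t := (hzS t htS).symm
  have hScent : ∀ x ∈ (S : Subgroup G), Commute x t → x = 1 ∨ x = t ∨ x = z ∨ x = t * z :=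
    fun x hx hxt => hA.two_mem hno S.2 hz hzt' hzne hzmem hx hxt
  have hzt : ¬ Fused t z := by
    rintro ⟨g, hg⟩
    set P := (S : Subgroup G).map (MulAut.conj g⁻¹).toMonoidHom with hP
    have hPt : ∀ x ∈ P, Commute x t := by
      rintro _ ⟨s, hs, rfl⟩
      show Commute (g⁻¹ * s * g⁻¹⁻¹) t
      have := (Commute.conj_iff g⁻¹).2 (hzS s hs)
      rwa [show g⁻¹ * z * g⁻¹⁻¹ = t by rw [← hg]; group] at this
    have := hA.two_comm hno (S.2.map _) hPt _ ⟨x₀, hx₀, rfl⟩ _ ⟨t, htS, rfl⟩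
    exact hx₀t ((Commute.conj_iff g⁻¹).1 this)
  -- an element of `S` moving `t` to `t * z`
  let Fz : Four G := ⟨t, z, t * z, ht, hz, ht.mul hz hzt'.symm hzne.symm, hzt'.symm, hzne.symm, rfl⟩
  have hVS : Fz.V ≤ S := (closure_le _).2 (by rintro x (rfl | rfl); exacts [htS, hzmem])
  have hlt : Fz.V < S := lt_of_le_of_ne hVS fun h => hx₀t (by
    rcases Fz.mem_V (h ▸ hx₀) with e | e | e | e
    · exact e ▸ Commute.one_left t
    · exact e ▸ Commute.refl t
    · exact e ▸ hzt'
    · exact e ▸ (Commute.refl t).mul_left hzt')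
  obtain ⟨N, hVN, hNS, hNn⟩ := CfsgLib.Bender.GSide.exists_between hlt S.2
  obtain ⟨h, hhN, hhV⟩ := SetLike.exists_of_lt hVN
  have hht : ¬ Commute h t := fun hc => hhV (by
    rcases hScent h (hNS hhN) hc with rfl | rfl | rfl | rfl
    exacts [one_mem _, subset_closure (Or.inl rfl), subset_closure (Or.inr rfl),
      mul_mem (subset_closure (Or.inl rfl)) (subset_closure (Or.inr rfl))])
  have hhz : h * t * h⁻¹ = t * z := by
    rcases Fz.mem_V (conj_mem (hNn hhN) (subset_closure (Or.inl rfl) : t ∈ Fz.V)) with e | e | e | e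
    · exact absurd (conj_eq_one_iff.1 e) ht.2
    · exact absurd (mul_inv_eq_iff_eq_mul.1 e) hht
    · exact absurd ⟨h, e⟩ hzt
    · exact e
  by_cases hiso : ∀ g : G, Commute z (g * z * g⁻¹) → g * z * g⁻¹ = z
  · exact (hA.false_of_central IH hns ht hz hzne (DHyp.central_of_isolated hO hz hiso) hhz).elim
  push Not at hiso
  obtain ⟨g, hgc, hgne⟩ := hiso
  set K := centralizer ({z} : Set G) with hK
  have hSK : (S : Subgroup G) ≤ K := fun x hx => mem_centralizer_singleton_iff.2 (hzS x hx).eq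
  have hgK : g * z * g⁻¹ ∈ K := mem_centralizer_singleton_iff.2 hgc.symm.eq
  obtain ⟨b, hb⟩ := exists_conj_mem_sylow (S.subtype hSK) (v := (⟨g * z * g⁻¹, hgK⟩ : K))
    ⟨Subtype.ext (hz.conj g).1, fun e => (hz.conj g).2 (congrArg Subtype.val e)⟩
  have hbS : (b : G) * (g * z * g⁻¹) * (b : G)⁻¹ ∈ (S : Subgroup G) := hb
  refine hA.dhyp_of_dihedral hO ht S hz hzS hzt htS hzmem hScent ⟨h, hNS hhN, hht, ⟨h, hhz⟩⟩ hbS ?_
    (g₀ := (b : G) * g) (by group)
  intro e
  have hbz : Commute (b : G) z := mem_centralizer_singleton_iff.1 b.2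
  refine hgne ?_
  calc g * z * g⁻¹ = (b : G)⁻¹ * ((b : G) * (g * z * g⁻¹) * (b : G)⁻¹) * b := by group
    _ = z := by rw [e, mul_assoc, hbz.symm.eq, inv_mul_cancel_left]

end IsBase

/-- A base at one involution spreads to all. -/
theorem dhyp_of_base {G : Type u} [Group G] [Finite G] (hO : Cfsg.oddCore G = ⊥)
    (hns : ¬ Group.IsSolvable G) {t : G} {A : Subgroup G} (ht : Inv t) (hA : IsBase t A) :
    DHyp G := by
  suffices H : ∀ (n : ℕ) (K : Type u) [Group K] [Finite K], Nat.card K = n → Cfsg.oddCore K = ⊥ →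
      ¬ Group.IsSolvable K → ∀ (t : K) (A : Subgroup K), Inv t → IsBase t A → DHyp K from
    H _ G rfl hO hns t A ht hA
  intro n
  induction n using Nat.strong_induction_on with | _ n ih => ?_
  intro K _ _ hn hKO hKns t A ht hA
  have IH : SmallBase K := fun L _ _ hlt h1 h2 => ih _ (hn ▸ hlt) L rfl h1 h2
  by_cases hr : HasRoot t
  · obtain ⟨e, he⟩ := hr
    exact hA.dhyp_of_root ht he
  · exact hA.dhyp_of_no_root IH hKO hKns ht hr

end CfsgLib.DGroup
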