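import Cfsg.Agent.NormCyclic.Basic
import Cfsg.Agent.Invol.Dihedral
import Mathlib.GroupTheory.Sylow

/-!
# Groups in which every involution centraliser is generalised dihedral

`DHyp G`: for every involution `v`, the centraliser of `v` has an abelian subgroup `A` of index at
most two containing `v` as its only involution, and every element outside `A` squares to one.
-/

set_option autoImplicit false
set_option linter.style.haveILetI false
set_option linter.unusedSectionVars false

namespace CfsgLib.DGroup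

open Subgroup
open CfsgLib.NormCyclic (Inv)

universe u v

variable {G : Type u} [Group G]

/-- The witness for the centraliser of the involution `v`. -/
structure IsBase (v : G) (A : Subgroup G) : Prop where
  le : ∀ x ∈ A, Commute x v
  mem : v ∈ A
  comm : ∀ x ∈ A, ∀ y ∈ A, Commute x y
  invol : ∀ x ∈ A, x * x = 1 → x ≠ 1 → x = v
  out : ∀ x : G, Commute x v → x ∉ A → x * x = 1
  two : ∀ x y : G, Commute x v → Commute y v → x ∉ A → y ∉ A → x * y ∈ A

/-- Every involution centraliser is generalised dihedral. -/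
def DHyp (G : Type u) [Group G] : Prop := ∀ v : G, Inv v → ∃ A : Subgroup G, IsBase v A

/-- `y` is an element of odd order in the centraliser of `v`. -/
def OC (v y : G) : Prop := Commute y v ∧ Odd (orderOf y)

theorem eq_one_of_sq {y : G} (h : y * y = 1) (hy : Odd (orderOf y)) : y = 1 := by
  obtain ⟨m, hm⟩ := hy
  have h1 := pow_orderOf_eq_one y
  rw [hm, pow_succ, pow_mul, pow_two, h, one_pow, one_mul] at h1
  exact h1

theorem eq_one_of_inv_eq {y : G} (h : y⁻¹ = y) (hy : Odd (orderOf y)) : y = 1 :=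
  eq_one_of_sq (by nth_rw 1 [← h]; exact inv_mul_cancel y) hy

theorem odd_orderOf {K : Subgroup G} (hK : Odd (Nat.card K)) {x : G} (hx : x ∈ K) :
    Odd (orderOf x) := hK.of_dvd_nat (Subgroup.orderOf_dvd_natCard _ hx)

theorem not_inv_of_odd {y : G} (hy : Odd (orderOf y)) : ¬ Inv y := fun h =>
  h.2 (eq_one_of_sq h.1 hy)

namespace IsBase

variable {v : G} {A : Subgroup G} (hA : IsBase v A)
include hA

theorem mem_of_sq_ne {x : G} (hx : Commute x v) (h : x * x ≠ 1) : x ∈ A := by
  by_contra h'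
  exact h (hA.out x hx h')

theorem mem_of_odd {x : G} (hx : Commute x v) (ho : Odd (orderOf x)) : x ∈ A := by
  by_cases h : x * x = 1
  · rw [eq_one_of_sq h ho]; exact one_mem _
  · exact hA.mem_of_sq_ne hx h

theorem inverts {x a : G} (hx : Commute x v) (hxA : x ∉ A) (ha : a ∈ A) : x * a * x⁻¹ = a⁻¹ := by
  have hxa : x * a ∉ A := fun h => hxA (by simpa using mul_mem h (inv_mem ha))
  have h1 := hA.out (x * a) (hx.mul_left (hA.le a ha)) hxa
  have h2 := hA.out x hx hxA
  rw [inv_eq_of_mul_eq_one_right h2]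
  refine eq_inv_of_mul_eq_one_left ?_
  rw [mul_assoc]; exact h1

/-- An element of the centraliser normalises every subgroup of `A`. -/
theorem conj_zpowers {x a : G} (hx : Commute x v) (ha : a ∈ A) :
    x * a * x⁻¹ = a ∨ x * a * x⁻¹ = a⁻¹ := by
  by_cases hxA : x ∈ A
  · left; rw [(hA.comm x hxA a ha).eq, mul_inv_cancel_right]
  · exact Or.inr (hA.inverts hx hxA ha)

/-- An involution of the centraliser other than `v` lies outside `A`. -/
theorem not_mem {w : G} (hw : Inv w) (hne : w ≠ v) : w ∉ A := fun h => hne (hA.invol w h hw.1 hw.2)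

end IsBase

namespace DHyp

variable (hG : DHyp G)
include hG

theorem oc_commute {v x y : G} (hv : Inv v) (hx : OC v x) (hy : OC v y) : Commute x y := by
  obtain ⟨A, hA⟩ := hG v hv
  exact hA.comm x (hA.mem_of_odd hx.1 hx.2) y (hA.mem_of_odd hy.1 hy.2)

theorem oc_mul [Finite G] {v x y : G} (hv : Inv v) (hx : OC v x) (hy : OC v y) : OC v (x * y) :=
  ⟨hx.1.mul_left hy.1, (hx.2.mul hy.2).of_dvd_nat (hG.oc_commute hv hx hy).orderOf_mul_dvd_mul_orderOf⟩

/-- A second involution inverts the odd part of the centraliser. -/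
theorem inverts {v w y : G} (hv : Inv v) (hw : Inv w) (hwv : Commute w v) (hne : w ≠ v)
    (hy : OC v y) : w * y * w = y⁻¹ := by
  obtain ⟨A, hA⟩ := hG v hv
  have h := hA.inverts hwv (hA.not_mem hw hne) (hA.mem_of_odd hy.1 hy.2)
  rwa [hw.inv_eq] at h

/-- Two commuting involutions centralise no common nontrivial element of odd order. -/
theorem four_free {v w y : G} (hv : Inv v) (hw : Inv w) (hwv : Commute w v) (hne : w ≠ v)
    (hy : Odd (orderOf y)) (hyv : Commute y v) (hyw : Commute y w) : y = 1 := by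
  refine eq_one_of_inv_eq ?_ hy
  rw [← hG.inverts hv hw hwv hne ⟨hyv, hy⟩, ← hyw.eq, mul_assoc, hw.1, mul_one]

/-- A group of pairwise commuting involutions has at most four elements. -/
theorem no_eight {a b c : G} (ha : Inv a) (hb : Inv b) (hc : Inv c) (hab : Commute a b)
    (hac : Commute a c) (hbc : Commute b c) (hne : a ≠ b) : c = a ∨ c = b ∨ c = a * b := by
  obtain ⟨A, hA⟩ := hG a ha
  by_cases hca : c = a
  · exact Or.inl hca
  have hcA := hA.not_mem hc hca
  have hbA := hA.not_mem hb hne.symm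
  have h := hA.two b c hab.symm hac.symm hbA hcA
  by_cases h1 : b * c = 1
  · exact Or.inr (Or.inl (by rw [eq_inv_of_mul_eq_one_right h1, hb.inv_eq]))
  have h2 := hA.invol _ h (by rw [hbc.symm.mul_mul_mul_comm, hb.1, hc.1, one_mul]) h1
  refine Or.inr (Or.inr ?_)
  rw [hab.eq, ← h2, ← mul_assoc, hb.1, one_mul]

theorem subgroup (H : Subgroup G) : DHyp ↥H := by
  intro v hv
  have hv' : Inv (v : G) := ⟨congrArg Subtype.val hv.1, fun h => hv.2 (Subtype.ext h)⟩
  obtain ⟨A, hA⟩ := hG _ hv'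
  have hc : ∀ x : H, Commute x v → Commute (x : G) v := fun x h => congrArg Subtype.val h
  refine ⟨A.subgroupOf H, ⟨fun x hx => Subtype.ext (hA.le _ hx), hA.mem, fun x hx y hy =>
    Subtype.ext (hA.comm _ hx _ hy), fun x hx h1 h2 => Subtype.ext (hA.invol _ hx
    (congrArg Subtype.val h1) (fun h => h2 (Subtype.ext h))), fun x hx hxA => Subtype.ext
    (hA.out _ (hc x hx) hxA), fun x y hx hy hxA hyA => hA.two _ _ (hc x hx) (hc y hy) hxA hyA⟩⟩

theorem of_mulEquiv {K : Type v} [Group K] (e : G ≃* K) : DHyp K := by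
  intro w hw
  have hw' : Inv (e.symm w) := ⟨by rw [← map_mul, hw.1, map_one], fun h => hw.2 (by
    simpa using congrArg e h)⟩
  obtain ⟨A, hA⟩ := hG _ hw'
  have hc : ∀ x : K, Commute x w → Commute (e.symm x) (e.symm w) := fun x h => h.map e.symm
  have hm : ∀ x : K, x ∈ A.map e.toMonoidHom ↔ e.symm x ∈ A := fun x => Subgroup.mem_map_equiv
  refine ⟨A.map e.toMonoidHom, ⟨fun x hx => ?_, (hm w).2 hA.mem, fun x hx y hy => ?_,
    fun x hx h1 h2 => e.symm.injective (hA.invol _ ((hm x).1 hx) (by rw [← map_mul, h1, map_one])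
      (by simpa using h2)), fun x hx hxA => ?_, fun x y hx hy hxA hyA => ?_⟩⟩
  · simpa using (hA.le _ ((hm x).1 hx)).map e
  · simpa using (hA.comm _ ((hm x).1 hx) _ ((hm y).1 hy)).map e
  · exact e.symm.injective (by rw [map_mul, map_one]; exact hA.out _ (hc x hx) (mt (hm x).2 hxA))
  · exact (hm _).2 (by rw [map_mul]; exact hA.two _ _ (hc x hx) (hc y hy) (mt (hm x).2 hxA) (mt (hm y).2 hyA))

end DHyp

/-! ### Quotients by normal subgroups of odd order -/

section quot

variable [Finite G] {N : Subgroup G} [N.Normal]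

/-- An element squaring into an odd normal subgroup is congruent to a power squaring to one. -/
theorem sq_lift (hN : Odd (Nat.card N)) {a : G} (h : a * a ∈ N) :
    ∃ n : ℕ, a ^ n * a ^ n = 1 ∧ (QuotientGroup.mk (a ^ n) : G ⧸ N) = QuotientGroup.mk a := by
  obtain ⟨j, hj⟩ := odd_orderOf hN h
  refine ⟨orderOf (a * a), ?_, ?_⟩
  · rw [← (Commute.refl a).mul_pow, pow_orderOf_eq_one]
  · rw [hj, pow_succ, QuotientGroup.mk_mul, pow_mul, pow_two,
      (QuotientGroup.eq_one_iff _).2 (pow_mem h j), one_mul]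

/-- An involution modulo an odd normal subgroup lifts to an involution. -/
theorem lift_inv (hN : Odd (Nat.card N)) {x : G ⧸ N} (hx : Inv x) :
    ∃ v : G, Inv v ∧ (QuotientGroup.mk v : G ⧸ N) = x := by
  obtain ⟨g, rfl⟩ := QuotientGroup.mk_surjective x
  obtain ⟨n, hn, hng⟩ := sq_lift hN (a := g)
    ((QuotientGroup.eq_one_iff _).1 (by rw [QuotientGroup.mk_mul]; exact hx.1))
  exact ⟨g ^ n, ⟨hn, fun h => hx.2 (by rw [← hng, h, QuotientGroup.mk_one])⟩, hng⟩

/-- Involutions congruent modulo an odd normal subgroup are conjugate by one of its elements. -/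
theorem conj_of_eq (hN : Odd (Nat.card N)) {v w : G} (hv : Inv v) (hw : Inv w)
    (h : (QuotientGroup.mk v : G ⧸ N) = QuotientGroup.mk w) : ∃ k ∈ N, k * v * k⁻¹ = w := by
  have hmem : v * w ∈ N := by
    rw [← QuotientGroup.eq_one_iff, QuotientGroup.mk_mul, h, ← QuotientGroup.mk_mul, hw.1,
      QuotientGroup.mk_one]
  obtain ⟨m, hm⟩ := odd_orderOf hN hmem
  refine ⟨(v * w) ^ ((m : ℤ)), zpow_mem hmem _, ?_⟩
  rw [Invol.zpow_conj_invol hv.1 (Invol.conj_mul_inv hv.orderOf hw.orderOf)]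
  have h1 : (v * w) ^ (-(2 * (m : ℤ))) = (v * w) ^ (1 : ℤ) := by
    rw [zpow_eq_zpow_iff_modEq, hm, Int.modEq_iff_dvd]
    exact ⟨1, by push_cast; ring⟩
  rw [h1, zpow_one, ← mul_assoc, hv.1, one_mul]

theorem mk_inv (hN : Odd (Nat.card N)) {v : G} (hv : Inv v) : Inv (QuotientGroup.mk v : G ⧸ N) := by
  refine ⟨by rw [← QuotientGroup.mk_mul, hv.1, QuotientGroup.mk_one], fun h => hv.2 ?_⟩
  exact eq_one_of_sq hv.1 (odd_orderOf hN ((QuotientGroup.eq_one_iff v).1 h))

/-- The centraliser of an involution of the quotient is the image of the centraliser. -/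
theorem cent_lift (hN : Odd (Nat.card N)) {v g : G} (hv : Inv v)
    (h : Commute (QuotientGroup.mk g : G ⧸ N) (QuotientGroup.mk v)) :
    ∃ c : G, Commute c v ∧ (QuotientGroup.mk c : G ⧸ N) = QuotientGroup.mk g := by
  obtain ⟨k, hk, hkv⟩ := conj_of_eq hN (hv.conj g) hv (by
    rw [QuotientGroup.mk_mul, QuotientGroup.mk_mul, QuotientGroup.mk_inv, h.eq,
      mul_inv_cancel_right])
  refine ⟨k * g, ?_, by rw [QuotientGroup.mk_mul, (QuotientGroup.eq_one_iff k).2 hk, one_mul]⟩
  show k * g * v = v * (k * g)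
  conv_rhs => rw [← hkv]
  group

theorem DHyp.quotient (hG : DHyp G) (hN : Odd (Nat.card N)) : DHyp (G ⧸ N) := by
  intro x hx
  obtain ⟨v, hv, rfl⟩ := lift_inv hN hx
  obtain ⟨A, hA⟩ := hG v hv
  refine ⟨A.map (QuotientGroup.mk' N), ⟨?_, ⟨v, hA.mem, rfl⟩, ?_, ?_, ?_, ?_⟩⟩
  · rintro _ ⟨a, ha, rfl⟩; exact (hA.le a ha).map (QuotientGroup.mk' N)
  · rintro _ ⟨a, ha, rfl⟩ _ ⟨b, hb, rfl⟩; exact (hA.comm a ha b hb).map (QuotientGroup.mk' N)
  · rintro _ ⟨a, ha, rfl⟩ h1 h2
    obtain ⟨n, hn, hna⟩ := sq_lift hN (a := a) ((QuotientGroup.eq_one_iff _).1 h1)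
    have := hA.invol _ (pow_mem ha _) hn (fun h => h2 (by
      show (QuotientGroup.mk a : G ⧸ N) = 1
      rw [← hna, h, QuotientGroup.mk_one]))
    show (QuotientGroup.mk a : G ⧸ N) = QuotientGroup.mk v
    rw [← hna, this]
  · intro q hq hqA
    obtain ⟨g, rfl⟩ := QuotientGroup.mk_surjective q
    obtain ⟨c, hc, hcg⟩ := cent_lift hN hv hq
    rw [← hcg, ← QuotientGroup.mk_mul, hA.out c hc (fun h => hqA ⟨c, h, hcg⟩),
      QuotientGroup.mk_one]
  · intro p q hp hq hpA hqA
    obtain ⟨g, rfl⟩ := QuotientGroup.mk_surjective p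
    obtain ⟨g', rfl⟩ := QuotientGroup.mk_surjective q
    obtain ⟨c, hc, hcg⟩ := cent_lift hN hv hp
    obtain ⟨c', hc', hcg'⟩ := cent_lift hN hv hq
    exact ⟨c * c', hA.two c c' hc hc' (fun h => hpA ⟨c, h, hcg⟩) (fun h => hqA ⟨c', h, hcg'⟩), by
      show (QuotientGroup.mk (c * c') : G ⧸ N) = _
      rw [QuotientGroup.mk_mul, hcg, hcg']⟩

end quot

end CfsgLib.DGroup
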