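import Cfsg.Agent.DGroup.Linked
import Cfsg.Agent.S1221

/-!
# Maximal subgroups over a centraliser of an involution with a large core
-/

set_option autoImplicit false
set_option linter.style.haveILetI false
set_option linter.unusedSectionVars false

namespace CfsgLib.DGroup

open Subgroup
open CfsgLib.NormCyclic (Inv)

universe u

variable {G : Type u} [Group G] [Finite G]

/-- `M` is a maximal subgroup containing `C(t)` whose core is not in `C(t)`. -/
structure IsMember (M : Subgroup G) (t : G) : Prop where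
  inv : Inv t
  ne_top : M ≠ ⊤
  max : ∀ K : Subgroup G, M ≤ K → K = M ∨ K = ⊤
  cent : centralizer ({t} : Set G) ≤ M
  big : ¬ ∀ y ∈ coreIn M, Commute y t

/-- A subgroup contains `K` if it contains its elements of prime power order. -/
theorem le_of_primes {K L : Subgroup G} (h : ∀ (p : ℕ), p.Prime → ∀ y ∈ K, (∃ k, y ^ p ^ k = 1) → y ∈ L) :
    K ≤ L := by
  have hdvd : Nat.card K ∣ Nat.card ↥(K ⊓ L) := by
    refine (Nat.factorization_prime_le_iff_dvd Nat.card_pos.ne' Nat.card_pos.ne').1 fun p hp => ?_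
    haveI : Fact p.Prime := ⟨hp⟩
    obtain ⟨P⟩ : Nonempty (Sylow p K) := inferInstance
    have hle : (P : Subgroup K).map K.subtype ≤ K ⊓ L := by
      rintro _ ⟨y, hy, rfl⟩
      obtain ⟨k, hk⟩ := P.2 ⟨y, hy⟩
      exact ⟨y.2, h p hp y y.2 ⟨k, congrArg (fun z : (P : Subgroup K) => ((z : K) : G)) hk⟩⟩
    have := card_dvd_of_le hle
    rw [card_map_of_injective K.subtype_injective, P.card_eq_multiplicity] at this
    exact (hp.pow_dvd_iff_le_factorization Nat.card_pos.ne').1 this
  exact (CfsgLib.Solvable.eq_of_le_of_card_le inf_le_left (Nat.le_of_dvd Nat.card_pos hdvd)).ge.trans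
    inf_le_right

theorem mem_normalizer_centralizer {g : G} {R : Subgroup G} (hg : g ∈ normalizer (R : Set G)) :
    g ∈ normalizer (centralizer (R : Set G) : Set G) := by
  have key : ∀ a ∈ normalizer (R : Set G), ∀ z ∈ centralizer (R : Set G),
      a * z * a⁻¹ ∈ centralizer (R : Set G) := fun a ha z hz => mem_centralizer_iff.2 fun r hr => by
    have h := mem_centralizer_iff.1 hz _ (conj_mem' ha hr)
    calc r * (a * z * a⁻¹) = a * (a⁻¹ * r * a * z) * a⁻¹ := by group
      _ = a * (z * (a⁻¹ * r * a)) * a⁻¹ := by rw [h]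
      _ = _ := by group
  exact mem_normalizer_iff.2 fun z => ⟨key g hg z, fun h => by
    simpa [mul_assoc] using key g⁻¹ (inv_mem hg) _ h⟩

namespace Ctx

variable (C : Ctx G)
include C

/-- The normaliser of a nontrivial normal subgroup of the core of a member is the member. -/
theorem normalizer_eq {M : Subgroup G} {t : G} (hM : IsMember M t) {Y : Subgroup G}
    (hY : Y ≤ coreIn M) (hY1 : Y ≠ ⊥) (hn : M ≤ normalizer (Y : Set G)) :
    normalizer (Y : Set G) = M :=
  (hM.max _ hn).resolve_right (C.normalizer_ne_top ((odd_coreIn M).of_dvd_nat (card_dvd_of_le hY)) hY1)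

/-- A member has more than one class of involutions. -/
theorem not_all_fused {M : Subgroup G} {t : G} (hM : IsMember M t)
    (hall : ∀ v ∈ M, Inv v → ∃ m ∈ M, m * t * m⁻¹ = v) : False := by
  have hcM : ∀ {g : G}, Commute g t → g ∈ M := fun h => hM.cent (mem_centralizer_singleton_iff.2 h.eq)
  have hse : Cfsg.IsStronglyEmbedded M := by
    refine ⟨hM.ne_top, even_iff_two_dvd.2 (hM.inv.orderOf ▸
      Subgroup.orderOf_dvd_natCard M (hcM (Commute.refl t))), fun g hg => Nat.not_even_iff_odd.1 fun he => hg ?_⟩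
    haveI : Fact (Nat.Prime 2) := ⟨Nat.prime_two⟩
    obtain ⟨⟨v, hv⟩, hv2⟩ := exists_prime_orderOf_dvd_card' 2 (even_iff_two_dvd.1 he)
    rw [Subgroup.orderOf_mk] at hv2
    obtain ⟨hvM, w, hwM, hwv⟩ := hv
    have hvI := Inv.of_orderOf hv2
    change g * w * g⁻¹ = v at hwv
    have hwI : Inv w := by
      have := hvI.conj g⁻¹
      rwa [← hwv, show g⁻¹ * (g * w * g⁻¹) * g⁻¹⁻¹ = w by group] at this
    obtain ⟨m, hm, hmv⟩ := hall v hvM hvI
    obtain ⟨n, hn, hnw⟩ := hall w hwM hwI
    have hc : m⁻¹ * g * n ∈ M := hcM (mul_inv_eq_iff_eq_mul.1 (show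
      m⁻¹ * g * n * t * (m⁻¹ * g * n)⁻¹ = t by
        calc m⁻¹ * g * n * t * (m⁻¹ * g * n)⁻¹ = m⁻¹ * (g * (n * t * n⁻¹) * g⁻¹) * m := by group
          _ = m⁻¹ * (m * t * m⁻¹) * m := by rw [hnw, hwv, hmv]
          _ = t := by group))
    have := mul_mem (mul_mem hm hc) (inv_mem hn)
    rwa [show m * (m⁻¹ * g * n) * n⁻¹ = g by group] at this
  have hle : coreIn M ≤ Cfsg.oddCore G := Cfsg.Agent.S1221.result M hse
  rw [C.oddCore_eq] at hle
  refine hM.big fun y hy => ?_
  rw [mem_bot.1 (hle hy)]
  exact Commute.one_left t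

/-- A maximal subgroup over `N(⟨x⟩)` for `x` with a large centraliser is a member. -/
theorem member_of_bad (F : Four G) {x y : G} (hx : OC F.t x) (hx1 : x ≠ 1) (hyo : Odd (orderOf y))
    (hyx : Commute y x) (hyt : ¬ Commute y F.t) {M : Subgroup G} (hM : M ≠ ⊤)
    (hmax : ∀ K : Subgroup G, M ≤ K → K = M ∨ K = ⊤) (hle : normalizer (zpowers x : Set G) ≤ M) :
    IsMember M F.t := by
  have hG := C.hG
  obtain ⟨A, hA⟩ := hG F.t F.ht
  have hxA := hA.mem_of_odd hx.1 hx.2
  have hcent : centralizer ({F.t} : Set G) ≤ M := fun g hg => hle (by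
    have hgt : Commute g F.t := mem_centralizer_singleton_iff.1 hg
    have key : ∀ g : G, Commute g F.t → ∀ z ∈ zpowers x, g * z * g⁻¹ ∈ zpowers x := fun g hgt z hz => by
      rcases hA.conj_zpowers hgt (zpowers_le.2 hxA hz) with e | e <;> rw [e]
      exacts [hz, inv_mem hz]
    exact mem_normalizer_iff.2 fun z => ⟨key g hgt z, fun h => by
      simpa [mul_assoc] using key g⁻¹ hgt.inv_left _ h⟩)
  have hxC : centralizer ({x} : Set G) ≤ M := fun g hg => hle (by
    refine centralizer_le_normalizer _ (mem_centralizer_iff.2 fun z hz => ?_)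
    obtain ⟨i, rfl⟩ := mem_zpowers_iff.1 hz
    exact ((show Commute g x from mem_centralizer_singleton_iff.1 hg).zpow_right i).eq.symm)
  refine ⟨F.ht, hM, hmax, hcent, fun hR => hyt ?_⟩
  set R := coreIn M with hRdef
  have hV : F.t ∈ M ∧ F.u ∈ M :=
    ⟨hcent (mem_centralizer_singleton_iff.2 rfl), hcent (mem_centralizer_singleton_iff.2 F.htu.eq.symm)⟩
  set K := coreIn (centralizer ({x} : Set G)) with hK
  have hyK : y ∈ K := hG.mem_coreIn_cent hx.2 hx1 hyo hyx
  have hKM : K ≤ M := (coreIn_le _).trans hxC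
  have hKs := F.stab_coreIn_cent' hG (Or.inl rfl) hx
  obtain ⟨v, hv, hvle, hoth⟩ := C.exists_piece_mod F hM hV.1 hV.2 hKM (odd_coreIn _) hKs
  by_cases hxR : x ∈ R
  · -- then `t` is central in the member
    set C1 := M ⊓ centralizer (R : Set G) with hC1
    have hC1x : C1 ≤ centralizer ({x} : Set G) := fun g hg =>
      mem_centralizer_singleton_iff.2 (mem_centralizer_iff.1 hg.2 x hxR).symm
    have hMC1 : M ≤ normalizer (C1 : Set G) := fun g hg => by
      have h1 := mem_normalizer_centralizer (normalizer_coreIn M hg)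
      exact mem_normalizer_iff.2 fun z => by
        rw [hC1, mem_inf, mem_inf]
        exact and_congr (mem_normalizer_iff.1 (le_normalizer hg) z) (mem_normalizer_iff.1 h1 z)
    have htC1 : F.t ∈ C1 := ⟨hV.1, mem_centralizer_iff.2 fun z hz => (hR z hz).eq⟩
    have hC1R : coreIn C1 ≤ R := le_coreIn ((coreIn_le _).trans inf_le_left)
      (hMC1.trans (normalizer_le_normalizer_coreIn _)) (odd_coreIn _)
    have hcomm : ∀ m ∈ M, Commute m F.t := by
      intro m hm
      set s := m * F.t * m⁻¹ with hs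
      have hsI : Inv s := F.ht.conj m
      have hsC1 : s ∈ C1 := conj_mem (hMC1 hm) htC1
      have hsx : Commute x s := (mem_centralizer_singleton_iff.1 (hC1x hsC1) : Commute s x).symm
      suffices h : Commute s F.t by
        refine mul_inv_eq_iff_eq_mul.1 ?_
        by_contra hne
        exact hx1 (hG.four_free F.ht hsI h hne hx.2 hx.1 hsx)
      rcases Nat.even_or_odd (orderOf (F.t * s)) with he | ho
      · obtain ⟨h2, hht, hhs⟩ := CfsgLib.Invol.half_props F.ht.orderOf hsI.orderOf he
        have hhx : Commute x ((F.t * s) ^ (orderOf (F.t * s) / 2)) := (hx.1.mul_right hsx).pow_right _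
        have e1 : (F.t * s) ^ (orderOf (F.t * s) / 2) = F.t := by
          by_contra h
          exact hx1 (hG.four_free F.ht (Inv.of_orderOf h2) hht h hx.2 hx.1 hhx)
        rw [e1] at hhs
        exact hhs.symm
      · have hmem : F.t * s ∈ C1 := mul_mem htC1 hsC1
        have hts : F.t * s ∈ coreIn C1 := by
          refine le_coreIn (N := C1 ⊓ K) inf_le_left (fun g hg => ?_)
            ((odd_coreIn _).of_dvd_nat (card_dvd_of_le inf_le_right))
            ⟨hmem, hG.mem_coreIn_cent hx.2 hx1 ho (hx.1.mul_right hsx).symm⟩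
          have h2 := normalizer_coreIn _ (hC1x hg)
          exact mem_normalizer_iff.2 fun z => by
            rw [mem_inf, mem_inf]
            exact and_congr (mem_normalizer_iff.1 (le_normalizer hg) z) (mem_normalizer_iff.1 h2 z)
        have h3 : Commute (F.t * (F.t * s)) F.t := (Commute.refl F.t).mul_left (hR _ (hC1R hts))
        rwa [← mul_assoc, F.ht.1, one_mul] at h3
    exact hcomm y (hKM hyK)
  · have hvt : v = F.t := by
      by_contra hne
      exact hxR (hoth F.t (Or.inl rfl) (Ne.symm hne)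
        (mem_piece.2 ⟨hG.mem_coreIn_cent hx.2 hx1 hx.2 (Commute.refl x), hx.1⟩))
    subst hvt
    have := hvle hyK
    refine mem_centralizer_singleton_iff.1 ((sup_le (fun z hz => ?_) inf_le_right :
      R ⊔ piece K F.t ≤ centralizer ({F.t} : Set G)) this)
    exact mem_centralizer_singleton_iff.2 (hR z hz).eq

end Ctx

end CfsgLib.DGroup
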