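import Cfsg.Agent.DGroup.NonSimple
import Cfsg.Agent.LocalB.OddSignalizer
import Cfsg.Agent.Invol.ThompsonTransfer

/-!
# The setting of the Bender method: a simple `DHyp` group
-/

set_option autoImplicit false
set_option linter.style.haveILetI false
set_option linter.unusedSectionVars false

namespace CfsgLib.DGroup

open Subgroup
open CfsgLib.NormCyclic (Inv)

universe u

variable {G : Type u} [Group G] [Finite G]

/-- A minimal counterexample candidate. -/
structure Ctx (G : Type u) [Group G] [Finite G] : Prop where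
  hG : DHyp G
  simple : IsSimpleGroup G
  na : ¬ IsMulCommutative G
  IH : SmallTI G

theorem not_solvable_of_simple [IsSimpleGroup G] (hna : ¬ IsMulCommutative G) :
    ¬ Group.IsSolvable G := fun h => hna ⟨⟨IsSimpleGroup.comm_iff_isSolvable.2 h⟩⟩

/-- In a simple `DHyp` group all involutions are conjugate. -/
theorem DHyp.one_class (hG : DHyp G) [IsSimpleGroup G] (hna : ¬ IsMulCommutative G) {a b : G}
    (ha : Inv a) (hb : Inv b) : Fused a b := by
  haveI : Fact (Nat.Prime 2) := ⟨Nat.prime_two⟩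
  have hns := not_solvable_of_simple hna
  obtain ⟨S⟩ : Nonempty (Sylow 2 G) := inferInstance
  have hS1 : (S : Subgroup G) ≠ ⊥ := fun h => hns (by
    obtain ⟨R, hR, hRo, hall⟩ := exists_compl_of_cyclic S (by rw [h]; infer_instance)
    haveI := hR
    exact solvable_of_odd_mem R hRo hall)
  haveI : Nontrivial (S : Subgroup G) := (nontrivial_iff_ne_bot _).2 hS1
  haveI := S.2.center_nontrivial
  obtain ⟨j, hj⟩ := IsPGroup.iff_card.1 (S.2.to_subgroup (center (S : Subgroup G)))
  obtain ⟨c, hc⟩ := exists_prime_orderOf_dvd_card' (G := center (S : Subgroup G)) 2 (by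
    rw [hj]
    rcases j with _ | j
    · exact absurd hj (by rw [pow_zero]; exact ne_of_gt Finite.one_lt_card)
    · exact dvd_pow_self 2 j.succ_ne_zero)
  set z : G := ((c : (S : Subgroup G)) : G) with hz
  have hzI : Inv z := Inv.of_orderOf (by rw [hz, Subgroup.orderOf_coe, Subgroup.orderOf_coe, hc])
  have hcomm : ∀ x ∈ (S : Subgroup G), Commute x z := fun x hx =>
    congrArg Subtype.val (mem_center_iff.1 c.2 ⟨x, hx⟩)
  obtain ⟨A, hA⟩ := hG z hzI
  have key : ∀ x ∈ (S : Subgroup G), Inv x → Fused z x := by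
    intro x hx hxI
    by_cases hxA : x ∈ A
    · rw [hA.invol x hxA hxI.1 hxI.2]; exact Fused.refl z
    set Q := (S : Subgroup G) ⊓ A with hQ
    have hrel : Q.relIndex (S : Subgroup G) = 2 := by
      rw [hQ, inf_relIndex_left, relIndex, index_eq_two_iff]
      refine ⟨⟨x, hx⟩, fun s => ?_⟩
      simp only [mem_subgroupOf, Subgroup.coe_mul]
      by_cases hs : (s : G) ∈ A
      · refine Or.inr ⟨hs, fun h => hxA ?_⟩
        simpa using mul_mem (inv_mem hs) h
      · exact Or.inl ⟨hA.two _ _ (hcomm _ s.2) (hcomm x hx) hs hxA, hs⟩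
    rcases CfsgLib.ThompsonTransfer.thompson_transfer (S : Subgroup G) Q
        (Nat.not_even_iff_odd.1 fun h => S.not_dvd_index (even_iff_two_dvd.1 h)) hrel hxI.1 with
      ⟨M, hM, hMi, hxM⟩ | ⟨g, hg⟩
    · exfalso
      rcases hM.eq_bot_or_eq_top with h | h
      · rw [h, index_bot] at hMi
        haveI : Fact (Nat.Prime 2) := ⟨Nat.prime_two⟩
        haveI := isCyclic_of_prime_card hMi
        letI := IsCyclic.commGroup (α := G)
        exact hna ⟨⟨mul_comm⟩⟩
      · exact hxM (h ▸ mem_top x)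
    · exact Fused.symm ⟨g, hA.invol _ hg.2 (hxI.conj g).1 (hxI.conj g).2⟩
  have all : ∀ x : G, Inv x → Fused z x := by
    intro x hx
    have hp : IsPGroup 2 (zpowers x) := IsPGroup.of_card (n := 1) (by
      rw [Nat.card_zpowers, hx.orderOf, pow_one])
    obtain ⟨R, hR⟩ := hp.exists_le_sylow
    obtain ⟨b, hb⟩ := MulAction.exists_smul_eq G R S
    have : b * x * b⁻¹ ∈ (S : Subgroup G) := by
      rw [← hb]; exact ⟨x, hR (mem_zpowers x), rfl⟩
    exact (key _ this (hx.conj b)).trans ⟨b⁻¹, by group⟩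
  exact (all a ha).symm.trans (all b hb)

/-- A fused involution can be found commuting, by lifting from the quotient by the core. -/
theorem exists_fused_lift {v : G} (hv : Inv v)
    (h : ¬ ∀ g : G, g * v * g⁻¹ * v⁻¹ ∈ Cfsg.oddCore G) :
    ∃ r : G, Inv r ∧ Fused v r ∧ Commute r v ∧ r ≠ v := by
  haveI := normal_oddCore G
  have hN := odd_oddCore G
  obtain ⟨q, hq, hne⟩ := exists_fused_commute (G := G ⧸ Cfsg.oddCore G)
    CfsgLib.LocalB.oddCore_quotient (mk_inv hN hv) (fun hc => h fun g => by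
      rw [← QuotientGroup.eq_one_iff, QuotientGroup.mk_mul, QuotientGroup.mk_mul,
        QuotientGroup.mk_mul, (hc (QuotientGroup.mk g)).eq, QuotientGroup.mk_inv,
        mul_inv_cancel_right, QuotientGroup.mk_inv, mul_inv_cancel])
  obtain ⟨g, rfl⟩ := QuotientGroup.mk_surjective q
  rw [← QuotientGroup.mk_inv, ← QuotientGroup.mk_mul, ← QuotientGroup.mk_mul] at hq hne
  obtain ⟨c, hc, hcg⟩ := cent_lift hN hv hq.symm
  have hcc : c * c ∈ Cfsg.oddCore G := by
    rw [← QuotientGroup.eq_one_iff, QuotientGroup.mk_mul, hcg, ← QuotientGroup.mk_mul,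
      (hv.conj g).1, QuotientGroup.mk_one]
  obtain ⟨n, hn, hnc⟩ := sq_lift hN hcc
  have hr : Inv (c ^ n) := ⟨hn, fun e => (mk_inv hN (hv.conj g)).2 (by
    rw [← hcg, ← hnc, e, QuotientGroup.mk_one])⟩
  obtain ⟨k, -, hk⟩ := conj_of_eq hN (hv.conj g) hr (hcg.symm.trans hnc.symm)
  exact ⟨c ^ n, hr, (Fused.trans ⟨g, rfl⟩ ⟨k, hk⟩), hc.pow_left n,
    fun e => hne (by rw [← hcg, ← hnc, e])⟩

namespace Ctx

variable (C : Ctx G)
include C

theorem oddCore_eq : Cfsg.oddCore G = ⊥ :=
  haveI := C.simple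
  oddCore_eq_bot_of_simple C.na

theorem not_solvable : ¬ Group.IsSolvable G :=
  haveI := C.simple
  not_solvable_of_simple C.na

theorem one (a b : G) (ha : Inv a) (hb : Inv b) : Fused a b :=
  haveI := C.simple
  C.hG.one_class C.na ha hb

theorem cycle (F : Four G) : F.Cycle := C.hG.cycle F C.one

/-- Normalisers of nontrivial subgroups of odd order are proper. -/
theorem normalizer_ne_top {D : Subgroup G} (hD : Odd (Nat.card D)) (hD1 : D ≠ ⊥) :
    normalizer (D : Set G) ≠ ⊤ := fun h => by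
  haveI := C.simple
  haveI : D.Normal := normalizer_eq_top_iff.1 h
  exact hD1 (le_bot_iff.1 (C.oddCore_eq ▸ le_oddCore inferInstance hD))

/-- A proper subgroup satisfies TI modulo its core. -/
theorem ti_quot {L : Subgroup G} (hL : L ≠ ⊤) : TI (L ⧸ Cfsg.oddCore L) := by
  haveI := normal_oddCore L
  refine C.IH _ ?_ ((C.hG.subgroup L).quotient (odd_oddCore L)) CfsgLib.LocalB.oddCore_quotient
  refine lt_of_le_of_lt ?_ (CfsgLib.Solvable.card_lt_of_ne_top hL)
  exact Nat.card_le_card_of_surjective _ QuotientGroup.mk_surjective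

end Ctx

end CfsgLib.DGroup
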