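import Cfsg.Agent.DGroup.Bender

/-!
# The member with most primes absorbs members over its Fitting subgroup
-/

set_option autoImplicit false
set_option linter.style.haveILetI false
set_option linter.unusedSectionVars false

namespace CfsgLib.DGroup

open Subgroup
open CfsgLib.NormCyclic (Inv)

universe u

variable {G : Type u} [Group G] [Finite G]

/-- The centre of the Fitting subgroup of the core is not centralised by `t`. -/
def CaseA (M : Subgroup G) (t : G) : Prop :=
  ∃ p : ℕ, p.Prime ∧ ∃ z ∈ cen p M, ¬ Commute z t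

/-- `M` has at least as many primes as every member of the first kind. -/
def MaxPrimes (M : Subgroup G) : Prop :=
  ∀ (L : Subgroup G) (s : G), IsMember L s → CaseA L s → (sig L).card ≤ (sig M).card

namespace Ctx

variable (C : Ctx G)
include C

theorem eq_of_le (F : Four G) {M L : Subgroup G} (hM : IsMember M F.t) (hmax : MaxPrimes M)
    (hL : IsMember L F.u) (hle : ∀ p : ℕ, p.Prime → Op p M ≤ coreIn L) : L = M := by
  have hG := C.hG
  have hLs : ∀ q, q.Prime → F.Stab (Op q L) := fun q hq =>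
    haveI : Fact q.Prime := ⟨hq⟩
    Four.stab_swap_iff.1 (IsMember.stab_Op (F := F.swap) hL q)
  -- away from the primes of `M` the second group meets the first trivially
  have hEM : ∀ q, q.Prime → Op q M = ⊥ → ∀ e ∈ Op q L, e ∈ coreIn M → e = 1 := by
    intro q hq hbot e he heR
    haveI : Fact q.Prime := ⟨hq⟩
    have := mem_Op_of_commute heR (pow_mem_Op he) (p := q) fun r hr x hx => by
      haveI : Fact r.Prime := ⟨hr⟩
      by_cases h : r = q
      · subst h; rw [hbot, mem_bot] at hx; rw [hx]; exact Commute.one_left e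
      · exact commute_of_pq h (isPGroup_Op r M) (isPGroup_Op q L) hx he
          (coreIn_le_normalizer_Op q L (hle r hr hx)) (coreIn_le_normalizer_Op r M heR)
    rwa [hbot, mem_bot] at this
  have hrot : ∀ q, q.Prime → Op q M = ⊥ → ∀ v, (v = F.u ∨ v = F.w) → ∀ y ∈ coreIn L, Commute y v →
      (orderOf y).Coprime q → ∀ e ∈ Op q L, Commute y e := by
    intro q hq hbot v hv y hy hyv hyq
    haveI : Fact q.Prime := ⟨hq⟩
    have hzN := coreIn_le_normalizer_Op q L hy
    have hyo := odd_orderOf (odd_coreIn L) hy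
    have ht : ∀ e ∈ piece (Op q L) F.t, Commute y e := fun e he => by
      obtain ⟨he1, he2⟩ := mem_piece.1 he
      rw [hEM q hq hbot e he1 (C.mem_core_of_oc hM ⟨he2, odd_orderOf (odd_Op q L) he1⟩)]
      exact Commute.one_right y
    rcases hv with rfl | rfl
    · exact F.rot_commute hG (isPGroup_Op q L) (odd_Op q L) (hLs q hq) ⟨hyv, hyo⟩ hzN hyq ht
    · exact F.flip.rot_commute hG (isPGroup_Op q L) (odd_Op q L) (hLs q hq).rot.rot.swap
        ⟨hyv, hyo⟩ hzN hyq ht
  refine (C.eq_of_cross hM hL hle fun q hq => ?_).symm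
  haveI : Fact q.Prime := ⟨hq⟩
  by_cases hqM : Op q M = ⊥
  swap
  · -- a prime of `M`
    obtain ⟨r, hr, hrq⟩ := C.two_primes hM q
    obtain ⟨hrp, hrne⟩ := mem_sig.1 hr
    haveI : Fact r.Prime := ⟨hrp⟩
    intro y hy
    exact mem_core_of_cen C hM hrne (odd_orderOf (odd_Op q L) hy) fun z hz =>
      (C.cross_commute hM hrq hqM (hle r hrp) (hle q hq) hz.1 hy).symm
  by_contra hnle
  -- the second member is of the first kind
  have hA : CaseA L F.u := by
    by_contra hc
    simp only [CaseA, not_exists, not_and, not_not] at hc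
    obtain ⟨r, hr⟩ := exists_sig hM.core_ne_bot
    obtain ⟨hrp, hrne⟩ := mem_sig.1 hr
    haveI : Fact r.Prime := ⟨hrp⟩
    have hEne : Op q L ≠ ⊥ := fun h => hnle (h ▸ bot_le)
    refine cen_ne_bot hEne (le_bot_iff.1 fun z hz => mem_bot.2 (hEM q hq hqM z hz.1 ?_))
    have hzo := odd_orderOf (odd_Op q L) hz.1
    refine C.mem_core_of_cen hM hrne hzo fun x hx => ?_
    exact (F.commute_of_fixed hG (Or.inr (Or.inl rfl)) (odd_Op r M) (hM.stab_Op r)
      ((odd_Op q L).of_dvd_nat (card_dvd_of_le inf_le_left))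
      ((hle r hrp).trans ((coreIn_le L).trans (le_normalizer_cen q L)))
      (fun k hk => hc q hq k hk) x hx.1 z hz).symm
  -- some prime of `M` is none of `L`
  obtain ⟨p, hpM, hpL⟩ : ∃ p ∈ sig M, p ∉ sig L := by
    by_contra hc
    push Not at hc
    have hlt : sig M ⊂ sig L := by
      refine Finset.ssubset_iff_of_subset (fun x hx => hc x hx) |>.2 ⟨q, ?_, ?_⟩
      · exact mem_sig.2 ⟨hq, fun h => hnle (h ▸ bot_le)⟩
      · exact fun h => (mem_sig.1 h).2 hqM
    exact absurd (hmax L F.u hL hA) (not_le.2 (Finset.card_lt_card hlt))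
  obtain ⟨hp, hpne⟩ := mem_sig.1 hpM
  haveI : Fact p.Prime := ⟨hp⟩
  have hpbot : Op p L = ⊥ := by_contra fun h => hpL (mem_sig.2 ⟨hp, h⟩)
  -- `O_p(M)` commutes with the parts at the primes of `M`
  have hA' : ∀ r, r.Prime → Op r M ≠ ⊥ → ∀ x ∈ Op p M, ∀ y ∈ Op r L, Commute x y := by
    intro r hr hrne x hx y hy
    haveI : Fact r.Prime := ⟨hr⟩
    by_cases h : p = r
    · subst h; rw [hpbot, mem_bot] at hy; rw [hy]; exact Commute.one_right x
    · exact C.cross_commute hM h hrne (hle p hp) (hle r hr) hx hy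
  -- hence it is centralised by `t`
  have hXt : ∀ x ∈ Op p M, Commute x F.t := by
    have hv : ∀ v, (v = F.u ∨ v = F.w) → piece (Op p M) v ≤ centralizer ({F.t} : Set G) := by
      intro v hv x hx
      obtain ⟨hxX, hxv⟩ := mem_piece.1 hx
      have := mem_Op_of_commute (hle p hp hxX) (pow_mem_Op hxX) (p := p) fun r hr y hy => by
        haveI : Fact r.Prime := ⟨hr⟩
        by_cases hrne : Op r M = ⊥
        · by_cases h : p = r
          · subst h; exact absurd hrne hpne
          exact (hrot r hr hrne v hv x (hle p hp hxX) hxv (orderOf_coprime (pow_mem_Op hxX) h) y hy).symm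
        · exact (hA' r hr hrne x hxX y hy).symm
      rw [hpbot, mem_bot] at this
      rw [this]; exact one_mem _
    intro x hx
    exact mem_centralizer_singleton_iff.1 (F.le_of_pieces hG (odd_Op p M) (hM.stab_Op p)
      inf_le_right (hv _ (Or.inl rfl)) (hv _ (Or.inr rfl)) hx)
  have hRX : ∀ r ∈ coreIn M, ∀ x ∈ Op p M, Commute r x :=
    F.commute_of_fixed hG (Or.inl rfl) (odd_coreIn M) hM.stab (odd_Op p M)
      (coreIn_le_normalizer_Op p M) hXt
  -- it centralises the parts of `O(C(u))` at the primes of `M`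
  have hkey : ∀ c ∈ Op p M, ∀ l, l.Prime → Op l M ≠ ⊥ → ∀ y, OC F.u y →
      (∃ j, y ^ l ^ j = 1) → Commute c y := by
    intro c hc l hl hlne y hy hyl
    haveI : Fact l.Prime := ⟨hl⟩
    have hyR : y ∈ coreIn L := C.mem_core_of_oc hL hy
    have hcR : c ∈ coreIn L := hle p hp hc
    set k := c * y * c⁻¹ * y⁻¹ with hk
    have hkR : k ∈ coreIn L := mul_mem (mul_mem (mul_mem hcR hyR) (inv_mem hcR)) (inv_mem hyR)
    have hky : ∀ r, r.Prime → Op r M = ⊥ → ∀ x ∈ Op r L, Commute x y := fun r hr hrbot x hx => by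
      haveI : Fact r.Prime := ⟨hr⟩
      exact (hrot r hr hrbot F.u (Or.inl rfl) y hyR hy.1
        (orderOf_coprime hyl (fun e => hlne (e ▸ hrbot))) x hx).symm
    have hkc : ∀ r, r.Prime → ∀ x ∈ Op r L, Commute x k := by
      intro r hr x hx
      haveI : Fact r.Prime := ⟨hr⟩
      by_cases hrne : Op r M = ⊥
      · have h1 := hky r hr hrne _ (conj_mem' (coreIn_le_normalizer_Op r L hcR) hx)
        have h2 := (Commute.conj_iff c).2 h1
        rw [show c * (c⁻¹ * x * c) * c⁻¹ = x by group] at h2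
        exact h2.mul_right (hky r hr hrne x hx).inv_right
      · have h1 := (hA' r hr hrne c hc _ (conj_mem' (coreIn_le_normalizer_Op r L hyR) hx)).symm
        have h2 := (Commute.conj_iff y).2 h1.inv_right
        rw [show y * (y⁻¹ * x * y) * y⁻¹ = x by group] at h2
        rw [hk, show c * y * c⁻¹ * y⁻¹ = c * (y * c⁻¹ * y⁻¹) by group]
        exact (hA' r hr hrne c hc x hx).symm.mul_right h2
    have hkfit : ∀ b, b ∈ coreIn L → (∀ r, r.Prime → ∀ x ∈ Op r L, Commute x b) → Commute b k :=
      fun b hb hbc => mem_centralizer_singleton_iff.1 (fit_le_centralizer hkc (mem_fit_of_commute hb hbc))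
    -- powers commuting with `c` have order dividing that of `c`
    have hA1 : ∀ i : ℕ, Commute (k ^ i) c → (k ^ i) ^ orderOf c = 1 := by
      intro i hi
      have : ∀ n : ℕ, ∃ b, b ∈ coreIn L ∧ (∀ r, r.Prime → ∀ x ∈ Op r L, Commute x b) ∧
          c ^ n * y * (c ^ n)⁻¹ = b * y ∧ b ^ i = (k ^ i) ^ n := by
        intro n
        induction n with
        | zero => exact ⟨1, one_mem _, fun _ _ x _ => Commute.one_right x, by simp, by simp⟩
        | succ n ih =>
          obtain ⟨b, hb, hbc, hbn, hbi⟩ := ih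
          have hb' : c * b * c⁻¹ ∈ coreIn L := mul_mem (mul_mem hcR hb) (inv_mem hcR)
          have hbc' : ∀ r, r.Prime → ∀ x ∈ Op r L, Commute x (c * b * c⁻¹) := fun r hr x hx => by
            haveI : Fact r.Prime := ⟨hr⟩
            have h2 := (Commute.conj_iff c).2 (hbc r hr _ (conj_mem' (coreIn_le_normalizer_Op r L hcR) hx))
            rwa [show c * (c⁻¹ * x * c) * c⁻¹ = x by group] at h2
          refine ⟨c * b * c⁻¹ * k, mul_mem hb' hkR, fun r hr x hx =>
            (hbc' r hr x hx).mul_right (hkc r hr x hx), ?_, ?_⟩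
          · calc c ^ (n + 1) * y * (c ^ (n + 1))⁻¹ = c * (c ^ n * y * (c ^ n)⁻¹) * c⁻¹ := by
                  rw [pow_succ']; group
              _ = _ := by rw [hbn, hk]; group
          · rw [(hkfit _ hb' hbc').mul_pow, conj_pow, hbi, pow_succ, (hi.pow_left n).symm.eq,
              mul_inv_cancel_right]
      obtain ⟨b, -, -, hb, hbi⟩ := this (orderOf c)
      rw [pow_orderOf_eq_one, inv_one, mul_one, one_mul, right_eq_mul] at hb
      rw [← hbi, hb, one_pow]
    -- the prime power parts
    have hpart : ∀ r, r.Prime → ∀ z ∈ zpowers k, (∃ j, z ^ r ^ j = 1) →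
        Commute z y ∧ (Op r M ≠ ⊥ → z = 1) := by
      intro r hr z hz hzr
      haveI : Fact r.Prime := ⟨hr⟩
      obtain ⟨i, rfl⟩ := mem_powers_iff_mem_zpowers.2 hz
      show Commute (k ^ i) y ∧ _
      have hzmem : k ^ i ∈ Op r L := mem_Op_of_commute (pow_mem hkR i) hzr fun q' hq' x hx =>
        (hkc q' hq' x hx).pow_right i
      by_cases hrne : Op r M = ⊥
      · exact ⟨hky r hr hrne _ hzmem, fun h => absurd hrne h⟩
      have h1 : k ^ i = 1 := by
        by_cases h : r = p
        · subst h; rwa [hpbot, mem_bot] at hzmem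
        obtain ⟨j, hj⟩ := pow_mem_Op hc
        exact orderOf_eq_one_iff.1 (Nat.eq_one_of_dvd_coprimes
          ((orderOf_coprime hzr h).pow_right j) dvd_rfl
          ((orderOf_dvd_of_pow_eq_one (hA1 i (hA' r hr hrne c hc _ hzmem).symm)).trans
            (orderOf_dvd_of_pow_eq_one hj)))
      exact ⟨h1 ▸ Commute.one_left y, fun _ => h1⟩
    have hkcy : Commute k y := by
      have : zpowers k ≤ centralizer ({y} : Set G) := le_of_primes fun r hr z hz hzr =>
        mem_centralizer_singleton_iff.2 (hpart r hr z hz hzr).1.eq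
      exact mem_centralizer_singleton_iff.1 (this (mem_zpowers k))
    obtain ⟨j, hj⟩ := hyl
    have hkl : k ^ l ^ j = 1 := by
      have h1 : (c * y * c⁻¹) ^ l ^ j = 1 := by rw [conj_pow, hj, mul_one, mul_inv_cancel]
      rw [show c * y * c⁻¹ = k * y by rw [hk]; group, hkcy.mul_pow, hj, mul_one] at h1
      exact h1
    exact mul_inv_eq_iff_eq_mul.1 (mul_inv_eq_one.1 ((hpart l hl k (mem_zpowers k) ⟨j, hkl⟩).2 hlne))
  -- a conjugate of a nontrivial element gives the contradiction
  obtain ⟨c, hc, hc1⟩ := (Op p M).bot_or_exists_ne_one.resolve_left hpne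
  obtain ⟨g, g1, g2, -⟩ := C.cycle F
  set d := g * c * g⁻¹ with hd
  have hdu : OC F.u d := ⟨by rw [← g1]; exact (Commute.conj_iff g).2 (hXt c hc), by
    rw [hd, CfsgLib.Invol.orderOf_conj_eq]; exact odd_orderOf (odd_Op p M) hc⟩
  obtain ⟨j, hj⟩ := pow_mem_Op hc
  have hdp : ∃ j, d ^ p ^ j = 1 := ⟨j, by rw [hd, conj_pow, hj, mul_one, mul_inv_cancel]⟩
  have hdR : d ∈ coreIn M := C.mem_core_of_cen hM hpne hdu.2 fun z hz =>
    (hkey z hz.1 p hp hpne d hdu hdp).symm
  have hdX : d ∈ Op p M := mem_Op_of_commute hdR hdp fun l hl x hx => by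
    haveI : Fact l.Prime := ⟨hl⟩
    by_cases h : p = l
    · subst h; exact (hRX d hdR x hx).symm
    by_cases hlne : Op l M = ⊥
    · rw [hlne, mem_bot] at hx; rw [hx]; exact Commute.one_left d
    refine (F.rot.swap.rot_commute hG (isPGroup_Op l M) (odd_Op l M) (hM.stab_Op l).rot.swap hdu
      (coreIn_le_normalizer_Op l M hdR) (orderOf_coprime hdp h) ?_ x hx).symm
    intro y hy
    obtain ⟨hyX, hyw⟩ := mem_piece.1 hy
    obtain ⟨i, hi⟩ := pow_mem_Op hyX
    have h1 : OC F.u (g⁻¹ * y * g) := ⟨by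
      have h := (Commute.conj_iff g⁻¹).2 (show Commute y F.w from hyw)
      rw [← g2] at h
      simpa [mul_assoc] using h, by
        have := CfsgLib.Invol.orderOf_conj_eq g⁻¹ y
        rw [inv_inv] at this
        rw [this]; exact odd_orderOf (odd_Op l M) hyX⟩
    have h2 := hkey c hc l hl hlne _ h1 ⟨i, by
      rw [show g⁻¹ * y * g = g⁻¹ * y * g⁻¹⁻¹ by group, conj_pow, hi]; group⟩
    have h3 := (Commute.conj_iff g).2 h2
    rwa [show g * (g⁻¹ * y * g) * g⁻¹ = y by group] at h3
  have hd1 : d = 1 := hG.four_free F.ht F.hu F.htu.symm F.ne.symm hdu.2 (hXt d hdX) hdu.1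
  exact hc1 (conj_eq_one_iff.1 hd1)

end Ctx

end CfsgLib.DGroup
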