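import Cfsg.Agent.DGroup.Basic
import Cfsg.Agent.Bender.GSide
import Cfsg.Agent.Solvable.CoprimeAct

/-!
# Subgroups of odd order normalised by a four group in a `DHyp` group
-/

set_option autoImplicit false
set_option linter.style.haveILetI false
set_option linter.unusedSectionVars false

namespace CfsgLib.DGroup

open Subgroup
open CfsgLib.NormCyclic (Inv)

universe u

variable {G : Type u} [Group G]

theorem conj_mem {g x : G} {K : Subgroup G} (hg : g ∈ normalizer (K : Set G)) (hx : x ∈ K) :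
    g * x * g⁻¹ ∈ K := (mem_normalizer_iff.1 hg x).1 hx

theorem conj_mem' {g x : G} {K : Subgroup G} (hg : g ∈ normalizer (K : Set G)) (hx : x ∈ K) :
    g⁻¹ * x * g ∈ K := by simpa using conj_mem (inv_mem hg) hx

/-- If the square of an element of odd order commutes with `c`, so does the element. -/
theorem commute_of_sq {y c : G} (hy : Odd (orderOf y)) (h : Commute (y * y) c) : Commute y c := by
  obtain ⟨m, hm⟩ := hy
  have e : y = (y * y) ^ (m + 1) := by
    rw [(Commute.refl y).mul_pow, ← pow_add, show m + 1 + (m + 1) = orderOf y + 1 by omega,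
      pow_succ, pow_orderOf_eq_one, one_mul]
  rw [e]; exact h.pow_left _

/-- An element of odd order inverted and centralised by the same element of odd order. -/
theorem eq_one_of_inverted {y c : G} (hy : Odd (orderOf y)) (hc : Odd (orderOf c))
    (h : y * c * y⁻¹ = c⁻¹) : c = 1 := by
  refine eq_one_of_inv_eq ?_ hc
  have h2 : Commute (y * y) c := by
    show y * y * c = c * (y * y)
    have : y * (y * c * y⁻¹) * y⁻¹ = c := by rw [h, ← conj_inv, h, inv_inv]
    calc y * y * c = y * (y * c * y⁻¹) * y⁻¹ * (y * y) := by group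
      _ = _ := by rw [this]
  rw [← h, (commute_of_sq hy h2).eq, mul_inv_cancel_right]

/-- If `a` centralises `t` and `y` is inverted by `t`, the commutator can centralise `t` only if it
is trivial. -/
theorem commute_of_comm {t a y : G} (ht : t * t = 1) (ha : Commute a t) (hy : Odd (orderOf y))
    (hyt : t * y * t = y⁻¹) (hc : Commute (a * y * a⁻¹ * y⁻¹) t)
    (hco : Odd (orderOf (a * y * a⁻¹ * y⁻¹))) : Commute a y := by
  have hti : t⁻¹ = t := inv_eq_of_mul_eq_one_right ht
  have hat : t * a * t⁻¹ = a := by rw [← ha.eq, mul_inv_cancel_right]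
  have e : a * y⁻¹ * a⁻¹ * y = a * y * a⁻¹ * y⁻¹ := by
    have h1 : t * (a * y * a⁻¹ * y⁻¹) * t⁻¹ = a * y * a⁻¹ * y⁻¹ := by
      rw [← hc.eq, mul_inv_cancel_right]
    have h2 : t * y * t⁻¹ = y⁻¹ := by rw [hti, hyt]
    conv_rhs => rw [← h1]
    simp only [← conj_mul, ← conj_inv, hat, h2, inv_inv]
  have h : y * (a * y * a⁻¹ * y⁻¹) * y⁻¹ = (a * y * a⁻¹ * y⁻¹)⁻¹ := by
    conv_lhs => rw [← e]
    group
  have := eq_one_of_inverted hy hco h
  exact mul_inv_eq_iff_eq_mul.1 (mul_inv_eq_one.1 this)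

/-- A conjugate staying in `C(t)` of an element of `C(t)` by an element inverted by `t`. -/
theorem commute_of_conj {t c z : G} (ht : t * t = 1) (hc : Commute c t) (hz : Odd (orderOf z))
    (hzt : t * z * t = z⁻¹) (h : Commute (z * c * z⁻¹) t) : Commute z c := by
  refine commute_of_sq hz ?_
  have hti : t⁻¹ = t := inv_eq_of_mul_eq_one_right ht
  have hct : t * c * t⁻¹ = c := by rw [← hc.eq, mul_inv_cancel_right]
  have h2 : t * z * t⁻¹ = z⁻¹ := by rw [hti, hzt]
  have e : z⁻¹ * c * z = z * c * z⁻¹ := by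
    have h1 : t * (z * c * z⁻¹) * t⁻¹ = z * c * z⁻¹ := by rw [← h.eq, mul_inv_cancel_right]
    conv_rhs => rw [← h1]
    simp only [← conj_mul, ← conj_inv, hct, h2, inv_inv]
  show z * z * c = c * (z * z)
  calc z * z * c = z * (z * c * z⁻¹) * z := by group
    _ = z * (z⁻¹ * c * z) * z := by rw [e]
    _ = _ := by group

/-- A four group, with an ordering of its involutions. -/
structure Four (G : Type u) [Group G] where
  t : G
  u : G
  w : G
  ht : Inv t
  hu : Inv u
  hw : Inv w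
  htu : Commute t u
  ne : t ≠ u
  mul : t * u = w

/-- The piece of `K` centralised by `v`. -/
def piece (K : Subgroup G) (v : G) : Subgroup G := K ⊓ centralizer ({v} : Set G)

theorem mem_piece {K : Subgroup G} {v x : G} : x ∈ piece K v ↔ x ∈ K ∧ Commute x v := by
  rw [piece, mem_inf, mem_centralizer_singleton_iff]; rfl

theorem piece_mono {K L : Subgroup G} (h : K ≤ L) (v : G) : piece K v ≤ piece L v :=
  inf_le_inf_right _ h

namespace Four

variable (F : Four G)

theorem htw : Commute F.t F.w := F.mul ▸ (Commute.refl F.t).mul_right F.htu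

theorem huw : Commute F.u F.w := F.mul ▸ F.htu.symm.mul_right (Commute.refl F.u)

theorem ne_tw : F.t ≠ F.w := fun h => F.hu.2 (by
  have h' := F.mul.trans h.symm
  exact mul_eq_left.1 h')

theorem ne_uw : F.u ≠ F.w := fun h => F.ht.2 (by
  have h' := F.mul.trans h.symm
  exact mul_eq_right.1 h')

theorem mul_uw : F.u * F.w = F.t := by
  rw [← F.mul, F.htu.eq, ← mul_assoc, F.hu.1, one_mul]

/-- Cyclic rotation. -/
def rot : Four G := ⟨F.u, F.w, F.t, F.hu, F.hw, F.ht, F.huw, F.ne_uw, F.mul_uw⟩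

/-- Exchange of the first two involutions. -/
def swap : Four G := ⟨F.u, F.t, F.w, F.hu, F.ht, F.hw, F.htu.symm, F.ne.symm,
  F.htu.eq.symm.trans F.mul⟩

@[simp] theorem rot_t : F.rot.t = F.u := rfl
@[simp] theorem rot_u : F.rot.u = F.w := rfl
@[simp] theorem rot_w : F.rot.w = F.t := rfl
@[simp] theorem swap_t : F.swap.t = F.u := rfl
@[simp] theorem swap_u : F.swap.u = F.t := rfl
@[simp] theorem swap_w : F.swap.w = F.w := rfl

/-- `F` normalises `K`. -/
def Stab (K : Subgroup G) : Prop :=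
  F.t ∈ normalizer (K : Set G) ∧ F.u ∈ normalizer (K : Set G)

variable {F}

theorem Stab.w {K : Subgroup G} (h : F.Stab K) : F.w ∈ normalizer (K : Set G) :=
  F.mul ▸ mul_mem h.1 h.2

theorem Stab.rot {K : Subgroup G} (h : F.Stab K) : F.rot.Stab K := ⟨h.2, h.w⟩

theorem Stab.swap {K : Subgroup G} (h : F.Stab K) : F.swap.Stab K := ⟨h.2, h.1⟩

theorem Stab.of_le {K : Subgroup G} {L : Subgroup G} (hV : F.t ∈ L ∧ F.u ∈ L)
    (hK : L ≤ normalizer (K : Set G)) : F.Stab K := ⟨hK hV.1, hK hV.2⟩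

theorem Stab.inf {K L : Subgroup G} (hK : F.Stab K) (hL : F.Stab L) : F.Stab (K ⊓ L) := by
  have : ∀ g, g ∈ normalizer (K : Set G) → g ∈ normalizer (L : Set G) →
      g ∈ normalizer ((K ⊓ L : Subgroup G) : Set G) := fun g h1 h2 =>
    mem_normalizer_iff.2 fun x => by
      rw [mem_inf, mem_inf, mem_normalizer_iff.1 h1 x, mem_normalizer_iff.1 h2 x]
  exact ⟨this _ hK.1 hL.1, this _ hK.2 hL.2⟩

theorem mem_normalizer_normalizer {g : G} {K : Subgroup G} (h : g ∈ normalizer (K : Set G)) :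
    g ∈ normalizer ((normalizer (K : Set G) : Subgroup G) : Set G) := le_normalizer h

theorem Stab.normalizer {K : Subgroup G} (h : F.Stab K) :
    F.Stab (Subgroup.normalizer (K : Set G)) :=
  ⟨mem_normalizer_normalizer h.1, mem_normalizer_normalizer h.2⟩

variable (F)

/-- The four group as a subgroup. -/
def V : Subgroup G := closure {F.t, F.u}

theorem V_le_normalizer {K : Subgroup G} (h : F.Stab K) : F.V ≤ normalizer (K : Set G) :=
  (closure_le _).2 (by rintro x (rfl | rfl); exacts [h.1, h.2])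

theorem mem_V {x : G} (hx : x ∈ F.V) : x = 1 ∨ x = F.t ∨ x = F.u ∨ x = F.w := by
  have hwu : F.w * F.u = F.t := by rw [← F.mul, mul_assoc, F.hu.1, mul_one]
  have htw : F.t * F.w = F.u := by rw [← F.mul, ← mul_assoc, F.ht.1, one_mul]
  have hut : F.u * F.t = F.w := F.htu.eq.symm.trans F.mul
  induction hx using closure_induction with
  | mem x hx => rcases hx with rfl | rfl <;> simp
  | one => simp
  | inv x _ ih => rcases ih with rfl | rfl | rfl | rfl <;> simp [F.ht.inv_eq, F.hu.inv_eq, F.hw.inv_eq]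
  | mul x y _ _ ihx ihy =>
    rcases ihx with rfl | rfl | rfl | rfl <;> rcases ihy with rfl | rfl | rfl | rfl <;>
      simp [F.ht.1, F.hu.1, F.hw.1, F.mul, hut, htw, hwu, F.mul_uw, F.htw.eq.symm]

theorem card_V [Finite G] : IsPGroup 2 F.V := by
  rintro ⟨x, hx⟩
  refine ⟨1, Subtype.ext ?_⟩
  rcases F.mem_V hx with rfl | rfl | rfl | rfl <;> simp [pow_two, F.ht.1, F.hu.1, F.hw.1]

theorem coprime_V [Finite G] {K : Subgroup G} (hK : Odd (Nat.card K)) :
    (Nat.card F.V).Coprime (Nat.card K) := by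
  obtain ⟨k, hk⟩ := IsPGroup.iff_card.1 F.card_V
  rw [hk]; exact (Nat.coprime_two_left.2 hK).pow_left _

theorem piece_stab {K : Subgroup G} (h : F.Stab K) {v : G} (h1 : Commute F.t v)
    (h2 : Commute F.u v) : F.Stab (piece K v) := by
  have : ∀ g, g ∈ Subgroup.normalizer (K : Set G) → Commute g v →
      g ∈ Subgroup.normalizer ((piece K v : Subgroup G) : Set G) := fun g hg hgv => by
    refine mem_normalizer_iff.2 fun x => ?_
    rw [mem_piece, mem_piece, mem_normalizer_iff.1 hg x]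
    refine and_congr_right fun _ => ⟨fun hx => (hgv.mul_left hx).mul_left hgv.inv_left, fun hx => ?_⟩
    have := (hgv.inv_left.mul_left hx).mul_left hgv
    simpa [mul_assoc] using this
  exact ⟨this _ h.1 h1, this _ h.2 h2⟩

variable [Finite G]

theorem split_t {K : Subgroup G} (hK : Odd (Nat.card K)) (h : F.t ∈ Subgroup.normalizer (K : Set G))
    {y : G} (hy : y ∈ K) : ∃ c ∈ piece K F.t, ∃ i ∈ K, F.t * i * F.t = i⁻¹ ∧ y = c * i := by
  obtain ⟨c, hc, i, hi, hct, hit, rfl⟩ := CfsgLib.Bender.GSide.split hK F.ht.1 hy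
    (by have := conj_mem h hy; rwa [F.ht.inv_eq] at this)
  exact ⟨c, mem_piece.2 ⟨hc, hct.symm⟩, i, hi, hit, rfl⟩

theorem eq_one_of_fixed (hG : DHyp G) {y : G} (hy : Odd (orderOf y)) (h1 : Commute y F.t)
    (h2 : Commute y F.u) : y = 1 :=
  hG.four_free F.ht F.hu F.htu.symm F.ne.symm hy h1 h2

theorem conj_eq {v s z : G} (hG : DHyp G) (hv : Inv v) (hs : Inv s) (hsv : Commute s v)
    (hne : s ≠ v) (hz : OC v z) : s * z * s⁻¹ = z⁻¹ := by
  rw [hs.inv_eq]; exact hG.inverts hv hs hsv hne hz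

theorem conj_fix {v z : G} (h : Commute z v) : v * z * v⁻¹ = z := by
  rw [← h.eq, mul_inv_cancel_right]

/-- The pieces multiply injectively. -/
theorem card_ge (hG : DHyp G) {K : Subgroup G} (hK : Odd (Nat.card K)) :
    Nat.card (piece K F.t) * Nat.card (piece K F.u) * Nat.card (piece K F.w) ≤ Nat.card K := by
  rw [mul_assoc, ← Nat.card_prod, ← Nat.card_prod]
  refine Nat.card_le_card_of_injective (fun p => (⟨(p.1 : G) * (p.2.1 * p.2.2 * p.2.1),
    mul_mem (mem_piece.1 p.1.2).1 (mul_mem (mul_mem (mem_piece.1 p.2.1.2).1 (mem_piece.1 p.2.2.2).1)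
      (mem_piece.1 p.2.1.2).1)⟩ : K)) ?_
  rintro ⟨⟨a, ha⟩, ⟨b, hb⟩, ⟨c, hc⟩⟩ ⟨⟨a', ha'⟩, ⟨b', hb'⟩, ⟨c', hc'⟩⟩ he
  simp only [Subtype.mk.injEq] at he
  rw [mem_piece] at ha hb hc ha' hb' hc'
  have oc : ∀ {v x : G}, x ∈ K → Commute x v → OC v x := fun hx h => ⟨h, odd_orderOf hK hx⟩
  have tb : ∀ {z : G}, z ∈ K → Commute z F.u → F.t * z * F.t⁻¹ = z⁻¹ := fun h1 h2 =>
    conj_eq hG F.hu F.ht F.htu F.ne (oc h1 h2)
  have tc : ∀ {z : G}, z ∈ K → Commute z F.w → F.t * z * F.t⁻¹ = z⁻¹ := fun h1 h2 =>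
    conj_eq hG F.hw F.ht F.htw F.ne_tw (oc h1 h2)
  have uc : ∀ {z : G}, z ∈ K → Commute z F.w → F.u * z * F.u⁻¹ = z⁻¹ := fun h1 h2 =>
    conj_eq hG F.hw F.hu F.huw F.ne_uw (oc h1 h2)
  have wb : ∀ {z : G}, z ∈ K → Commute z F.u → F.w * z * F.w⁻¹ = z⁻¹ := fun h1 h2 =>
    conj_eq hG F.hu F.hw F.huw.symm F.ne_uw.symm (oc h1 h2)
  -- the first factor
  obtain ⟨i, hi⟩ : ∃ i : G, i = b * c * b := ⟨_, rfl⟩
  obtain ⟨i', hi'⟩ : ∃ i : G, i = b' * c' * b' := ⟨_, rfl⟩
  rw [← hi, ← hi'] at he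
  have hiK : i ∈ K := hi ▸ mul_mem (mul_mem hb.1 hc.1) hb.1
  set x := a'⁻¹ * a with hx
  have e0 : x * i = i' := by rw [hx, mul_assoc, he, inv_mul_cancel_left]
  have hit : ∀ {p q : G}, p ∈ K → Commute p F.u → q ∈ K → Commute q F.w →
      F.t * (p * q * p) * F.t⁻¹ = (p * q * p)⁻¹ := by
    intro p q hp hpu hq hqw
    rw [← conj_mul, ← conj_mul, tb hp hpu, tc hq hqw]
    group
  have e1 : x * i⁻¹ = i'⁻¹ := by
    have := congrArg (fun g => F.t * g * F.t⁻¹) e0
    simp only [← conj_mul] at this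
    rwa [conj_fix (ha'.2.inv_left.mul_left ha.2), hi, hi', hit hb.1 hb.2 hc.1 hc.2,
      hit hb'.1 hb'.2 hc'.1 hc'.2, ← hi, ← hi'] at this
  have hx1 : x = 1 := by
    refine eq_one_of_inverted (odd_orderOf hK hiK)
      (odd_orderOf hK (mul_mem (inv_mem ha'.1) ha.1)) ?_
    calc i * x * i⁻¹ = i * (x * i⁻¹) := mul_assoc _ _ _
      _ = i * (x * i)⁻¹ := by rw [e1, e0]
      _ = x⁻¹ := by group
  obtain rfl : a' = a := inv_mul_eq_one.1 hx1
  have hii : i = i' := by rwa [hx1, one_mul] at e0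
  -- the other factors
  obtain ⟨e, he'⟩ : ∃ e : G, e = b'⁻¹ * b := ⟨_, rfl⟩
  have heK : e ∈ K := he' ▸ mul_mem (inv_mem hb'.1) hb.1
  have heu : Commute e F.u := he' ▸ hb'.2.inv_left.mul_left hb.2
  have hii' : b * c⁻¹ * b = b' * c'⁻¹ * b' := by
    have := congrArg (fun g => F.u * g * F.u⁻¹) hii
    rw [hi, hi', ← conj_mul, ← conj_mul, ← conj_mul, ← conj_mul] at this
    rwa [conj_fix hb.2, conj_fix hb'.2, uc hc.1 hc.2, uc hc'.1 hc'.2] at this
  have e2 : e * (c * c) * e⁻¹ = c' * c' := by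
    calc e * (c * c) * e⁻¹ = b'⁻¹ * ((b * c * b) * (b * c⁻¹ * b)⁻¹) * b' := by rw [he']; group
      _ = b'⁻¹ * ((b' * c' * b') * (b' * c'⁻¹ * b')⁻¹) * b' := by rw [hii']; simp only [← hi, hii, hi']
      _ = _ := by group
  have e3 : e⁻¹ * (c * c) * e = c' * c' := by
    have := congrArg (fun g => F.w * g * F.w⁻¹) e2
    rw [← conj_mul, ← conj_mul, ← conj_mul, ← conj_mul, ← conj_inv] at this
    rwa [conj_fix hc.2, conj_fix hc'.2, wb heK heu, inv_inv] at this
  have hec : Commute e (c * c) := by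
    refine commute_of_sq (odd_orderOf hK heK) ?_
    show e * e * (c * c) = c * c * (e * e)
    calc e * e * (c * c) = e * (e * (c * c) * e⁻¹) * e := by group
      _ = e * (e⁻¹ * (c * c) * e) * e := by rw [e2, e3]
      _ = _ := by group
  have hcc : c * c = c' * c' := by rw [← e2, hec.eq, mul_inv_cancel_right]
  obtain rfl : c' = c := by
    refine inv_mul_eq_one.1 (eq_one_of_sq ?_ (odd_orderOf hK (mul_mem (inv_mem hc'.1) hc.1)))
    have hcm : Commute c'⁻¹ c := (hG.oc_commute F.hw (oc hc'.1 hc'.2) (oc hc.1 hc.2)).inv_left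
    rw [hcm.symm.mul_mul_mul_comm, hcc, ← mul_inv_rev, inv_mul_cancel]
  have hec' : Commute e c' := (commute_of_sq (odd_orderOf hK hc.1) hec.symm).symm
  have hbe : Commute e b' := hG.oc_commute F.hu (oc heK heu) (oc hb'.1 hb'.2)
  obtain rfl : b' = b := by
    refine inv_mul_eq_one.1 (he'.symm.trans (eq_one_of_sq ?_ (odd_orderOf hK heK)))
    have hb_eq : b = b' * e := by rw [he', mul_inv_cancel_left]
    have h1 : b' * c' * b' * (e * e) = b' * c' * b' * 1 := by
      calc b' * c' * b' * (e * e) = b' * (c' * (b' * e)) * e := by group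
        _ = b' * (c' * (e * b')) * e := by rw [hbe.eq]
        _ = b' * ((c' * e) * b') * e := by group
        _ = b' * ((e * c') * b') * e := by rw [hec'.eq]
        _ = (b' * e) * c' * (b' * e) := by group
        _ = i := by rw [← hb_eq, hi]
        _ = _ := by rw [hii, hi', mul_one]
    exact mul_left_cancel h1
  rfl

theorem stab_conj {K : Subgroup G} (h : F.Stab K) : ∀ g ∈ F.V, ∀ x ∈ K, g * x * g⁻¹ ∈ K :=
  fun _ hg _ hx => conj_mem (F.V_le_normalizer h hg) hx

/-- A group containing the pieces of a `p`-group contains it. -/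
theorem le_of_pieces_p {p : ℕ} [Fact p.Prime] {P L : Subgroup G} (hP : IsPGroup p P)
    (hPo : Odd (Nat.card P)) (hs : F.Stab P) (ht : piece P F.t ≤ L) (hu : piece P F.u ≤ L)
    (hw : piece P F.w ≤ L) : P ≤ L := by
  by_cases h1 : P = ⊥
  · rw [h1]; exact bot_le
  have hodd : Odd p := by
    obtain ⟨k, hk⟩ := IsPGroup.iff_card.1 hP
    rcases k with _ | k
    · exact absurd (card_eq_one.1 (by rw [hk, pow_zero])) h1
    · exact hPo.of_dvd_nat (hk ▸ dvd_pow_self p k.succ_ne_zero)
  set K := closure ((piece P F.t : Set G) ∪ piece P F.u ∪ piece P F.w) with hKdef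
  have hstab : ∀ g : G, g ∈ F.V → ∀ x ∈ K, g * x * g⁻¹ ∈ K := by
    intro g hg x hx
    have hle : K.map (MulAut.conj g).toMonoidHom ≤ K := by
      rw [hKdef, MonoidHom.map_closure, closure_le]
      rintro _ ⟨y, hy, rfl⟩
      refine subset_closure ?_
      have key : ∀ v : G, Commute g v → y ∈ piece P v → MulAut.conj g y ∈ piece P v := fun v hgv hy =>
        mem_piece.2 ⟨F.stab_conj hs g hg y (mem_piece.1 hy).1, by
          show Commute (g * y * g⁻¹) v
          exact (hgv.mul_left (mem_piece.1 hy).2).mul_left hgv.inv_left⟩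
      have hV : ∀ v, v = F.t ∨ v = F.u ∨ v = F.w → Commute g v := by
        intro v hv
        rcases F.mem_V hg with rfl | rfl | rfl | rfl <;> rcases hv with rfl | rfl | rfl <;>
          first
            | exact Commute.one_left _
            | exact Commute.refl _
            | exact F.htu
            | exact F.htu.symm
            | exact F.htw
            | exact F.htw.symm
            | exact F.huw
            | exact F.huw.symm
      rcases hy with (hy | hy) | hy
      · exact Or.inl (Or.inl (key _ (hV _ (Or.inl rfl)) hy))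
      · exact Or.inl (Or.inr (key _ (hV _ (Or.inr (Or.inl rfl))) hy))
      · exact Or.inr (key _ (hV _ (Or.inr (Or.inr rfl))) hy)
    exact hle ⟨x, hx, rfl⟩
  have hN : ∀ g : G, g ∈ F.V → g ∈ Subgroup.normalizer (K : Set G) := fun g hg =>
    mem_normalizer_iff.2 fun x => ⟨hstab g hg x, fun hx => by
      simpa [mul_assoc] using hstab g⁻¹ (inv_mem hg) _ hx⟩
  refine (CfsgLib.Bender.GSide.le_of_four hodd hP F.ht.orderOf F.hu.orderOf F.htu hs.1 hs.2
    (hN _ (subset_closure (Or.inl rfl))) (hN _ (subset_closure (Or.inr rfl))) ?_).trans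
    ((closure_le _).2 (Set.union_subset (Set.union_subset ht hu) hw))
  intro v y hv hy hc
  refine subset_closure ?_
  rcases hv with rfl | rfl | rfl
  · exact Or.inl (Or.inl (mem_piece.2 ⟨hy, hc.symm⟩))
  · exact Or.inl (Or.inr (mem_piece.2 ⟨hy, hc.symm⟩))
  · exact Or.inr (mem_piece.2 ⟨hy, F.mul ▸ hc.symm⟩)

/-- The order of a `p`-group is at most the product of the orders of its pieces. -/
theorem card_le {p : ℕ} [Fact p.Prime] : ∀ {P : Subgroup G}, IsPGroup p P → Odd (Nat.card P) →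
    F.Stab P → Nat.card P ≤ Nat.card (piece P F.t) * Nat.card (piece P F.u) * Nat.card (piece P F.w) := by
  suffices H : ∀ n : ℕ, ∀ P : Subgroup G, Nat.card P = n → IsPGroup p P → Odd (Nat.card P) →
      F.Stab P → Nat.card P ≤
        Nat.card (piece P F.t) * Nat.card (piece P F.u) * Nat.card (piece P F.w) from
    fun {P} => H _ P rfl
  intro n
  induction n using Nat.strong_induction_on with | _ n ih => ?_
  intro P hn hP hPo hs
  subst hn
  by_cases h1 : P = ⊥
  · subst h1
    rw [Subgroup.card_bot]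
    exact Nat.mul_pos (Nat.mul_pos Nat.card_pos Nat.card_pos) Nat.card_pos
  -- a maximal invariant subgroup containing the commutator subgroup
  have hPP : ⁅P, P⁆ < P := by
    refine lt_of_le_of_ne (commutator_le.2 fun a ha b hb => mul_mem (mul_mem (mul_mem ha hb)
      (inv_mem ha)) (inv_mem hb)) fun h => h1 ?_
    obtain ⟨m, hm⟩ := (Subgroup.isNilpotent_iff_lowerCentralSeries _).1 hP.isNilpotent
    have : ∀ i, P ≤ P.lowerCentralSeries i := by
      intro i
      induction i with
      | zero => exact le_rfl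
      | succ i hi => exact h.ge.trans (commutator_mono hi le_rfl)
    exact eq_bot_iff.2 (hm ▸ this m)
  have hst : F.Stab ⁅P, P⁆ := by
    have : ∀ g, g ∈ Subgroup.normalizer (P : Set G) →
        g ∈ Subgroup.normalizer ((⁅P, P⁆ : Subgroup G) : Set G) := fun g hg => by
      rw [CfsgLib.Bender.GSide.mem_norm_iff] at hg ⊢
      show (⁅P, P⁆ : Subgroup G).map (MulAut.conj g).toMonoidHom = ⁅P, P⁆
      rw [map_commutator]
      exact congrArg₂ _ hg hg
    exact ⟨this _ hs.1, this _ hs.2⟩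
  obtain ⟨N, hcN, hNmax⟩ := exists_maximal_ge_of_wellFoundedGT
    (fun N : Subgroup G => ⁅P, P⁆ ≤ N ∧ N < P ∧ F.Stab N) ⁅P, P⁆ ⟨le_rfl, hPP, hst⟩
  obtain ⟨⟨-, hNlt, hNs⟩, hmax⟩ := hNmax
  have hPN : P ≤ Subgroup.normalizer (N : Set G) := fun a ha => mem_normalizer_iff.2 fun x => by
    have key : ∀ b ∈ P, ∀ y ∈ N, b * y * b⁻¹ ∈ N := fun b hb y hy => by
      have := mul_mem (hcN (commutator_mem_commutator hb (hNlt.le hy))) hy
      rwa [commutatorElement_def, inv_mul_cancel_right] at this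
    exact ⟨key a ha x, fun hx => by simpa [mul_assoc] using key a⁻¹ (inv_mem ha) _ hx⟩
  -- a piece outside `N`
  obtain ⟨v, hv, hvN⟩ : ∃ v, (v = F.t ∨ v = F.u ∨ v = F.w) ∧ ¬ piece P v ≤ N := by
    by_contra h
    push Not at h
    exact hNlt.not_ge (F.le_of_pieces_p hP hPo hs (h _ (Or.inl rfl)) (h _ (Or.inr (Or.inl rfl)))
      (h _ (Or.inr (Or.inr rfl))))
  have hvV : Commute F.t v ∧ Commute F.u v := by
    rcases hv with rfl | rfl | rfl
    exacts [⟨Commute.refl _, F.htu.symm⟩, ⟨F.htu, Commute.refl _⟩, ⟨F.htw, F.huw⟩]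
  have hQs := F.piece_stab hs hvV.1 hvV.2
  set Q := piece P v with hQ
  have hQP : Q ≤ P := inf_le_left
  have hsup : N ⊔ Q = P := by
    refine le_antisymm (sup_le hNlt.le hQP) ?_
    by_contra hne
    have hlt : N ⊔ Q < P := lt_of_le_not_ge (sup_le hNlt.le hQP) hne
    have hsupS : F.Stab (N ⊔ Q) := by
      have : ∀ g, g ∈ Subgroup.normalizer (N : Set G) → g ∈ Subgroup.normalizer (Q : Set G) →
          g ∈ Subgroup.normalizer ((N ⊔ Q : Subgroup G) : Set G) := fun g h1 h2 => by
        rw [← CfsgLib.SZ.conj_smul_eq_iff_mem_normalizer] at h1 h2 ⊢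
        rw [Subgroup.smul_sup, h1, h2]
      exact ⟨this _ hNs.1 hQs.1, this _ hNs.2 hQs.2⟩
    exact hvN (le_sup_right.trans (hmax ⟨hcN.trans le_sup_left, hlt, hsupS⟩ le_sup_left))
  have hmul := CfsgLib.Solvable.card_sup_mul_card_inf (A := Q) (K := N) (hQP.trans hPN)
  rw [sup_comm, hsup] at hmul
  have hN' := ih _ (CfsgLib.Solvable.card_lt_of_lt hNlt) N rfl (hP.to_le hNlt.le)
    (hPo.of_dvd_nat (card_dvd_of_le hNlt.le)) hNs
  have hinf : Q ⊓ N = piece N v := by
    rw [hQ, piece, piece, inf_comm, ← inf_assoc, inf_eq_left.2 hNlt.le]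
  rw [hinf] at hmul
  have m := fun v => Subgroup.card_le_of_le (piece_mono hNlt.le v)
  refine Nat.le_of_mul_le_mul_right (hmul.le.trans ?_) (Nat.card_pos (α := piece N v))
  calc Nat.card Q * Nat.card N
      ≤ Nat.card Q * (Nat.card (piece N F.t) * Nat.card (piece N F.u) * Nat.card (piece N F.w)) :=
        Nat.mul_le_mul_left _ hN'
    _ ≤ _ := by
      rcases hv with rfl | rfl | rfl
      · calc _ = Nat.card Q * (Nat.card (piece N F.u) * Nat.card (piece N F.w)) *
              Nat.card (piece N F.t) := by ring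
          _ ≤ Nat.card Q * (Nat.card (piece P F.u) * Nat.card (piece P F.w)) *
              Nat.card (piece N F.t) := by gcongr <;> exact m _
          _ = _ := by rw [hQ]; ring
      · calc _ = Nat.card Q * (Nat.card (piece N F.t) * Nat.card (piece N F.w)) *
              Nat.card (piece N F.u) := by ring
          _ ≤ Nat.card Q * (Nat.card (piece P F.t) * Nat.card (piece P F.w)) *
              Nat.card (piece N F.u) := by gcongr <;> exact m _
          _ = _ := by rw [hQ]; ring
      · calc _ = Nat.card Q * (Nat.card (piece N F.t) * Nat.card (piece N F.u)) *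
              Nat.card (piece N F.w) := by ring
          _ ≤ Nat.card Q * (Nat.card (piece P F.t) * Nat.card (piece P F.u)) *
              Nat.card (piece N F.w) := by gcongr <;> exact m _
          _ = _ := by rw [hQ]; ring

/-- Rotation of the transformation: an element of `O_u` centralising a piece. -/
theorem rot_commute (hG : DHyp G) {p : ℕ} [Fact p.Prime] {P : Subgroup G} (hP : IsPGroup p P)
    (hPo : Odd (Nat.card P)) (hs : F.Stab P) {z : G} (hz : OC F.u z)
    (hzN : z ∈ Subgroup.normalizer (P : Set G)) (hzp : (orderOf z).Coprime p)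
    (hzt : ∀ y ∈ piece P F.t, Commute z y) : ∀ y ∈ P, Commute z y := by
  set D := P ⊓ centralizer ({z} : Set G) with hD
  have memD : ∀ {y}, y ∈ D ↔ y ∈ P ∧ Commute y z := by
    intro y; rw [hD, mem_inf, mem_centralizer_singleton_iff]; rfl
  suffices h : P ≤ D from fun y hy => (memD.1 (h hy)).2.symm
  by_contra hnot
  have hDP : D < P := lt_of_le_not_ge inf_le_left hnot
  obtain ⟨N, hlt, hNP, hND⟩ := CfsgLib.Bender.GSide.exists_between hDP hP
  obtain ⟨n, hn, hnD⟩ := SetLike.exists_of_lt hlt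
  set M := P ⊓ Subgroup.normalizer (D : Set G) with hM
  have hnM : n ∈ M := ⟨hNP hn, hND hn⟩
  have hzw : F.w * z * F.w = z⁻¹ := hG.inverts F.hu F.hw F.huw.symm F.ne_uw.symm hz
  have hzu : F.u * z * F.u⁻¹ = z := conj_fix hz.1
  have hDs : F.Stab D := by
    have : ∀ g, g ∈ Subgroup.normalizer (P : Set G) → (g * z * g⁻¹ = z ∨ g * z * g⁻¹ = z⁻¹) →
        g ∈ Subgroup.normalizer (D : Set G) := fun g hg hgz => mem_normalizer_iff.2 fun x => by
      rw [memD, memD, mem_normalizer_iff.1 hg x]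
      refine and_congr_right fun _ => ?_
      rcases hgz with h | h
      · conv_rhs => rw [← h]
        exact (Commute.conj_iff g).symm
      · rw [← Commute.inv_right_iff (a := g * x * g⁻¹) (b := z), ← h]
        exact (Commute.conj_iff g).symm
    refine ⟨this _ hs.1 (Or.inr ?_), this _ hs.2 (Or.inl hzu)⟩
    rw [F.ht.inv_eq]; exact hG.inverts F.hu F.ht F.htu F.ne hz
  have hMs : F.Stab M := hs.inf hDs.normalizer
  have hMo : Odd (Nat.card M) := hPo.of_dvd_nat (card_dvd_of_le inf_le_left)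
  have hDM : ∀ {g x : G}, g ∈ M → x ∈ D → g * x * g⁻¹ ∈ D := fun hg hx => conj_mem hg.2 hx
  have hut : ∀ {s : G}, s = F.t ∨ s = F.u → ∀ m ∈ M, s * m * s * m ∈ D := by
    intro s hs' m hm
    have hsI : Inv s := by rcases hs' with rfl | rfl; exacts [F.ht, F.hu]
    have hsN : s ∈ Subgroup.normalizer (M : Set G) := by
      rcases hs' with rfl | rfl; exacts [hMs.1, hMs.2]
    obtain ⟨c, hc, i, hi, hcs, his, rfl⟩ := CfsgLib.Bender.GSide.split hMo hsI.1 hm
      (by have := conj_mem hsN hm; rwa [hsI.inv_eq] at this)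
    have hcD : c ∈ D := by
      refine memD.2 ⟨hc.1, ?_⟩
      rcases hs' with rfl | rfl
      · exact (hzt c (mem_piece.2 ⟨hc.1, hcs.symm⟩)).symm
      · exact hG.oc_commute F.hu ⟨hcs.symm, odd_orderOf hPo hc.1⟩ hz
    have e : s * (c * i) * s * (c * i) = c * (i⁻¹ * c * i⁻¹⁻¹) := by
      rw [← mul_assoc s c i, hcs.eq, mul_assoc c, mul_assoc c, his, inv_inv]
      group
    rw [e]
    exact mul_mem hcD (hDM (inv_mem hi) hcD)
  have hwm : ∀ m ∈ M, F.w * m * F.w * m⁻¹ ∈ D := by
    intro m hm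
    have hm' : F.u * m * F.u ∈ M := by
      have := conj_mem hMs.2 hm; rwa [F.hu.inv_eq] at this
    have h1 := hut (Or.inl rfl) _ hm'
    have h2 := hut (Or.inr rfl) _ hm
    have h3 : m * (F.u * m * F.u) ∈ D := by
      have := hDM hm h2
      convert this using 1; group
    have e : F.w * m * F.w * m⁻¹ =
        F.t * (F.u * m * F.u) * F.t * (F.u * m * F.u) * (m * (F.u * m * F.u))⁻¹ := by
      have hw' : F.w = F.u * F.t := F.mul.symm.trans F.htu.eq
      nth_rw 2 [hw']
      rw [← F.mul]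
      group
    rw [e]; exact mul_mem h1 (inv_mem h3)
  have hzM : z ∈ Subgroup.normalizer (M : Set G) := by
    have hzD : z ∈ Subgroup.normalizer (D : Set G) := mem_normalizer_iff.2 fun x => by
      rw [memD, memD, mem_normalizer_iff.1 hzN x]
      refine and_congr_right fun _ => ?_
      have h := Commute.conj_iff z (a := x) (b := z)
      rw [mul_inv_cancel_right] at h
      exact h.symm
    refine mem_normalizer_iff.2 fun x => ?_
    rw [hM, mem_inf, mem_inf, mem_normalizer_iff.1 hzN x,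
      mem_normalizer_iff.1 (mem_normalizer_normalizer hzD) x]
  -- conjugation by `z` squared fixes `n` modulo `D`
  set m := z * n * z⁻¹ with hm'
  obtain ⟨d, hd, hdn⟩ : ∃ d ∈ D, F.w * n * F.w = d * n := ⟨_, hwm n hnM, by group⟩
  have h := hwm m (conj_mem hzM hnM)
  have hzd : Commute z d := (memD.1 hd).2.symm
  have e1 : F.w * m * F.w = d * (z⁻¹ * n * z) := by
    have hzi : F.w * z⁻¹ * F.w = z := by
      have := congrArg Inv.inv hzw
      simpa [F.hw.inv_eq, mul_assoc] using this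
    calc F.w * m * F.w = (F.w * z * F.w) * (F.w * n * F.w) * (F.w * z⁻¹ * F.w) := by
          rw [hm']; simp only [mul_assoc, ← mul_assoc F.w F.w, F.hw.1, one_mul]
      _ = z⁻¹ * (d * n) * z := by rw [hzw, hdn, hzi]
      _ = d * (z⁻¹ * n * z) := by rw [← mul_assoc z⁻¹, hzd.inv_left.eq, mul_assoc, mul_assoc, mul_assoc]
  rw [e1] at h
  set e := z⁻¹ * n * z * m⁻¹ with hedef
  have heD : e ∈ D := by
    have := mul_mem (inv_mem hd) h
    convert this using 1
    rw [hedef]; group
  have hze : Commute z e := (memD.1 heD).2.symm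
  have hn2 : n = e * (z * z) * n * (z * z)⁻¹ := by
    calc n = z * (e * m) * z⁻¹ := by rw [hedef]; group
      _ = z * e * m * z⁻¹ := by group
      _ = e * z * m * z⁻¹ := by rw [hze.eq]
      _ = _ := by rw [hm']; group
  have hpow : ∀ k : ℕ, n = e ^ k * (z * z) ^ k * n * ((z * z) ^ k)⁻¹ := by
    intro k
    induction k with
    | zero => simp
    | succ k ih =>
      conv_lhs => rw [ih]
      conv_lhs => arg 1; arg 2; rw [hn2]
      calc e ^ k * (z * z) ^ k * (e * (z * z) * n * (z * z)⁻¹) * ((z * z) ^ k)⁻¹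
          = e ^ k * ((z * z) ^ k * e) * (z * z) * n * ((z * z) ^ k * (z * z))⁻¹ := by group
        _ = e ^ k * (e * (z * z) ^ k) * (z * z) * n * ((z * z) ^ k * (z * z))⁻¹ := by
            rw [((hze.mul_left hze).pow_left k).eq]
        _ = _ := by rw [pow_succ, pow_succ]; group
  have he1 : e = 1 := by
    have h1 := hpow (orderOf z)
    rw [(Commute.refl z).mul_pow, pow_orderOf_eq_one] at h1
    simp only [mul_one, inv_one] at h1
    have h2 : e ^ orderOf z = 1 := mul_eq_right.1 h1.symm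
    obtain ⟨j, hj⟩ := hP ⟨e, (memD.1 heD).1⟩
    have h3 : e ^ p ^ j = 1 := congrArg Subtype.val hj
    have h4 := Nat.dvd_gcd (orderOf_dvd_of_pow_eq_one h2) (orderOf_dvd_of_pow_eq_one h3)
    rw [(hzp.pow_right j)] at h4
    exact orderOf_eq_one_iff.1 (Nat.dvd_one.1 h4)
  rw [he1, one_mul] at hn2
  refine hnD (memD.2 ⟨hNP hn, (commute_of_sq hz.2 ?_).symm⟩)
  show z * z * n = n * (z * z)
  conv_rhs => rw [hn2]
  group

end Four

end CfsgLib.DGroup
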