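import Cfsg.Agent.DGroup.Trans

/-!
# For each prime the invariant `p`-subgroups are pure or linked
-/

set_option autoImplicit false
set_option linter.style.haveILetI false
set_option linter.unusedSectionVars false

namespace CfsgLib.DGroup

open Subgroup
open CfsgLib.NormCyclic (Inv)

universe u

variable {G : Type u} [Group G] [Finite G]

namespace Four

variable (F : Four G)

/-- `g` permutes the four group. -/
def Perms (g : G) : Prop := ∀ s, F.Mem s → F.Mem (g * s * g⁻¹) ∧ F.Mem (g⁻¹ * s * g)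

theorem perms_of_cycle {g : G} (h1 : g * F.t * g⁻¹ = F.u) (h2 : g * F.u * g⁻¹ = F.w)
    (h3 : g * F.w * g⁻¹ = F.t) : F.Perms g := by
  have i1 : g⁻¹ * F.u * g = F.t := by rw [← h1]; group
  have i2 : g⁻¹ * F.w * g = F.u := by rw [← h2]; group
  have i3 : g⁻¹ * F.t * g = F.w := by rw [← h3]; group
  rintro s (rfl | rfl | rfl)
  · rw [h1, i3]; exact ⟨Or.inr (Or.inl rfl), Or.inr (Or.inr rfl)⟩
  · rw [h2, i1]; exact ⟨Or.inr (Or.inr rfl), Or.inl rfl⟩
  · rw [h3, i2]; exact ⟨Or.inl rfl, Or.inr (Or.inl rfl)⟩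

/-- The statement that the prime `p` is pure. -/
def Pure (p : ℕ) : Prop := ∀ P, F.PInv p P → ∃ v, F.Mem v ∧ P ≤ Qp v p

/-- The statement that `T` is the only maximal invariant `p`-subgroup. -/
structure Link (p : ℕ) (T : Subgroup G) : Prop where
  max : F.MaxP p T
  full : ∀ v, F.Mem v → Qp v p ≤ T
  top : ∀ P, F.PInv p P → P ≤ T
  fix : ∀ g, F.Perms g → T.map (MulAut.conj g).toMonoidHom = T

end Four

namespace Ctx

variable (C : Ctx G)
include C

theorem trans (F : Four G) {p : ℕ} [Fact p.Prime] {v : G} (hv : F.Mem v) {T₁ T₂ : Subgroup G}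
    (h₁ : F.MaxP p T₁) (h₂ : F.MaxP p T₂) (hq₁ : Qp v p ≤ T₁) (hq₂ : Qp v p ≤ T₂) : T₁ = T₂ := by
  rcases hv with rfl | rfl | rfl
  · exact C.trans_t F h₁ h₂ hq₁ hq₂
  · exact C.trans_t F.rot (Four.maxP_rot_iff.2 h₁) (Four.maxP_rot_iff.2 h₂) hq₁ hq₂
  · exact C.trans_t F.rot.rot (Four.maxP_rot_iff.2 (Four.maxP_rot_iff.2 h₁))
      (Four.maxP_rot_iff.2 (Four.maxP_rot_iff.2 h₂)) hq₁ hq₂

/-- Every maximal invariant `p`-subgroup contains a full piece. -/
theorem maxP_full (F : Four G) {p : ℕ} [Fact p.Prime] {T : Subgroup G} (hT : F.MaxP p T) :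
    ∃ v, F.Mem v ∧ Qp v p ≤ T := by
  have hG := C.hG
  by_cases h1 : T = ⊥
  · exact ⟨F.t, Or.inl rfl, hT.2 _ (F.pinv_Qp hG (Or.inl rfl) p) (h1 ▸ bot_le)⟩
  set Z := (center T).map T.subtype with hZ
  have hZT : Z ≤ T := map_subtype_le _
  haveI : Nontrivial T := (nontrivial_iff_ne_bot T).2 h1
  haveI := hT.1.isp.center_nontrivial
  have hZ1 : Z ≠ ⊥ := by
    rw [hZ, Ne, map_eq_bot_iff_of_injective _ T.subtype_injective]
    exact (nontrivial_iff_ne_bot _).1 inferInstance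
  have hZs : F.Stab Z := by
    have : ∀ g ∈ normalizer (T : Set G), g ∈ normalizer (Z : Set G) := fun g hg => by
      have key : ∀ a ∈ normalizer (T : Set G), ∀ x ∈ Z, a * x * a⁻¹ ∈ Z := by
        rintro a ha _ ⟨z, hz, rfl⟩
        refine ⟨⟨a * z * a⁻¹, conj_mem ha z.2⟩, mem_center_iff.2 fun y => Subtype.ext ?_, rfl⟩
        have := congrArg Subtype.val (mem_center_iff.1 hz ⟨a⁻¹ * y * a, conj_mem' ha y.2⟩)
        simp only [Subgroup.coe_mul] at this ⊢
        calc (y : G) * (a * z * a⁻¹) = a * (a⁻¹ * y * a * z) * a⁻¹ := by group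
          _ = a * (z * (a⁻¹ * y * a)) * a⁻¹ := by rw [this]
          _ = _ := by group
      exact mem_normalizer_iff.2 fun x => ⟨key g hg x, fun hx => by
        simpa [mul_assoc] using key g⁻¹ (inv_mem hg) _ hx⟩
    exact ⟨this _ hT.1.stab.1, this _ hT.1.stab.2⟩
  obtain ⟨v, hv, hv1⟩ := F.exists_piece hG (hT.1.odd.of_dvd_nat (card_dvd_of_le hZT)) hZs hZ1
  obtain ⟨z, hz, hz1⟩ := (piece Z v).bot_or_exists_ne_one.resolve_left hv1
  obtain ⟨hzZ, hzv⟩ := mem_piece.1 hz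
  have hzo := odd_orderOf hT.1.odd (hZT hzZ)
  set R := coreIn (centralizer ({z} : Set G)) with hR
  obtain ⟨P, hPR, hP, hPs, -, hPmax⟩ := F.exists_syl hG (odd_coreIn _)
    (F.stab_coreIn_cent' hG hv ⟨hzv, hzo⟩) p
  have hTP : T ≤ P := hPmax T (fun y hy => hG.mem_coreIn_cent hzo hz1 (odd_orderOf hT.1.odd hy) (by
    obtain ⟨c, hc, rfl⟩ := hzZ
    exact congrArg Subtype.val (mem_center_iff.1 hc ⟨y, hy⟩))) hT.1.isp hT.1.stab
  have hvI := Four.Mem.inv F hv
  have hQP : Qp v p ≤ P := hPmax _ (fun y hy => by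
    have h := ((hG.mem_Qp hvI).1 hy).1
    exact hG.mem_coreIn_cent hzo hz1 h.2 (hG.oc_commute hvI h ⟨hzv, hzo⟩))
    (hG.isPGroup_Qp hvI p) (F.stab_Qp hG hv p)
  exact ⟨v, hv, hQP.trans (hT.2 P ⟨hP, (odd_coreIn _).of_dvd_nat (card_dvd_of_le hPR), hPs⟩ hTP)⟩

/-- A maximal subgroup over the piece at `t` with a further piece contains the piece at `u` or at
`w` too. -/
theorem second_full (F : Four G) {p : ℕ} [Fact p.Prime] {T : Subgroup G} (hT : F.MaxP p T)
    (hq : Qp F.t p ≤ T) (hnot : ¬ T ≤ Qp F.t p) : Qp F.u p ≤ T ∨ Qp F.w p ≤ T := by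
  have hG := C.hG
  have hTQ : ∀ N : Subgroup G, N ≤ T → (∀ y ∈ N, Commute y F.t) → N ≤ Qp F.t p := fun N hN h y hy =>
    Four.piece_le_Qp hT.1.isp hT.1.odd F.t (mem_piece.2 ⟨hN hy, h y hy⟩)
  -- a minimal normal invariant subgroup outside `C(t)`
  obtain ⟨N, hNT, ⟨hNn, hNs, hNc⟩, hmin⟩ := exists_minimal_le_of_wellFoundedLT
    (fun N : Subgroup G => T ≤ normalizer (N : Set G) ∧ F.Stab N ∧ ¬ ∀ y ∈ N, Commute y F.t) T
    ⟨le_normalizer, hT.1.stab, fun h => hnot (hTQ T le_rfl h)⟩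
  have hNo := hT.1.odd.of_dvd_nat (card_dvd_of_le hNT)
  have hcomm : ∀ c ∈ ⁅N, T⁆, Commute c F.t := by
    by_contra hc
    have hle : ⁅N, T⁆ ≤ N := le_normalizer_iff_commutator_le_left.1 hNn
    have hNn' : ∀ g, g ∈ normalizer (N : Set G) → g ∈ normalizer (T : Set G) →
        g ∈ normalizer ((⁅N, T⁆ : Subgroup G) : Set G) := fun g h1 h2 => by
      rw [CfsgLib.Bender.GSide.mem_norm_iff] at h1 h2 ⊢
      show (⁅N, T⁆ : Subgroup G).map (MulAut.conj g).toMonoidHom = ⁅N, T⁆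
      rw [map_commutator]
      exact congrArg₂ _ h1 h2
    have heq := le_antisymm hle (hmin (y := ⁅N, T⁆)
      ⟨fun g hg => hNn' g (hNn hg) (le_normalizer hg), ⟨hNn' _ hNs.1 hT.1.stab.1,
        hNn' _ hNs.2 hT.1.stab.2⟩, hc⟩ hle)
    -- a nilpotent group has no such subgroup
    refine hNc fun y hy => ?_
    obtain ⟨m, hm⟩ := (Subgroup.isNilpotent_iff_lowerCentralSeries _).1 hT.1.isp.isNilpotent
    have : ∀ i, N ≤ T.lowerCentralSeries i := by
      intro i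
      induction i with
      | zero => exact hNT
      | succ i hi => exact heq.ge.trans (commutator_mono hi le_rfl)
    have hy1 := hm ▸ this m hy
    rw [mem_bot] at hy1
    rw [hy1]; exact Commute.one_left _
  obtain ⟨v, hv, y, hy, hyv, hy1⟩ : ∃ v, (v = F.u ∨ v = F.w) ∧ ∃ y ∈ N, Commute y v ∧ y ≠ 1 := by
    by_contra hcon
    push Not at hcon
    refine hNc fun y hy => ?_
    have hb : ∀ v, (v = F.u ∨ v = F.w) → piece N v ≤ centralizer ({F.t} : Set G) := fun v hv z hz => by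
      rw [hcon v hv z (mem_piece.1 hz).1 (mem_piece.1 hz).2]; exact one_mem _
    exact mem_centralizer_singleton_iff.1 (F.le_of_pieces hG hNo hNs inf_le_right
      (hb _ (Or.inl rfl)) (hb _ (Or.inr rfl)) hy)
  have hvM : F.Mem v := hv.elim (fun h => Or.inr (Or.inl h)) fun h => Or.inr (Or.inr h)
  have hvI := Four.Mem.inv F hvM
  have hvt : Commute F.t v ∧ F.t ≠ v := by
    rcases hv with rfl | rfl; exacts [⟨F.htu, F.ne⟩, ⟨F.htw, F.ne_tw⟩]
  have hyo := odd_orderOf hNo hy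
  -- `y` centralises the piece at `t`
  have hya : ∀ a ∈ Qp F.t p, Commute a y := fun a ha => by
    obtain ⟨⟨hat, -⟩, -⟩ := (hG.mem_Qp F.ht).1 ha
    have hcm : a * y * a⁻¹ * y⁻¹ ∈ ⁅N, T⁆ := by
      rw [commutator_comm]; exact commutator_mem_commutator (hq ha) hy
    refine commute_of_comm F.ht.1 hat hyo (hG.inverts hvI F.ht hvt.1 hvt.2 ⟨hyv, hyo⟩)
      (hcomm _ hcm) (odd_orderOf hNo (le_normalizer_iff_commutator_le_left.1 hNn hcm))
  set R := coreIn (centralizer ({y} : Set G)) with hR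
  obtain ⟨P, hPR, hP, hPs, -, hPmax⟩ := F.exists_syl hG (odd_coreIn _)
    (F.stab_coreIn_cent' hG hvM ⟨hyv, hyo⟩) p
  have h1 : Qp F.t p ≤ P := hPmax _ (fun a ha => hG.mem_coreIn_cent hyo hy1
    ((hG.mem_Qp F.ht).1 ha).1.2 (hya a ha)) (hG.isPGroup_Qp F.ht p) (F.stab_Qp hG (Or.inl rfl) p)
  have h2 : Qp v p ≤ P := hPmax _ (fun a ha => hG.mem_coreIn_cent hyo hy1
    ((hG.mem_Qp hvI).1 ha).1.2 (hG.oc_commute hvI ((hG.mem_Qp hvI).1 ha).1 ⟨hyv, hyo⟩))
    (hG.isPGroup_Qp hvI p) (F.stab_Qp hG hvM p)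
  obtain ⟨T', hPT, hT'⟩ := F.exists_maxP ⟨hP, (odd_coreIn _).of_dvd_nat (card_dvd_of_le hPR), hPs⟩
  obtain rfl := C.trans_t F hT' hT (h1.trans hPT) hq
  rcases hv with rfl | rfl
  exacts [Or.inl (h2.trans hPT), Or.inr (h2.trans hPT)]

/-- Each prime is pure or linked. -/
theorem pure_or_linked (F : Four G) (p : ℕ) [Fact p.Prime] :
    F.Pure p ∨ ∃ T, F.Link p T := by
  have hG := C.hG
  obtain ⟨g, g1, g2, g3⟩ := C.cycle F
  have hg := F.perms_of_cycle g1 g2 g3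
  have hgi : F.Perms g⁻¹ := fun s hs => by
    have := hg s hs; rw [inv_inv]; exact ⟨this.2, this.1⟩
  obtain ⟨T, hQT, hT⟩ := F.exists_maxP (F.pinv_Qp hG (Or.inl rfl) p)
  set T' := T.map (MulAut.conj g).toMonoidHom with hT'
  set T'' := T'.map (MulAut.conj g).toMonoidHom with hT''
  have hT'max := Four.MaxP.map F hT hg
  have hT''max := Four.MaxP.map F hT'max hg
  have hQT' : Qp F.u p ≤ T' := by
    rw [← g1, ← hG.conj_Qp F.ht]; exact map_mono hQT
  have hQT'' : Qp F.w p ≤ T'' := by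
    rw [← g2, ← hG.conj_Qp F.hu]; exact map_mono hQT'
  by_cases hpure : T ≤ Qp F.t p
  · left
    intro P hP
    obtain ⟨U, hPU, hU⟩ := F.exists_maxP hP
    obtain ⟨v, hv, hvU⟩ := C.maxP_full F hU
    refine ⟨v, hv, hPU.trans ?_⟩
    have h' : T' ≤ Qp F.u p := by
      rw [← g1, ← hG.conj_Qp F.ht]; exact map_mono hpure
    have h'' : T'' ≤ Qp F.w p := by
      rw [← g2, ← hG.conj_Qp F.hu]; exact map_mono h'
    rcases hv with rfl | rfl | rfl
    · rw [C.trans F (Or.inl rfl) hU hT hvU hQT]; exact hpure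
    · rw [C.trans F (Or.inr (Or.inl rfl)) hU hT'max hvU hQT']; exact h'
    · rw [C.trans F (Or.inr (Or.inr rfl)) hU hT''max hvU hQT'']; exact h''
  · right
    have hfull : Qp F.u p ≤ T ∧ Qp F.w p ≤ T := by
      rcases C.second_full F hT hQT hpure with h | h
      · have e : T' = T := C.trans F (Or.inr (Or.inl rfl)) hT'max hT hQT' h
        refine ⟨h, ?_⟩
        have e' : T'' = T := by rw [hT'', e, ← hT', e]
        exact e' ▸ hQT''
      · have e'' : T'' = T := C.trans F (Or.inr (Or.inr rfl)) hT''max hT hQT'' h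
        refine ⟨?_, h⟩
        have h3 : Qp F.t p ≤ T''.map (MulAut.conj g).toMonoidHom := by
          rw [← g3, ← hG.conj_Qp F.hw]; exact map_mono hQT''
        have e3 : T''.map (MulAut.conj g).toMonoidHom = T :=
          C.trans F (Or.inl rfl) (Four.MaxP.map F hT''max hg) hT h3 hQT
        have e' : T' = T := by rwa [e''] at e3
        exact e' ▸ hQT'
    have hall : ∀ U, F.MaxP p U → U = T := fun U hU => by
      obtain ⟨v, hv, hvU⟩ := C.maxP_full F hU
      rcases hv with rfl | rfl | rfl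
      exacts [C.trans F (Or.inl rfl) hU hT hvU hQT, C.trans F (Or.inr (Or.inl rfl)) hU hT hvU hfull.1,
        C.trans F (Or.inr (Or.inr rfl)) hU hT hvU hfull.2]
    refine ⟨T, hT, ?_, fun P hP => ?_, fun a ha => hall _ (Four.MaxP.map F hT ha)⟩
    · rintro v (rfl | rfl | rfl)
      exacts [hQT, hfull.1, hfull.2]
    · obtain ⟨U, hPU, hU⟩ := F.exists_maxP hP
      exact hall U hU ▸ hPU

end Ctx

end CfsgLib.DGroup
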