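import Cfsg.Agent.DGroup.Member
import Cfsg.Agent.DGroup.FourCent

/-!
# The structure of a member: odd core times a 2-group
-/

set_option autoImplicit false
set_option linter.style.haveILetI false
set_option linter.unusedSectionVars false

namespace CfsgLib.DGroup

open Subgroup
open CfsgLib.NormCyclic (Inv)

universe u

variable {G : Type u} [Group G] [Finite G]

/-- Under TI a Sylow subgroup meeting the centraliser of an involution is inside it. -/
theorem DHyp.sylow_commute (hG : DHyp G) (hTI : TI G) {p : ℕ} [Fact p.Prime] (hp : p ≠ 2) {t x : G}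
    (ht : Inv t) (hx1 : x ≠ 1) (hxt : Commute x t) (P : Sylow p G) (hxP : x ∈ (P : Subgroup G)) :
    ∀ y ∈ (P : Subgroup G), Commute y t := by
  have hodd : ∀ y ∈ (P : Subgroup G), Odd (orderOf y) := fun y hy => by
    obtain ⟨k, hk⟩ := IsPGroup.iff_orderOf.1 P.2 ⟨y, hy⟩
    rw [Subgroup.orderOf_mk] at hk
    rw [hk]
    exact ((Fact.out : p.Prime).odd_of_ne_two hp).pow
  haveI : Nontrivial (P : Subgroup G) := ⟨⟨⟨x, hxP⟩, 1, fun h => hx1 (congrArg Subtype.val h)⟩⟩
  haveI := P.2.center_nontrivial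
  obtain ⟨⟨⟨c, hcP⟩, hc⟩, hc1⟩ := exists_ne (1 : center (P : Subgroup G))
  have hc1' : c ≠ 1 := fun h => hc1 (Subtype.ext (Subtype.ext h))
  have hcomm : ∀ y ∈ (P : Subgroup G), Commute y c := fun y hy =>
    congrArg Subtype.val (mem_center_iff.1 hc ⟨y, hy⟩)
  have hct : Commute c t := hTI t x c ht hx1 (hodd x hxP) (hodd c hcP) hxt (hcomm x hxP).symm
  exact fun y hy => hTI t c y ht hc1' (hodd c hcP) (hodd y hy) hct (hcomm y hy)

namespace Ctx

variable (C : Ctx G)
include C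

theorem exists_four {v : G} (hv : Inv v) : ∃ F : Four G, F.t = v := by
  obtain ⟨g, hg, hne⟩ := exists_fused_commute C.oddCore_eq hv (fun h => C.not_solvable (by
    obtain ⟨A, hA⟩ := C.hG v hv
    haveI := hA.cent_solvable
    have : centralizer ({v} : Set G) = ⊤ :=
      eq_top_iff.2 fun g _ => mem_centralizer_singleton_iff.2 (h g).eq
    exact Group.isSolvable_of_surjective (f := (centralizer ({v} : Set G)).subtype) (fun g =>
      ⟨⟨g, this ▸ mem_top g⟩, rfl⟩)))
  exact ⟨⟨v, g * v * g⁻¹, v * (g * v * g⁻¹), hv, hv.conj g, hv.mul (hv.conj g) hg hne.symm, hg,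
    hne.symm, rfl⟩, rfl⟩

/-- With all pieces of one four group full in the core, so are those of every other. -/
theorem full_count (F F' : Four G) {L : Subgroup G} (ht : F.t ∈ L) (hu : F.u ∈ L) (ht' : F'.t ∈ L)
    (hu' : F'.u ∈ L) {p : ℕ} [Fact p.Prime] (hfull : ∀ v, F'.Mem v → Qp v p ≤ coreIn L) :
    Qp F.u p ≤ coreIn L := by
  have hG := C.hG
  obtain ⟨P', hP'R, hP', hP's, hP'c, hP'max⟩ := F'.exists_syl hG (odd_coreIn L)
    ⟨normalizer_coreIn L ht', normalizer_coreIn L hu'⟩ p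
  obtain ⟨P, hPR, hP, hPs, hPc, -⟩ := F.exists_syl hG (odd_coreIn L)
    ⟨normalizer_coreIn L ht, normalizer_coreIn L hu⟩ p
  have hP'o := (odd_coreIn L).of_dvd_nat (card_dvd_of_le hP'R)
  have hPo := (odd_coreIn L).of_dvd_nat (card_dvd_of_le hPR)
  set n := Nat.card (Qp F.t p) with hn
  have hge : ∀ v, F'.Mem v → n ≤ Nat.card (piece P' v) := by
    intro v hv
    have hvI := Four.Mem.inv F' hv
    rw [hn, ← hG.card_Qp_eq F.ht (C.one _ _ F.ht hvI) p]
    exact Subgroup.card_le_of_le fun z hz => mem_piece.2 ⟨hP'max _ (hfull v hv)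
      (hG.isPGroup_Qp hvI p) (F'.stab_Qp hG hv p) hz, ((hG.mem_Qp hvI).1 hz).1.1⟩
  have hle : ∀ v : G, Inv v → Nat.card (piece P v) ≤ n := fun v hv => by
    rw [hn, ← hG.card_Qp_eq F.ht (C.one _ _ F.ht hv) p]
    exact Subgroup.card_le_of_le (Four.piece_le_Qp hP hPo v)
  have h1 := (F'.card_ge hG hP'o)
  rw [hP'c, ← hPc] at h1
  have h2 := F.card_le hP hPo hPs
  have hn0 : 0 < n := Nat.card_pos
  have h3 : n * n * n ≤ Nat.card (piece P' F'.t) * Nat.card (piece P' F'.u) *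
      Nat.card (piece P' F'.w) :=
    Nat.mul_le_mul (Nat.mul_le_mul (hge _ (Or.inl rfl)) (hge _ (Or.inr (Or.inl rfl))))
      (hge _ (Or.inr (Or.inr rfl)))
  have h4 : Nat.card (piece P F.t) * Nat.card (piece P F.u) * Nat.card (piece P F.w) ≤
      n * Nat.card (piece P F.u) * n :=
    Nat.mul_le_mul (Nat.mul_le_mul_right _ (hle _ F.ht)) (hle _ F.hw)
  have h5 : n ≤ Nat.card (piece P F.u) := by
    have := (h3.trans h1).trans (h2.trans h4)
    exact Nat.le_of_mul_le_mul_left (Nat.le_of_mul_le_mul_right this hn0) hn0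
  have heq := CfsgLib.Solvable.eq_of_le_of_card_le (Four.piece_le_Qp hP hPo F.u)
    (by rw [hG.card_Qp_eq F.ht (C.one _ _ F.ht F.hu) p]; exact h5)
  intro x hx
  exact hPR (mem_piece.1 (heq.symm ▸ hx : x ∈ piece P F.u)).1

/-- If the core of a member holds all odd centraliser parts of a four group, the 3-cycle is in the
member. -/
theorem cycle_mem {M : Subgroup G} {t : G} (hM : IsMember M t) (F : Four G) (ht : F.t ∈ M)
    (hu : F.u ∈ M) (hall : ∀ v, F.Mem v → ∀ y, OC v y → y ∈ coreIn M) :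
    ∃ g ∈ M, g * F.t * g⁻¹ = F.u := by
  obtain ⟨g, g1, g2, g3⟩ := C.cycle F
  have hg := F.perms_of_cycle g1 g2 g3
  have hRs : F.Stab (coreIn M) := ⟨normalizer_coreIn M ht, normalizer_coreIn M hu⟩
  have key : ∀ a : G, (∀ s, F.Mem s → F.Mem (a⁻¹ * s * a)) →
      (coreIn M).map (MulAut.conj a).toMonoidHom ≤ coreIn M := by
    intro a ha
    set K := (coreIn M).map (MulAut.conj a).toMonoidHom with hK
    have hKo : Odd (Nat.card K) := by
      rw [hK, card_map_of_injective (f := (MulAut.conj a).toMonoidHom) (MulAut.conj a).injective]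
      exact odd_coreIn M
    have : ∀ s, F.Mem s → s ∈ normalizer (K : Set G) := fun s hs =>
      le_normalizer_map (MulAut.conj a).toMonoidHom ⟨a⁻¹ * s * a, Four.Mem.mem_normalizer F (ha s hs) hRs, by
        show a * (a⁻¹ * s * a) * a⁻¹ = s
        group⟩
    have hp : ∀ v, F.Mem v → piece K v ≤ coreIn M := fun v hv y hy =>
      hall v hv y ⟨(mem_piece.1 hy).2, odd_orderOf hKo (mem_piece.1 hy).1⟩
    exact F.le_of_pieces C.hG hKo ⟨this _ (Or.inl rfl), this _ (Or.inr (Or.inl rfl))⟩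
      (hp _ (Or.inl rfl)) (hp _ (Or.inr (Or.inl rfl))) (hp _ (Or.inr (Or.inr rfl)))
  refine ⟨g, ?_, g1⟩
  have hR1 : coreIn M ≠ ⊥ := fun h => hM.big fun y hy => by
    rw [h, mem_bot] at hy; rw [hy]; exact Commute.one_left t
  rw [← C.normalizer_eq hM le_rfl hR1 (normalizer_coreIn M)]
  exact mem_normalizer_iff.2 fun z => ⟨fun hz => key g (fun s hs => (hg s hs).2) ⟨z, hz, rfl⟩, fun hz => by
    have := key g⁻¹ (fun s hs => by rw [inv_inv]; exact (hg s hs).1) ⟨_, hz, rfl⟩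
    simpa [mul_assoc] using this⟩

/-- If `t` is central modulo the core, all elements of odd order lie in it. -/
theorem core_of_central {M : Subgroup G} {t : G} (hM : IsMember M t)
    (hc : ∀ m ∈ M, m * t * m⁻¹ * t⁻¹ ∈ coreIn M) : ∀ m ∈ M, Odd (orderOf m) → m ∈ coreIn M := by
  have hG := C.hG
  haveI := normal_oddCore M
  have htM : t ∈ M := hM.cent (mem_centralizer_singleton_iff.2 rfl)
  set t' : M := ⟨t, htM⟩
  have ht' : Inv t' := ⟨Subtype.ext hM.inv.1, fun h => hM.inv.2 (congrArg Subtype.val h)⟩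
  -- every element is a core element times a centralising one
  have hsplit : ∀ m ∈ M, ∃ c : G, Commute c t ∧ c ∈ M ∧ m * c⁻¹ ∈ coreIn M := by
    intro m hm
    obtain ⟨z, hz, hzz⟩ := hc m hm
    obtain ⟨c, hc', hcm⟩ := cent_lift (odd_oddCore M) (g := (⟨m, hm⟩ : M)) ht' (by
      show _ = _
      rw [← QuotientGroup.mk_mul, ← QuotientGroup.mk_mul, QuotientGroup.eq]
      have hzm : ((⟨m, hm⟩ : M) * t') = z * (t' * ⟨m, hm⟩) := Subtype.ext (by
        show m * t = (z : G) * (t * m)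
        rw [show (z : G) = _ from hzz]
        group)
      rw [hzm, mul_inv_rev, mul_assoc]
      simpa [mul_assoc] using (normal_oddCore M).conj_mem' _ (inv_mem hz) (t' * ⟨m, hm⟩))
    refine ⟨c, congrArg Subtype.val hc', c.2, ⟨⟨m, hm⟩ * c⁻¹, ?_, rfl⟩⟩
    show (⟨m, hm⟩ : M) * c⁻¹ ∈ Cfsg.oddCore M
    rw [← QuotientGroup.eq_one_iff, QuotientGroup.mk_mul, QuotientGroup.mk_inv, hcm, mul_inv_cancel]
  obtain ⟨A, hA⟩ := hG t hM.inv
  obtain ⟨O, hO, hOm⟩ := hG.exists_oddPart hM.inv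
  have hOM : O ≤ M := fun y hy => hM.cent (mem_centralizer_singleton_iff.2 ((hOm y).1 hy).1.eq)
  have hOR : O ≤ coreIn M := by
    refine le_sup_right.trans (le_coreIn (sup_le (coreIn_le M) hOM) (fun m hm => ?_) ?_)
    · have key : ∀ m ∈ M, ∀ y ∈ coreIn M ⊔ O, m * y * m⁻¹ ∈ coreIn M ⊔ O := by
        intro m hm y hy
        have hle : (coreIn M ⊔ O).map (MulAut.conj m).toMonoidHom ≤ coreIn M ⊔ O := by
          rw [Subgroup.map_sup, sup_le_iff]
          refine ⟨?_, ?_⟩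
          · rintro _ ⟨z, hz, rfl⟩; exact mem_sup_left (conj_mem (normalizer_coreIn M hm) hz)
          · rintro _ ⟨o, ho, rfl⟩
            obtain ⟨c, hc1, hc2, hc3⟩ := hsplit m hm
            show m * o * m⁻¹ ∈ _
            have ho' : c * o * c⁻¹ ∈ O := by
              obtain ⟨h1, h2⟩ := (hOm o).1 ho
              exact (hOm _).2 ⟨(hc1.mul_left h1).mul_left hc1.inv_left, by
                rwa [CfsgLib.Invol.orderOf_conj_eq]⟩
            have e : m * o * m⁻¹ = (m * c⁻¹) * (c * o * c⁻¹) * (m * c⁻¹)⁻¹ := by group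
            rw [e]
            exact mul_mem (mul_mem (mem_sup_left hc3) (mem_sup_right ho')) (inv_mem (mem_sup_left hc3))
        exact hle ⟨y, hy, rfl⟩
      exact mem_normalizer_iff.2 fun z => ⟨key m hm z, fun h => by
        simpa [mul_assoc] using key m⁻¹ (inv_mem hm) _ h⟩
    · rw [sup_comm]
      exact (hO.mul (odd_coreIn M)).of_dvd_nat
        (CfsgLib.Solvable.card_sup_dvd (hOM.trans (normalizer_coreIn M)))
  intro m hm hmo
  obtain ⟨c, hc1, hc2, hc3⟩ := hsplit m hm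
  obtain ⟨k, n, hn, he⟩ := Nat.exists_eq_two_pow_mul_odd (orderOf_pos c).ne'
  have hcR : c ^ 2 ^ k ∈ coreIn M := hOR ((hOm _).2 ⟨hc1.pow_left _, by
    rw [orderOf_pow, he, Nat.gcd_eq_right (dvd_mul_right _ _),
      Nat.mul_div_cancel_left _ (by positivity)]
    exact hn⟩)
  have hmk : (⟨m, hm⟩ : M) ^ 2 ^ k ∈ Cfsg.oddCore M := by
    obtain ⟨a, ha, hae⟩ := hc3
    obtain ⟨b, hb, hbe⟩ := hcR
    have hm' : (⟨m, hm⟩ : M) = a * ⟨c, hc2⟩ := Subtype.ext (by
      show m = (a : G) * c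
      rw [show (a : G) = _ from hae, inv_mul_cancel_right])
    rw [← QuotientGroup.eq_one_iff, QuotientGroup.mk_pow, hm', QuotientGroup.mk_mul,
      (QuotientGroup.eq_one_iff a).2 ha, one_mul, ← QuotientGroup.mk_pow,
      show (⟨c, hc2⟩ : M) ^ 2 ^ k = b from Subtype.ext hbe.symm, (QuotientGroup.eq_one_iff b).2 hb]
  obtain ⟨i, hi⟩ := exists_pow_eq_self_of_coprime (x := (⟨m, hm⟩ : M)) (n := 2 ^ k)
    (by rw [Subgroup.orderOf_mk]; exact (Nat.coprime_two_left.2 hmo).pow_left k)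
  exact ⟨⟨m, hm⟩, hi ▸ pow_mem hmk i, rfl⟩

/-- A member is its core times a 2-group. -/
theorem member_core {M : Subgroup G} {t : G} (hM : IsMember M t) :
    (∀ m ∈ M, Odd (orderOf m) → m ∈ coreIn M) ∧ ∀ m ∈ M, m * t * m⁻¹ * t⁻¹ ∈ coreIn M := by
  have hG := C.hG
  suffices h : ∀ m ∈ M, m * t * m⁻¹ * t⁻¹ ∈ coreIn M from ⟨C.core_of_central hM h, h⟩
  by_contra hnc
  haveI := normal_oddCore M
  have hN := odd_oddCore M
  have htM : t ∈ M := hM.cent (mem_centralizer_singleton_iff.2 rfl)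
  set t' : M := ⟨t, htM⟩ with ht'd
  have ht' : Inv t' := ⟨Subtype.ext hM.inv.1, fun h => hM.inv.2 (congrArg Subtype.val h)⟩
  obtain ⟨r, hr, hrf, hrc, hrne⟩ := exists_fused_lift ht'
    (fun h => hnc fun m hm => ⟨_, h ⟨m, hm⟩, rfl⟩)
  obtain ⟨A, hA⟩ := hG.subgroup M t' ht'
  have lift : ∀ {v : G}, v ∈ M → Inv v → ∀ h : v ∈ M, Inv (⟨v, h⟩ : M) := fun _ hv h =>
    ⟨Subtype.ext hv.1, fun e => hv.2 (congrArg Subtype.val e)⟩
  -- some involution commuting with `t` is not fused to it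
  obtain ⟨u, hu, hut, huf⟩ : ∃ u : M, Inv u ∧ Commute u t' ∧ ¬ Fused t' u := by
    by_contra h
    refine C.not_all_fused hM fun v hv hvI => ?_
    by_contra hnf
    refine h (exists_not_fused ht' (lift hv hvI hv) fun ⟨m, hm⟩ => hnf ⟨m, m.2, congrArg Subtype.val hm⟩)
  have hune : u ≠ t' := fun e => huf (e ▸ Fused.refl _)
  by_cases hroot : HasRoot t'
  swap
  · -- without roots everything would be fused
    have hnoG : ∀ v : M, Inv v → ¬ HasRoot v := fun v hv h => hroot (by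
      obtain ⟨f, hf⟩ := h
      obtain ⟨g, hg⟩ := C.one (v : G) t ⟨congrArg Subtype.val hv.1, fun e => hv.2 (Subtype.ext e)⟩ hM.inv
      have he : g * f * g⁻¹ * (g * f * g⁻¹) = t := by rw [conj_mul, ← hg, ← hf, Subgroup.coe_mul]
      have : g * (f : G) * g⁻¹ ∈ M := hM.cent (mem_centralizer_singleton_iff.2 (by
        rw [← he]; simp [mul_assoc]))
      exact ⟨⟨_, this⟩, Subtype.ext he⟩)
    let F1 : Four M := ⟨t', r, t' * r, ht', hr, ht'.mul hr hrc.symm hrne.symm, hrc.symm, hrne.symm, rfl⟩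
    obtain ⟨Cb, hCb⟩ := hG.subgroup M F1.w F1.hw
    obtain ⟨g, g1, g2, -⟩ := F1.cycle_of_fused_no_root hA hCb hroot (hnoG _ F1.hw) hrf
    obtain ⟨c, -, hc⟩ := hA.conj_of_no_root ht' hroot hu hut hune hr hrc hrne
    rcases hc with h | h
    · exact huf (hrf.trans (Fused.symm ⟨c, h⟩))
    · exact huf (hrf.trans (Fused.trans (b := t' * r) ⟨g, g2⟩ (Fused.symm ⟨c, h⟩)))
  obtain ⟨e, he⟩ := hroot
  have htr : Fused t' (t' * r) := hrf.trans ⟨e, hA.root_conj ht' he hr hrc hrne⟩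
  have htu : Fused u (t' * u) := ⟨e, hA.root_conj ht' he hu hut hune⟩
  have inG : ∀ {v : M}, Inv v → Inv (v : G) := fun hv =>
    ⟨congrArg Subtype.val hv.1, fun h => hv.2 (Subtype.ext h)⟩
  have cG : ∀ {a b : M}, Commute a b → Commute (a : G) b := fun h => congrArg Subtype.val h.eq
  have neG : ∀ {a b : M}, a ≠ b → (a : G) ≠ b := fun h e => h (Subtype.ext e)
  let V1 : Four G := ⟨t, r, t * r, hM.inv, inG hr, hM.inv.mul (inG hr) (cG hrc).symm (neG hrne.symm),
    (cG hrc).symm, neG hrne.symm, rfl⟩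
  let V2 : Four G := ⟨t, u, t * u, hM.inv, inG hu, hM.inv.mul (inG hu) (cG hut).symm (neG hune.symm),
    (cG hut).symm, neG hune.symm, rfl⟩
  -- a full piece at `t` makes every piece full
  have hprop : ∀ (p : ℕ) [Fact p.Prime], Qp t p ≤ coreIn M →
      ∀ v, V2.Mem v → Qp v p ≤ coreIn M := by
    intro p _ hq
    have hq1 : ∀ v, V1.Mem v → Qp v p ≤ coreIn M := by
      intro v hv
      obtain ⟨m, hm⟩ : ∃ m : M, (m : G) * t * (m : G)⁻¹ = v := by
        rcases hv with h | h | h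
        · exact ⟨1, show (1 : G) * t * 1⁻¹ = v by rw [h]; simp [V1]⟩
        · obtain ⟨m, hm⟩ := hrf; exact ⟨m, (congrArg Subtype.val hm).trans h.symm⟩
        · obtain ⟨m, hm⟩ := htr; exact ⟨m, (congrArg Subtype.val hm).trans h.symm⟩
      rw [← hm, ← hG.conj_Qp hM.inv p]
      rintro _ ⟨z, hz, rfl⟩
      exact conj_mem (normalizer_coreIn M m.2) (hq hz)
    rintro v (rfl | rfl | rfl)
    · exact hq
    · exact C.full_count V2 V1 htM u.2 htM r.2 hq1
    · exact C.full_count V2.rot V1 u.2 (mul_mem htM u.2) htM r.2 hq1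
  set π := QuotientGroup.mk' (Cfsg.oddCore M) with hπ
  have hX : DHyp (M ⧸ Cfsg.oddCore M) := (hG.subgroup M).quotient hN
  have hTI := C.ti_quot hM.ne_top
  -- odd elements centralising `u` lie in the core
  have hu_core : ∀ y : G, y ∈ M → OC (u : G) y → y ∈ coreIn M := by
    obtain ⟨O, hO, hOm⟩ := hG.exists_oddPart (inG hu)
    suffices h : M ⊓ O ≤ coreIn M from fun y hy hoc => h ⟨hy, (hOm y).2 hoc⟩
    refine le_of_primes fun p hp z hz hzk => ?_
    haveI : Fact p.Prime := ⟨hp⟩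
    obtain ⟨hzM, hzO⟩ := hz
    have hzQ : z ∈ Qp (u : G) p := (hG.mem_Qp (inG hu)).2 ⟨(hOm z).1 hzO, hzk⟩
    by_contra hzR
    by_cases hq : Qp t p ≤ coreIn M
    · exact hzR (hprop p hq _ (Or.inr (Or.inl rfl)) hzQ)
    obtain ⟨x, hx, hxR⟩ := SetLike.not_le_iff_exists.1 hq
    obtain ⟨⟨hxt, hxo⟩, k, hk⟩ := (hG.mem_Qp hM.inv).1 hx
    have hxM : x ∈ M := hM.cent (mem_centralizer_singleton_iff.2 hxt.eq)
    have hne1 : ∀ {a : G} (ha : a ∈ M), a ∉ coreIn M → π ⟨a, ha⟩ ≠ 1 := fun ha h e =>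
      h ⟨_, (QuotientGroup.eq_one_iff _).1 e, rfl⟩
    have hp2 : p ≠ 2 := by
      rintro rfl
      obtain ⟨i, -, hi⟩ := (Nat.dvd_prime_pow Nat.prime_two).1 (orderOf_dvd_of_pow_eq_one hk)
      rcases i with _ | i
      · exact hxR ((orderOf_eq_one_iff.1 (hi.trans (pow_zero 2))).symm ▸ one_mem _)
      · rw [hi] at hxo
        exact absurd hxo (by simp [Nat.even_pow, ← Nat.not_even_iff_odd])
    have hpg : ∀ {a : M} (j : ℕ), (a : G) ^ p ^ j = 1 → IsPGroup p (zpowers (π a)) := fun {a} j hj => by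
      have hd : orderOf (π a) ∣ p ^ j := orderOf_dvd_of_pow_eq_one (by
        rw [← map_pow, show a ^ p ^ j = 1 from Subtype.ext hj, map_one])
      obtain ⟨i, -, hi⟩ := (Nat.dvd_prime_pow hp).1 hd
      exact IsPGroup.of_card (n := i) (by rw [Nat.card_zpowers, hi])
    obtain ⟨j, hj⟩ := hzk
    obtain ⟨P, hP⟩ := (hpg (a := (⟨x, hxM⟩ : M)) k hk).exists_le_sylow
    obtain ⟨Q, hQ⟩ := (hpg (a := (⟨z, hzM⟩ : M)) j hj).exists_le_sylow
    obtain ⟨h, hh⟩ := MulAction.exists_smul_eq (M ⧸ Cfsg.oddCore M) P Q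
    have ht1 := mk_inv hN ht'
    have hu1 := mk_inv hN hu
    have hxt' : Commute (π ⟨x, hxM⟩) (π t') :=
      (show Commute (⟨x, hxM⟩ : M) t' from Subtype.ext hxt.eq).map π
    have hzu' : Commute (π ⟨z, hzM⟩) (π u) :=
      (show Commute (⟨z, hzM⟩ : M) u from Subtype.ext ((hOm z).1 hzO).1.eq).map π
    have key1 := hX.sylow_commute hTI hp2 ht1 (hne1 hxM hxR) hxt' P (hP (mem_zpowers _))
    have key2 := hX.sylow_commute hTI hp2 hu1 (hne1 hzM hzR) hzu' Q (hQ (mem_zpowers _))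
    set a := h * π ⟨x, hxM⟩ * h⁻¹ with ha
    have haQ : a ∈ (Q : Subgroup _) := by rw [← hh]; exact ⟨_, hP (mem_zpowers _), rfl⟩
    have hao : Odd (orderOf a) := by
      rw [ha, CfsgLib.Invol.orderOf_conj_eq]
      exact hxo.of_dvd_nat ((orderOf_map_dvd π _).trans (by rw [Subgroup.orderOf_mk]))
    have heq := hX.inv_unique hTI hu1 (ht1.conj h) hao
      (fun e => hne1 hxM hxR (conj_eq_one_iff.1 e)) (key2 a haQ)
      ((Commute.conj_iff h).2 hxt')
    obtain ⟨m, rfl⟩ := QuotientGroup.mk_surjective h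
    obtain ⟨l, -, hl⟩ := conj_of_eq hN (ht'.conj m) hu (by
      rw [QuotientGroup.mk_mul, QuotientGroup.mk_mul, QuotientGroup.mk_inv]; exact heq)
    exact huf (Fused.trans ⟨m, rfl⟩ ⟨l, hl⟩)
  -- the centraliser of `u` in the quotient has exponent two
  obtain ⟨B, hB⟩ := hG.subgroup M u hu
  have hexp : ∀ c : M ⧸ Cfsg.oddCore M, Commute c (π u) → c * c = 1 := by
    intro q hq
    obtain ⟨g, rfl⟩ := QuotientGroup.mk_surjective q
    obtain ⟨c, hc, hcg⟩ := cent_lift hN hu hq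
    rw [← hcg, ← QuotientGroup.mk_mul, QuotientGroup.eq_one_iff]
    by_cases hcB : c ∈ B
    · by_cases h4 : 4 ∣ orderOf c
      · exfalso
        obtain ⟨i, hi⟩ := h4
        have hi0 : i ≠ 0 := by rintro rfl; rw [mul_zero] at hi; exact (orderOf_pos c).ne' hi
        have ho : orderOf (c ^ i) = 4 := by
          rw [orderOf_pow' _ hi0, hi, Nat.gcd_eq_right (dvd_mul_left i 4),
            Nat.mul_div_cancel _ (Nat.pos_of_ne_zero hi0)]
        have hf : c ^ i * c ^ i = u := hB.invol _ (mul_mem (pow_mem hcB i) (pow_mem hcB i))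
          (by rw [← pow_two, ← pow_two, ← pow_mul, orderOf_dvd_iff_pow_eq_one.1 (ho ▸ dvd_rfl)])
          (fun e => by
            have := orderOf_dvd_of_pow_eq_one (n := 2) ((pow_two _).trans e)
            rw [ho] at this; exact absurd (Nat.le_of_dvd two_pos this) (by norm_num))
        refine huf (Fused.trans (b := u * t') ⟨c ^ i, hB.root_conj hu hf ht' hut.symm hune.symm⟩ ?_)
        rw [hut.eq]
        exact htu.symm
      · have hoc : OC (u : G) ((c * c : M) : G) := by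
          refine ⟨cG (hc.mul_left hc), ?_⟩
          rw [Subgroup.orderOf_coe]
          obtain ⟨k, n, hn, he⟩ := Nat.exists_eq_two_pow_mul_odd (orderOf_pos c).ne'
          refine hn.of_dvd_nat (orderOf_dvd_of_pow_eq_one ?_)
          have hk : 2 ^ k ∣ 2 := by
            rcases k with _ | _ | k
            · exact one_dvd _
            · exact dvd_rfl
            · exact absurd (he ▸ Dvd.intro (2 ^ k * n) (by ring)) h4
          rw [← pow_two, ← pow_mul, ← orderOf_dvd_iff_pow_eq_one, he]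
          exact Nat.mul_dvd_mul_right hk n
        obtain ⟨z, hz, hze⟩ := hu_core _ (c * c).2 hoc
        rwa [Subtype.ext hze] at hz
    · rw [hB.out c hc hcB]; exact one_mem _
  -- odd elements centralising `t` lie in the core
  have ht_core : ∀ y : G, OC t y → y ∈ coreIn M := by
    intro y hy
    have hyM : y ∈ M := hM.cent (mem_centralizer_singleton_iff.2 hy.1.eq)
    have hY : OC (π t') (π ⟨y, hyM⟩) :=
      ⟨(show Commute (⟨y, hyM⟩ : M) t' from Subtype.ext hy.1.eq).map π,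
        hy.2.of_dvd_nat ((orderOf_map_dvd π _).trans (by rw [Subgroup.orderOf_mk]))⟩
    by_cases hs : Group.IsSolvable (M ⧸ Cfsg.oddCore M)
    · haveI := hs
      exact ⟨_, (QuotientGroup.eq_one_iff _).1
        (hX.eq_one_of_solvable CfsgLib.LocalB.oddCore_quotient (mk_inv hN ht') hY), rfl⟩
    · exact (hX.false_of_exp_two hTI CfsgLib.LocalB.oddCore_quotient hs (mk_inv hN hu) (e := π e)
        (by rw [← map_mul, he]; exact mk_inv hN ht') hexp).elim
  -- hence all pieces are full, and the 3-cycle of the outer four group is in the member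
  have hall : ∀ v, V2.Mem v → ∀ y, OC v y → y ∈ coreIn M := by
    intro v hv
    obtain ⟨O, hO, hOm⟩ := hG.exists_oddPart (Four.Mem.inv V2 hv)
    suffices h : O ≤ coreIn M from fun y hy => h ((hOm y).2 hy)
    refine le_of_primes fun p hp z hz hzk => ?_
    haveI : Fact p.Prime := ⟨hp⟩
    exact hprop p (fun x hx => ht_core x ((hG.mem_Qp hM.inv).1 hx).1) v hv
      ((hG.mem_Qp (Four.Mem.inv V2 hv)).2 ⟨(hOm z).1 hz, hzk⟩)
  obtain ⟨g, hgM, hg⟩ := C.cycle_mem hM V2 htM u.2 hall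
  exact huf ⟨⟨g, hgM⟩, Subtype.ext hg⟩

/-- The core of a member does not contain the odd parts at all three involutions of a four group. -/
theorem no_three {M : Subgroup G} (F : Four G) (hM : IsMember M F.t) :
    ¬ ∀ v, F.Mem v → ∀ y, OC v y → y ∈ coreIn M := by
  intro hall
  have ht : F.t ∈ M := hM.cent (mem_centralizer_singleton_iff.2 rfl)
  have hu : F.u ∈ M := hM.cent (mem_centralizer_singleton_iff.2 F.htu.eq.symm)
  obtain ⟨g, hg, hgt⟩ := C.cycle_mem hM F ht hu hall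
  have h := (C.member_core hM).2 g hg
  rw [hgt, F.ht.inv_eq, ← F.htu.eq, F.mul] at h
  exact F.hw.2 (eq_one_of_sq F.hw.1 (odd_orderOf (odd_coreIn M) h))

end Ctx

end CfsgLib.DGroup
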