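import Cfsg.Agent.DGroup.Hyp
import Mathlib.GroupTheory.SpecificGroups.Alternating
import Mathlib.GroupTheory.Perm.ViaEmbedding

/-!
# Nonsolvable `DHyp` groups with trivial core have no solvable normal subgroups
-/

set_option autoImplicit false
set_option linter.style.haveILetI false
set_option linter.unusedSectionVars false

namespace CfsgLib.DGroup

open Subgroup
open CfsgLib.NormCyclic (Inv)

universe u

variable {G : Type u} [Group G] [Finite G]

theorem solvable_perm_three : Group.IsSolvable (Equiv.Perm (Fin 3)) := by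
  haveI : Group.IsSolvable (alternatingGroup (Fin 3)) := by
    have h : Nat.card (alternatingGroup (Fin 3)) = 3 := by
      rw [nat_card_alternatingGroup]; simp [Nat.factorial]
    haveI : Fact (Nat.Prime 3) := ⟨Nat.prime_three⟩
    haveI := isCyclic_of_prime_card h
    letI := IsCyclic.commGroup (α := alternatingGroup (Fin 3))
    infer_instance
  exact Group.isSolvable_of_ker_le_range (alternatingGroup (Fin 3)).subtype Equiv.Perm.sign
    (by rw [Subgroup.range_subtype]; exact le_of_eq alternatingGroup_eq_sign_ker.symm)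

/-- The centraliser of an involution with a base is solvable. -/
theorem IsBase.cent_solvable {v : G} {A : Subgroup G} (hA : IsBase v A) :
    Group.IsSolvable (centralizer ({v} : Set G)) := by
  set C := centralizer ({v} : Set G) with hC
  have hc : ∀ x : C, Commute (x : G) v := fun x => mem_centralizer_singleton_iff.1 x.2
  haveI : (A.subgroupOf C).Normal := ⟨fun x hx g => by
    have hx' : (x : G) ∈ A := hx
    show (g : G) * x * (g : G)⁻¹ ∈ A
    rcases hA.conj_zpowers (hc g) hx' with e | e <;> rw [e]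
    exacts [hx', inv_mem hx']⟩
  haveI : Group.IsSolvable (A.subgroupOf C) :=
    Group.isSolvable_of_comm fun a b => Subtype.ext (Subtype.ext (hA.comm _ a.2 _ b.2))
  haveI : Group.IsSolvable (C ⧸ A.subgroupOf C) := by
    refine Group.isSolvable_of_comm fun a b => ?_
    have hsq : ∀ q : C ⧸ A.subgroupOf C, q * q = 1 := by
      intro q
      obtain ⟨x, rfl⟩ := QuotientGroup.mk_surjective q
      rw [← QuotientGroup.mk_mul, QuotientGroup.eq_one_iff]
      show (x : G) * x ∈ A
      by_cases h : (x : G) ∈ A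
      · exact mul_mem h h
      · rw [hA.out _ (hc x) h]; exact one_mem _
    calc a * b = (a * b)⁻¹ := eq_inv_of_mul_eq_one_left (hsq _)
      _ = b⁻¹ * a⁻¹ := mul_inv_rev a b
      _ = b * a := by rw [inv_eq_of_mul_eq_one_right (hsq a), inv_eq_of_mul_eq_one_right (hsq b)]
  exact (Group.isSolvable_iff_subgroup_quotient (A.subgroupOf C)).2 ⟨inferInstance, inferInstance⟩

namespace DHyp

variable (hG : DHyp G)
include hG

/-- A nonsolvable group with trivial core has no nontrivial solvable normal subgroup. -/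
theorem no_solvable_normal (hO : Cfsg.oddCore G = ⊥) (hns : ¬ Group.IsSolvable G) (N : Subgroup G)
    (hN : N.Normal) (hs : Group.IsSolvable N) : N = ⊥ := by
  by_contra hN0
  haveI := hN
  obtain ⟨E, hEn, hE0, -, hEc, -, p, hp, hexp, hpE⟩ :=
    CfsgLib.Solvable.exists_normal_elementary_le hN0 hs
  haveI := hEn
  haveI : Fact p.Prime := ⟨hp⟩
  obtain rfl : p = 2 := by
    by_contra h2
    refine hE0 (le_bot_iff.1 (hO ▸ le_oddCore hEn ?_))
    obtain ⟨k, hk⟩ := IsPGroup.iff_card.1 hpE
    rw [hk]; exact (hp.odd_of_ne_two h2).pow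
  obtain ⟨a, haE, ha1⟩ := E.bot_or_exists_ne_one.resolve_left hE0
  have sq : ∀ x ∈ E, x * x = 1 := fun x hx => by rw [← pow_two]; exact hexp x hx
  obtain ⟨A, hA⟩ := hG a ⟨sq a haE, ha1⟩
  haveI := hA.cent_solvable
  classical
  haveI : Fintype G := Fintype.ofFinite G
  let Ω := {c : G // c ∈ E ∧ c ≠ 1}
  have hcard : Fintype.card Ω ≤ 3 := by
    by_cases hab : ∃ b ∈ E, b ≠ 1 ∧ b ≠ a
    · obtain ⟨b, hbE, hb1, hba⟩ := hab
      rw [Fintype.card_subtype]
      refine le_trans (Finset.card_le_card (t := {a, b, a * b}) fun c hc => ?_) Finset.card_le_three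
      simp only [Finset.mem_filter, Finset.mem_univ, true_and] at hc
      have hcomm : ∀ x ∈ E, ∀ y ∈ E, Commute x y := fun x hx y hy =>
        congrArg Subtype.val (hEc.is_comm.comm ⟨x, hx⟩ ⟨y, hy⟩)
      simp only [Finset.mem_insert, Finset.mem_singleton]
      exact hG.no_eight ⟨sq a haE, ha1⟩ ⟨sq b hbE, hb1⟩ ⟨sq c hc.1, hc.2⟩ (hcomm a haE b hbE)
        (hcomm a haE c hc.1) (hcomm b hbE c hc.1) hba.symm
    · push Not at hab
      rw [Fintype.card_subtype]
      refine le_trans (Finset.card_le_card (t := {a}) fun c hc => ?_) (by simp)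
      simp only [Finset.mem_filter, Finset.mem_univ, true_and] at hc
      simpa using hab c hc.1 hc.2
  have hmem : ∀ (g : G) (c : Ω), g * (c : G) * g⁻¹ ∈ E ∧ g * (c : G) * g⁻¹ ≠ 1 := fun g c =>
    ⟨hEn.conj_mem _ c.2.1 g, fun e => c.2.2 (conj_eq_one_iff.1 e)⟩
  let φ : G →* Equiv.Perm Ω :=
    { toFun := fun g =>
        { toFun := fun c => ⟨_, hmem g c⟩
          invFun := fun c => ⟨_, hmem g⁻¹ c⟩
          left_inv := fun c => Subtype.ext (by simp [mul_assoc])
          right_inv := fun c => Subtype.ext (by simp [mul_assoc]) }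
      map_one' := Equiv.ext fun c => Subtype.ext (by simp)
      map_mul' := fun g h => Equiv.ext fun c => Subtype.ext (by simp [mul_assoc]) }
  obtain ⟨emb⟩ : Nonempty (Ω ↪ Fin 3) := Function.Embedding.nonempty_of_card_le (by simpa using hcard)
  haveI := solvable_perm_three
  haveI : Group.IsSolvable (Equiv.Perm Ω) :=
    Group.isSolvable_of_isSolvable_injective (Equiv.Perm.viaEmbeddingHom_injective emb)
  refine hns (Group.isSolvable_of_ker_le_range (centralizer ({a} : Set G)).subtype φ ?_)
  intro g hg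
  rw [Subgroup.range_subtype, mem_centralizer_singleton_iff]
  have := congrArg (fun σ : Equiv.Perm Ω => ((σ ⟨a, haE, ha1⟩ : Ω) : G)) (MonoidHom.mem_ker.1 hg)
  exact mul_inv_eq_iff_eq_mul.1 this

end DHyp

end CfsgLib.DGroup
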