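import Cfsg.Agent.DGroup.Ctx

/-!
# Odd subgroups invariant under a four group lie in one piece modulo the core
-/

set_option autoImplicit false
set_option linter.style.haveILetI false
set_option linter.unusedSectionVars false

namespace CfsgLib.DGroup

open Subgroup
open CfsgLib.NormCyclic (Inv)

universe u

variable {G : Type u} [Group G] [Finite G]

namespace Four

variable (F : Four G)

/-- `v` is one of the three involutions. -/
def Mem (v : G) : Prop := v = F.t ∨ v = F.u ∨ v = F.w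

theorem Mem.inv {v : G} (h : F.Mem v) : Inv v := by
  rcases h with rfl | rfl | rfl; exacts [F.ht, F.hu, F.hw]

theorem Mem.commute {a b : G} (ha : F.Mem a) (hb : F.Mem b) : Commute a b := by
  rcases ha with rfl | rfl | rfl <;> rcases hb with rfl | rfl | rfl
  exacts [Commute.refl _, F.htu, F.htw, F.htu.symm, Commute.refl _, F.huw, F.htw.symm, F.huw.symm,
    Commute.refl _]

theorem Mem.mem_normalizer {v : G} (h : F.Mem v) {K : Subgroup G} (hs : F.Stab K) :
    v ∈ Subgroup.normalizer (K : Set G) := by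
  rcases h with rfl | rfl | rfl; exacts [hs.1, hs.2, hs.w]

theorem Mem.piece_stab {v : G} (h : F.Mem v) {K : Subgroup G} (hs : F.Stab K) :
    F.Stab (piece K v) :=
  F.piece_stab hs (Mem.commute F (Or.inl rfl) h) (Mem.commute F (Or.inr (Or.inl rfl)) h)

/-- Some piece of a nontrivial invariant subgroup of odd order is nontrivial. -/
theorem exists_piece (hG : DHyp G) {K : Subgroup G} (hK : Odd (Nat.card K)) (hs : F.Stab K)
    (h1 : K ≠ ⊥) : ∃ v, F.Mem v ∧ piece K v ≠ ⊥ := by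
  by_contra h
  push Not at h
  exact h1 (le_bot_iff.1 (F.le_of_pieces hG hK hs (h _ (Or.inl rfl)).le
    (h _ (Or.inr (Or.inl rfl))).le (h _ (Or.inr (Or.inr rfl))).le))

/-- Under TI an invariant subgroup of odd order is centralised by one involution of the four. -/
theorem single_piece (hG : DHyp G) (hTI : TI G) {K : Subgroup G} (hK : Odd (Nat.card K))
    (hs : F.Stab K) : ∃ v, F.Mem v ∧ ∀ y ∈ K, Commute y v := by
  by_cases h1 : K = ⊥
  · exact ⟨F.t, Or.inl rfl, fun y hy => by rw [h1, mem_bot] at hy; rw [hy]; exact Commute.one_left _⟩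
  -- a minimal normal invariant subgroup
  obtain ⟨M, hMK, ⟨hM0, hMn, hMs⟩, hmin⟩ := exists_minimal_le_of_wellFoundedLT
    (fun N : Subgroup G => N ≠ ⊥ ∧ K ≤ Subgroup.normalizer (N : Set G) ∧ F.Stab N) K
    ⟨h1, le_normalizer, hs⟩
  have hMo : Odd (Nat.card M) := hK.of_dvd_nat (card_dvd_of_le hMK)
  have hMM : ⁅M, M⁆ = ⊥ := by
    by_contra hne
    have hle : ⁅M, M⁆ ≤ M := commutator_le.2 fun a ha b hb =>
      mul_mem (mul_mem (mul_mem ha hb) (inv_mem ha)) (inv_mem hb)
    have hN : ∀ g, g ∈ Subgroup.normalizer (M : Set G) →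
        g ∈ Subgroup.normalizer ((⁅M, M⁆ : Subgroup G) : Set G) := fun g hg => by
      rw [CfsgLib.Bender.GSide.mem_norm_iff] at hg ⊢
      show (⁅M, M⁆ : Subgroup G).map (MulAut.conj g).toMonoidHom = ⁅M, M⁆
      rw [map_commutator]
      exact congrArg₂ _ hg hg
    have heq := le_antisymm hle
      (hmin (y := ⁅M, M⁆) ⟨hne, fun g hg => hN g (hMn hg), hN _ hMs.1, hN _ hMs.2⟩ hle)
    haveI := solvable_of_odd M hMo
    haveI := (nontrivial_iff_ne_bot M).2 hM0
    have h := Group.IsSolvable.commutator_lt_top_of_nontrivial M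
    rw [← map_subtype_lt_map_subtype, map_subtype_commutator] at h
    rw [← MonoidHom.range_eq_map, range_subtype] at h
    exact h.ne heq
  obtain ⟨v, hv, hv0⟩ := F.exists_piece hG hMo hMs hM0
  obtain ⟨x, hx, hx1⟩ := (piece M v).bot_or_exists_ne_one.resolve_left hv0
  obtain ⟨hxM, hxv⟩ := mem_piece.1 hx
  have hMv : ∀ m ∈ M, Commute m v := fun m hm => hTI v x m (Mem.inv F hv) hx1 (odd_orderOf hMo hxM)
    (odd_orderOf hMo hm) hxv (by
      have h := commutatorElement_eq_one_iff_mul_comm.1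
        (mem_bot.1 (hMM ▸ commutator_mem_commutator hm hxM))
      exact h)
  refine ⟨v, hv, fun k hk => ?_⟩
  have hkx : k⁻¹ * x * k ∈ M := conj_mem' (hMn hk) hxM
  have h2 : Commute x (k * v * k⁻¹) := by
    have := (Commute.conj_iff k).2 (hMv _ hkx)
    simpa [mul_assoc] using this
  exact mul_inv_eq_iff_eq_mul.1 (hG.inv_unique hTI (Mem.inv F hv) ((Mem.inv F hv).conj k)
    (odd_orderOf hMo hxM) hx1 hxv h2)

end Four

/-- The image of a four group in a quotient by an odd normal subgroup. -/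
def Four.mapQuot (F : Four G) {N : Subgroup G} [N.Normal] (hN : Odd (Nat.card N)) : Four (G ⧸ N) :=
  ⟨F.t, F.u, F.w, mk_inv hN F.ht, mk_inv hN F.hu, mk_inv hN F.hw,
    F.htu.map (QuotientGroup.mk' N), fun h => by
      have : F.w ∈ N := by
        rw [← QuotientGroup.eq_one_iff, ← F.mul, QuotientGroup.mk_mul, h, ← QuotientGroup.mk_mul,
          F.hu.1, QuotientGroup.mk_one]
      exact F.hw.2 (eq_one_of_sq F.hw.1 (odd_orderOf hN this)),
    by rw [← F.mul, QuotientGroup.mk_mul]⟩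

/-- The four group inside a subgroup. -/
def Four.inSub (F : Four G) (L : Subgroup G) (ht : F.t ∈ L) (hu : F.u ∈ L) (hw : F.w ∈ L) :
    Four L :=
  ⟨⟨F.t, ht⟩, ⟨F.u, hu⟩, ⟨F.w, hw⟩,
    ⟨Subtype.ext F.ht.1, fun h => F.ht.2 (congrArg Subtype.val h)⟩,
    ⟨Subtype.ext F.hu.1, fun h => F.hu.2 (congrArg Subtype.val h)⟩,
    ⟨Subtype.ext F.hw.1, fun h => F.hw.2 (congrArg Subtype.val h)⟩,
    Subtype.ext F.htu, fun h => F.ne (congrArg Subtype.val h), Subtype.ext F.mul⟩

namespace Ctx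

variable (C : Ctx G)
include C

/-- An invariant subgroup of odd order of a proper subgroup lies, modulo the core, in one piece. -/
theorem exists_piece_mod (F : Four G) {L : Subgroup G} (hL : L ≠ ⊤) (ht : F.t ∈ L) (hu : F.u ∈ L)
    {K : Subgroup G} (hKL : K ≤ L) (hK : Odd (Nat.card K)) (hs : F.Stab K) :
    ∃ v, F.Mem v ∧ K ≤ coreIn L ⊔ piece K v ∧
      ∀ v', F.Mem v' → v' ≠ v → piece K v' ≤ coreIn L := by
  haveI := normal_oddCore L
  have hN := odd_oddCore L
  have hw : F.w ∈ L := F.mul ▸ mul_mem ht hu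
  set FL := F.inSub L ht hu hw with hFL
  set π := QuotientGroup.mk' (Cfsg.oddCore L) with hπ
  set F' := FL.mapQuot hN with hF'
  set K' := (K.subgroupOf L).map π with hK'
  have hKo : Odd (Nat.card (K.subgroupOf L)) := by
    rwa [Nat.card_congr (subgroupOfEquivOfLe hKL).toEquiv]
  have hstab : F'.Stab K' := by
    have : ∀ g : L, (g : G) ∈ normalizer (K : Set G) → π g ∈ normalizer (K' : Set (L ⧸ Cfsg.oddCore L)) :=
      fun g hg => by
        refine le_normalizer_map π ⟨g, ?_, rfl⟩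
        refine mem_normalizer_iff.2 fun x => ?_
        simp only [mem_subgroupOf, Subgroup.coe_mul, InvMemClass.coe_inv]
        exact mem_normalizer_iff.1 hg x
    exact ⟨this _ hs.1, this _ hs.2⟩
  obtain ⟨v', hv', hall⟩ := F'.single_piece ((C.hG.subgroup L).quotient hN) (C.ti_quot hL)
    (hKo.of_dvd_nat (card_map_dvd _ _)) hstab
  obtain ⟨v, hv, hvL, hvv⟩ : ∃ v : G, F.Mem v ∧ ∃ h : v ∈ L, π ⟨v, h⟩ = v' := by
    rcases hv' with rfl | rfl | rfl
    exacts [⟨F.t, Or.inl rfl, ht, rfl⟩, ⟨F.u, Or.inr (Or.inl rfl), hu, rfl⟩,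
      ⟨F.w, Or.inr (Or.inr rfl), hw, rfl⟩]
  have hcomm : ∀ y ∈ K, y * v * y⁻¹ * v⁻¹ ∈ coreIn L := by
    intro y hy
    have h := hall _ ⟨⟨y, hKL hy⟩, hy, rfl⟩
    rw [← hvv] at h
    have hm : (⟨y, hKL hy⟩ * ⟨v, hvL⟩ * ⟨y, hKL hy⟩⁻¹ * ⟨v, hvL⟩⁻¹ : L) ∈ Cfsg.oddCore L := by
      rw [← QuotientGroup.eq_one_iff, QuotientGroup.mk_mul, QuotientGroup.mk_mul,
        QuotientGroup.mk_mul, QuotientGroup.mk_inv, QuotientGroup.mk_inv]
      exact mul_inv_eq_one.2 (mul_inv_eq_iff_eq_mul.2 h.eq)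
    exact ⟨_, hm, rfl⟩
  have hvI := Four.Mem.inv F hv
  have hothers : ∀ s, F.Mem s → s ≠ v → piece K s ≤ coreIn L := by
    intro s hs' hne y hy
    obtain ⟨hyK, hys⟩ := mem_piece.1 hy
    have hyo := odd_orderOf hK hyK
    have h := C.hG.inverts (Four.Mem.inv F hs') hvI (Four.Mem.commute F hv hs') (Ne.symm hne)
      ⟨hys, hyo⟩
    have h2 : y * y ∈ coreIn L := by
      have := hcomm y hyK
      rwa [hvI.inv_eq, show y * v * y⁻¹ * v = y * (v * y⁻¹ * v) by group,
        show v * y⁻¹ * v = (v⁻¹ * y * v⁻¹)⁻¹ by group, hvI.inv_eq, h, inv_inv] at this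
    obtain ⟨m, hm⟩ := hyo
    have e : y = (y * y) ^ (m + 1) := by
      rw [(Commute.refl y).mul_pow, ← pow_add, show m + 1 + (m + 1) = orderOf y + 1 by omega,
        pow_succ, pow_orderOf_eq_one, one_mul]
    rw [e]; exact pow_mem h2 _
  have hsel : ∀ s, F.Mem s → piece K s ≤ coreIn L ⊔ piece K v := fun s hs' => by
    by_cases h : s = v
    · rw [h]; exact le_sup_right
    · exact (hothers s hs' h).trans le_sup_left
  exact ⟨v, hv, F.le_of_pieces C.hG hK hs (hsel _ (Or.inl rfl)) (hsel _ (Or.inr (Or.inl rfl)))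
    (hsel _ (Or.inr (Or.inr rfl))), hothers⟩

end Ctx

end CfsgLib.DGroup
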