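import Cfsg.Agent.S2202
import Cfsg.Agent.OddEnd.FourteenFinal
import Cfsg.Agent.Invol.ThompsonTransfer
import Cfsg.Agent.SL2C.Basic

/-!
# D-group centralisers: the branches with elementary abelian involution part of rank at least two
-/

set_option autoImplicit false
set_option linter.style.haveILetI false
set_option linter.unusedSectionVars false

namespace CfsgLib.DGroup.RankTwo

open Subgroup

universe u

section Field

variable {F : Type*} [Field F] [CharP F 2]

/-- Upper unitriangular matrix. -/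
def up (x : F) : Matrix.SpecialLinearGroup (Fin 2) F := ⟨!![1, x; 0, 1], by simp [Matrix.det_fin_two]⟩

/-- Lower unitriangular matrix. -/
def lo (x : F) : Matrix.SpecialLinearGroup (Fin 2) F := ⟨!![1, 0; x, 1], by simp [Matrix.det_fin_two]⟩

theorem coe_up (x : F) : (up x : Matrix (Fin 2) (Fin 2) F) = !![1, x; 0, 1] := rfl

theorem coe_lo (x : F) : (lo x : Matrix (Fin 2) (Fin 2) F) = !![1, 0; x, 1] := rfl

theorem up_add (x y : F) : up (x + y) = up x * up y := by
  apply Subtype.ext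
  show !![1, x + y; 0, 1] = !![1, x; 0, 1] * !![1, y; 0, 1]
  ext i j; fin_cases i <;> fin_cases j <;> simp [Matrix.mul_apply, Fin.sum_univ_two, add_comm]

theorem up_zero : up (0 : F) = 1 := by
  apply Subtype.ext
  show !![(1 : F), 0; 0, 1] = 1
  ext i j; fin_cases i <;> fin_cases j <;> simp

theorem up_sq (x : F) : up x * up x = 1 := by rw [← up_add, CharTwo.add_self_eq_zero, up_zero]

theorem up_ne (x : F) (hx : x ≠ 0) : up x ≠ 1 := fun h => hx (by
  have := congrArg (fun g : Matrix.SpecialLinearGroup (Fin 2) F =>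
    (g : Matrix (Fin 2) (Fin 2) F) 0 1) h
  simpa [coe_up] using this)

theorem lo_add (x y : F) : lo (x + y) = lo x * lo y := by
  apply Subtype.ext
  show !![1, 0; x + y, 1] = !![1, 0; x, 1] * !![1, 0; y, 1]
  ext i j; fin_cases i <;> fin_cases j <;> simp [Matrix.mul_apply, Fin.sum_univ_two]

theorem lo_sq (x : F) : lo x * lo x = 1 := by
  rw [← lo_add, CharTwo.add_self_eq_zero]
  apply Subtype.ext
  show !![(1 : F), 0; 0, 1] = 1
  ext i j; fin_cases i <;> fin_cases j <;> simp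

theorem center_eq_bot : Subgroup.center (Matrix.SpecialLinearGroup (Fin 2) F) = ⊥ := by
  rw [eq_bot_iff]
  intro x hx
  rw [Matrix.SpecialLinearGroup.mem_center_iff] at hx
  obtain ⟨c, hc, hcx⟩ := hx
  rw [Fintype.card_fin] at hc
  have h1 : c = 1 := by
    have : (c + 1) ^ 2 = 0 := by rw [CharTwo.add_sq, one_pow, hc, CharTwo.add_self_eq_zero]
    exact CharTwo.add_eq_zero.1 (pow_eq_zero_iff (n := 2) (by norm_num) |>.1 this)
  rw [Subgroup.mem_bot]
  apply Subtype.ext
  rw [← hcx, h1]; simp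

/-- The special linear group is generated by the two unipotent groups. -/
theorem eq_top_of_mem (M : Subgroup (Matrix.SpecialLinearGroup (Fin 2) F))
    (hu : ∀ x, up x ∈ M) (hl : ∀ x, lo x ∈ M) : M = ⊤ := by
  have hchar : (2 : F) = 0 := CharTwo.two_eq_zero
  rw [eq_top_iff]
  rintro ⟨A, hA⟩ -
  have hdet : A 0 0 * A 1 1 + A 0 1 * A 1 0 = 1 := by
    rw [Matrix.det_fin_two] at hA; linear_combination hA + (A 0 1 * A 1 0) * hchar
  by_cases hC : A 1 0 = 0
  · -- multiply by a lower matrix to make the corner entry non-zero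
    rw [hC, mul_zero, add_zero] at hdet
    have hA0 : A 0 0 ≠ 0 := left_ne_zero_of_mul_eq_one hdet
    have e : (⟨A, hA⟩ : Matrix.SpecialLinearGroup (Fin 2) F) =
        lo 1 * (up ((A 0 0 + 1) / A 0 0) *
          (lo (A 0 0) * up ((A 0 1 + A 1 1 + 1) / A 0 0))) := by
      apply Subtype.ext
      show A = !![1, 0; 1, 1] * (!![1, (A 0 0 + 1) / A 0 0; 0, 1] *
        (!![1, 0; A 0 0, 1] * !![1, (A 0 1 + A 1 1 + 1) / A 0 0; 0, 1]))
      ext i j
      fin_cases i <;> fin_cases j <;>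
        simp [Matrix.mul_apply, Fin.sum_univ_two, Matrix.vecMul, dotProduct, hC] <;> field_simp
      all_goals grobner
    rw [e]
    exact M.mul_mem (hl _) (M.mul_mem (hu _) (M.mul_mem (hl _) (hu _)))
  · have e : (⟨A, hA⟩ : Matrix.SpecialLinearGroup (Fin 2) F) =
        up ((A 0 0 + 1) / A 1 0) * (lo (A 1 0) * up ((A 1 1 + 1) / A 1 0)) := by
      apply Subtype.ext
      show A = !![1, (A 0 0 + 1) / A 1 0; 0, 1] *
        (!![1, 0; A 1 0, 1] * !![1, (A 1 1 + 1) / A 1 0; 0, 1])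
      ext i j
      fin_cases i <;> fin_cases j <;>
        simp [Matrix.mul_apply, Fin.sum_univ_two, Matrix.vecMul, dotProduct, hC] <;> field_simp
      all_goals grobner
    rw [e]
    exact M.mul_mem (hu _) (M.mul_mem (hl _) (hu _))

/-- An involutory or trivial element commuting with a lower matrix is lower. -/
theorem eq_lo_of_commute {z : F} (hz : z ≠ 0) {g : Matrix.SpecialLinearGroup (Fin 2) F}
    (hg : g * g = 1) (hc : g * lo z = lo z * g) :
    g = lo ((g : Matrix (Fin 2) (Fin 2) F) 1 0) := by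
  obtain ⟨B, hB⟩ := g
  have hchar : (2 : F) = 0 := CharTwo.two_eq_zero
  have hc' : B * !![1, 0; z, 1] = !![1, 0; z, 1] * B := congrArg Subtype.val hc
  have hg' : B * B = 1 := congrArg Subtype.val hg
  have h00 : B 0 1 * z = 0 := by
    have := congrFun (congrFun hc' 0) 0
    simpa [Matrix.mul_apply, Fin.sum_univ_two, Matrix.vecMul, dotProduct] using this
  have hb : B 0 1 = 0 := (mul_eq_zero.1 h00).resolve_right hz
  have h10 : B 1 1 * z = z * B 0 0 := by
    have := congrFun (congrFun hc' 1) 0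
    simp [Matrix.mul_apply, Fin.sum_univ_two, Matrix.vecMul, dotProduct] at this
    linear_combination this
  have hd : B 1 1 = B 0 0 := mul_right_cancel₀ hz (h10.trans (mul_comm z _))
  have ha : B 0 0 = 1 := by
    have := congrFun (congrFun hg' 0) 0
    simp [Matrix.mul_apply, Fin.sum_univ_two, hb] at this
    refine CharTwo.add_eq_zero.1 ((pow_eq_zero_iff two_ne_zero).1 (?_ : (B 0 0 + 1) ^ 2 = 0))
    linear_combination this + (B 0 0 + 1) * hchar
  apply Subtype.ext
  show B = !![1, 0; B 1 0, 1]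
  ext i j; fin_cases i <;> fin_cases j <;> simp [ha, hb, hd]

theorem cube_eq_one_iff {x y : F} (hx : x ≠ 0) :
    (up x * lo y) * (up x * lo y) * (up x * lo y) = 1 ↔ x * y = 1 := by
  have hchar : (2 : F) = 0 := CharTwo.two_eq_zero
  constructor
  · intro h
    have h' := congrFun (congrFun (congrArg Subtype.val h) 0) 1
    change (!![1, x; 0, 1] * !![1, 0; y, 1] * (!![1, x; 0, 1] * !![1, 0; y, 1]) *
      (!![1, x; 0, 1] * !![1, 0; y, 1])) 0 1 = (1 : Matrix (Fin 2) (Fin 2) F) 0 1 at h'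
    simp [Matrix.mul_apply, Fin.sum_univ_two] at h'
    refine CharTwo.add_eq_zero.1 ((pow_eq_zero_iff two_ne_zero).1
      ((mul_eq_zero.1 (?_ : (x * y + 1) ^ 2 * x = 0)).resolve_right hx))
    grobner
  · intro h
    apply Subtype.ext
    show !![1, x; 0, 1] * !![1, 0; y, 1] * (!![1, x; 0, 1] * !![1, 0; y, 1]) *
      (!![1, x; 0, 1] * !![1, 0; y, 1]) = 1
    ext i j
    fin_cases i <;> fin_cases j <;> simp [Matrix.mul_apply, Fin.sum_univ_two] <;> grobner

/-- An automorphism fixing the upper unipotent group pointwise is inner by an element of it. -/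
theorem aut_inner (α : Matrix.SpecialLinearGroup (Fin 2) F ≃* Matrix.SpecialLinearGroup (Fin 2) F)
    (hα : ∀ x, α (up x) = up x) : ∃ d : F, ∀ g, α g = up d * g * up d := by
  have hchar : (2 : F) = 0 := CharTwo.two_eq_zero
  obtain ⟨B, hB⟩ : ∃ B, α (lo 1) = B := ⟨_, rfl⟩
  have hBB : B * B = 1 := by rw [← hB, ← map_mul, lo_sq, map_one]
  set b := (B : Matrix (Fin 2) (Fin 2) F) with hb
  have hdet : b 0 0 * b 1 1 + b 0 1 * b 1 0 = 1 := by
    have := B.2
    rw [Matrix.det_fin_two] at this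
    linear_combination this + (b 0 1 * b 1 0) * hchar
  have hbb : b * b = 1 := congrArg Subtype.val hBB
  have h00 : b 0 0 * b 0 0 + b 0 1 * b 1 0 = 1 := by
    simpa [Matrix.mul_apply, Fin.sum_univ_two] using congrFun (congrFun hbb 0) 0
  have hz : b 1 0 ≠ 0 := by
    intro hz
    rw [hz, mul_zero, add_zero] at h00
    rw [hz, mul_zero, add_zero] at hdet
    have ha : b 0 0 = 1 := CharTwo.add_eq_zero.1 ((pow_eq_zero_iff two_ne_zero).1
      (show (b 0 0 + 1) ^ 2 = 0 by linear_combination h00 + (b 0 0 + 1) * hchar))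
    rw [ha, one_mul] at hdet
    have he : α (lo 1) = α (up (b 0 1)) := by
      rw [hB, hα]
      apply Subtype.ext
      show b = !![1, b 0 1; 0, 1]
      ext i j; fin_cases i <;> fin_cases j <;> simp [ha, hz, hdet]
    have := congrFun (congrFun (congrArg Subtype.val (α.injective he)) 1) 0
    simp [coe_lo, coe_up] at this
  have hd11 : b 1 1 = b 0 0 := by
    have h10 : b 1 0 * b 0 0 + b 1 1 * b 1 0 = 0 := by
      simpa [Matrix.mul_apply, Fin.sum_univ_two] using congrFun (congrFun hbb 1) 0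
    refine (CharTwo.add_eq_zero.1 ((mul_eq_zero.1 (?_ : b 1 0 * (b 0 0 + b 1 1) = 0)).resolve_left hz)).symm
    linear_combination h10
  set d := (b 0 0 + 1) / b 1 0 with hd
  let β : Matrix.SpecialLinearGroup (Fin 2) F →* Matrix.SpecialLinearGroup (Fin 2) F :=
    MonoidHom.mk' (fun g => up d * α g * up d) fun g g' => by
      rw [map_mul, show up d * α g * up d * (up d * α g' * up d) =
        up d * α g * (up d * up d) * α g' * up d by simp [mul_assoc], up_sq, mul_one]
      simp [mul_assoc]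
  have hβu : ∀ x, β (up x) = up x := fun x => by
    show up d * α (up x) * up d = up x
    rw [hα, ← up_add, ← up_add, show d + x + d = x + (d + d) by ring, CharTwo.add_self_eq_zero,
      add_zero]
  have hβ1 : β (lo 1) = lo (b 1 0) := by
    show up d * α (lo 1) * up d = _
    rw [hB]
    apply Subtype.ext
    show !![1, d; 0, 1] * b * !![1, d; 0, 1] = !![1, 0; b 1 0, 1]
    ext i j
    fin_cases i <;> fin_cases j <;>
      simp [Matrix.mul_apply, Fin.sum_univ_two, Matrix.vecMul, dotProduct, hd11, hd] <;> field_simp <;>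
      grobner
  have hz1 : b 1 0 = 1 := by
    have h := congrArg β ((cube_eq_one_iff (x := (1 : F)) (y := 1) one_ne_zero).2 (one_mul 1))
    simp only [map_mul, map_one, hβu, hβ1] at h
    simpa using (cube_eq_one_iff one_ne_zero).1 h
  rw [hz1] at hβ1
  have hβl : ∀ c, β (lo c) = lo c := by
    intro c
    by_cases hc : c = 0
    · rw [hc, show lo (0 : F) = 1 by rw [← lo_sq (1 : F), ← lo_add, CharTwo.add_self_eq_zero],
        map_one]
    have hcomm : β (lo c) * lo 1 = lo 1 * β (lo c) := by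
      rw [← hβ1, ← map_mul, ← map_mul, ← lo_add, ← lo_add, add_comm]
    have hsq : β (lo c) * β (lo c) = 1 := by rw [← map_mul, lo_sq, map_one]
    obtain ⟨f, hf⟩ : ∃ f, β (lo c) = lo f := ⟨_, eq_lo_of_commute one_ne_zero hsq hcomm⟩
    have h := congrArg β ((cube_eq_one_iff (x := c⁻¹) (y := c) (inv_ne_zero hc)).2
      (inv_mul_cancel₀ hc))
    simp only [map_mul, map_one, hβu, hf] at h
    have h2 := (cube_eq_one_iff (inv_ne_zero hc)).1 h
    rw [hf, show f = c by
      have := congrArg (c * ·) h2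
      simpa [← mul_assoc, hc] using this]
  refine ⟨d, fun g => ?_⟩
  have hall : β.eqLocus (MonoidHom.id _) = ⊤ := eq_top_of_mem _ hβu hβl
  have hg : up d * α g * up d = g := (hall ▸ Subgroup.mem_top g : g ∈ β.eqLocus (MonoidHom.id _))
  calc α g = (up d * up d) * α g * (up d * up d) := by rw [up_sq, one_mul, mul_one]
    _ = up d * (up d * α g * up d) * up d := by simp [mul_assoc]
    _ = _ := by rw [hg]

end Field

variable {G : Type u} [Group G] [Finite G]

theorem two_dvd_of_invol {K : Subgroup G} {x : G} (hx : x ∈ K) (h : orderOf x = 2) :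
    2 ∣ Nat.card K := h ▸ Subgroup.orderOf_dvd_natCard _ hx

theorem even_of_invol' {K : Type*} [Group K] {x : K} (h1 : x ≠ 1) (h2 : x * x = 1) : orderOf x = 2 :=
  orderOf_eq_prime (by rw [pow_two]; exact h2) h1

theorem ord_conj {K : Type*} [Group K] (g x : K) : orderOf (g * x * g⁻¹) = orderOf x :=
  orderOf_injective (MulAut.conj g).toMonoidHom (MulEquiv.injective _) x

theorem exists_conj_mem (S : Sylow 2 G) {x : G} (hx : x * x = 1) :
    ∃ g : G, g * x * g⁻¹ ∈ (S : Subgroup G) := by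
  haveI : Fact (Nat.Prime 2) := ⟨Nat.prime_two⟩
  have hP : IsPGroup 2 ↥(Subgroup.zpowers x) := by
    intro y
    obtain ⟨y, hy⟩ := y
    obtain ⟨i, rfl⟩ := Subgroup.mem_zpowers_iff.1 hy
    refine ⟨1, Subtype.ext ?_⟩
    show (x ^ i) ^ 2 ^ 1 = 1
    rw [pow_one, ← zpow_natCast, ← zpow_mul, mul_comm, zpow_mul, zpow_natCast, pow_two, hx, one_zpow]
  obtain ⟨T, hT⟩ := hP.exists_le_sylow
  obtain ⟨g, hg⟩ := MulAction.exists_smul_eq G T S
  refine ⟨g, ?_⟩
  rw [← hg, Sylow.coe_subgroup_smul]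
  exact Subgroup.mem_pointwise_smul_iff_inv_smul_mem.2 (by
    simpa [MulAut.smul_def, mul_assoc] using hT (Subgroup.mem_zpowers x))

theorem solvable_of_odd {K : Type u} [Group K] [Finite K] (h : Odd (Nat.card K)) :
    Group.IsSolvable K := CfsgLib.OddEnd.odd_solvable K h

theorem solvable_of_ext {K : Type u} [Group K] (N : Subgroup K) [N.Normal]
    (hN : Group.IsSolvable N) (h : Group.IsSolvable (K ⧸ N)) : Group.IsSolvable K :=
  Group.isSolvable_of_ker_le_range N.subtype (QuotientGroup.mk' N)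
    (by rw [QuotientGroup.ker_mk', Subgroup.range_subtype])

theorem solvable_of_normal_sylow {K : Type u} [Group K] [Finite K] (S : Sylow 2 K)
    (h : (S : Subgroup K).Normal) : Group.IsSolvable K := by
  haveI : Fact (Nat.Prime 2) := ⟨Nat.prime_two⟩
  haveI : Group.IsNilpotent ↥(S : Subgroup K) := S.2.isNilpotent
  haveI := h
  refine solvable_of_ext (S : Subgroup K) inferInstance ?_
  exact solvable_of_odd (Nat.odd_iff.2 (Nat.two_dvd_ne_zero.1 fun hd =>
    S.not_dvd_index (by rwa [Subgroup.index_eq_card])))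

theorem solvable_of_cyclic_sylow {K : Type u} [Group K] [Finite K] (S : Sylow 2 K)
    (h : IsCyclic ↥(S : Subgroup K)) : Group.IsSolvable K := by
  haveI : Fact (Nat.Prime 2) := ⟨Nat.prime_two⟩
  by_cases hodd : Odd (Nat.card K)
  · exact solvable_of_odd hodd
  have h2 : (Nat.card K).minFac = 2 := (Nat.minFac_eq_two_iff _).2 (by
    rw [Nat.not_odd_iff_even, even_iff_two_dvd] at hodd; exact hodd)
  set f := MonoidHom.transferSylow S (h.normalizer_le_centralizer h2) with hf
  have hc := h.isComplement' h2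
  have hcard : Nat.card f.ker = (S : Subgroup K).index :=
    hc.index_eq_card.symm
  haveI : Group.IsSolvable f.ker := solvable_of_odd (by
    rw [hcard]; exact Nat.odd_iff.2 (Nat.two_dvd_ne_zero.1 S.not_dvd_index))
  refine solvable_of_ext f.ker inferInstance ?_
  haveI := h
  letI := IsCyclic.commGroup (α := ↥(S : Subgroup K))
  haveI : Group.IsSolvable ↥(S : Subgroup K) := Group.isSolvable_of_comm mul_comm
  exact Group.isSolvable_of_isSolvable_injective (QuotientGroup.kerLift_injective f)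

section Inv

/-- The product of two involutions in a field of matrices realises a diagonal matrix. -/
theorem range_le_of_invol {F : Type*} [Field F] [CharP F 2] {K : Type*} [Group K]
    (f : Matrix.SpecialLinearGroup (Fin 2) F →* K) (M : Subgroup K)
    (h : ∀ x : Matrix.SpecialLinearGroup (Fin 2) F, x * x = 1 → f x ∈ M) : f.range ≤ M := by
  rintro _ ⟨g, rfl⟩
  have := eq_top_of_mem (M.comap f) (fun x => h _ (up_sq x)) (fun x => h _ (lo_sq x))
  exact (this ▸ Subgroup.mem_top g : g ∈ M.comap f)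

end Inv

theorem exists_sl_iso {F : Type*} [Field F] [CharP F 2] :
    Nonempty (Matrix.SpecialLinearGroup (Fin 2) F ≃* Matrix.ProjectiveSpecialLinearGroup (Fin 2) F) :=
  ⟨((QuotientGroup.quotientMulEquivOfEq center_eq_bot).trans QuotientGroup.quotientBot).symm⟩

theorem three_lt_card {F : Type} [Field F] [Fintype F] [CharP F 2]
    (hns : ¬ Group.IsSolvable (Matrix.SpecialLinearGroup (Fin 2) F)) : 3 < Fintype.card F := by
  classical
  by_contra hlt
  obtain ⟨n, -, hn⟩ := FiniteField.card F 2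
  have h2 : Fintype.card F = 2 := by
    have h1 := n.pos
    rcases Nat.lt_or_ge (n : ℕ) 2 with h | h
    · have hn1 : (n : ℕ) = 1 := by omega
      rw [hn, hn1]
      rfl
    · have : 2 ^ 2 ≤ 2 ^ (n : ℕ) := Nat.pow_le_pow_right two_pos h
      omega
  refine hns ?_
  have h6 : Nat.card (Matrix.SpecialLinearGroup (Fin 2) F) = 6 := by
    have h := CfsgLib.SL2C.card_SL2_mul (F := F)
    rw [h2] at h
    exact h.trans (by norm_num)
  haveI : Fact (Nat.Prime 2) := ⟨Nat.prime_two⟩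
  obtain ⟨S⟩ : Nonempty (Sylow 2 (Matrix.SpecialLinearGroup (Fin 2) F)) := inferInstance
  refine solvable_of_cyclic_sylow S (isCyclic_of_prime_card (p := 2) ?_)
  rw [S.card_eq_multiplicity, h6,
    Nat.factorization_def _ Nat.prime_two, show (6 : ℕ) = 2 * 3 by norm_num,
    padicValNat.mul (by norm_num) (by norm_num), padicValNat.self (by norm_num),
    padicValNat.eq_zero_of_not_dvd (by norm_num : ¬ (2 : ℕ) ∣ 3)]
  norm_num

theorem even_of_invol {x : G} (h1 : x ≠ 1) (h2 : x * x = 1) : orderOf x = 2 :=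
  orderOf_eq_prime (by rw [pow_two]; exact h2) h1

end CfsgLib.DGroup.RankTwo

namespace CfsgLib.DGroup

open Subgroup RankTwo

universe u

variable {G : Type u} [Group G] [Finite G]

/-- The elementary abelian branch. -/
theorem exp_two_case (H : Subgroup G) (h4 : 4 ∣ Nat.card ↥H) (hsq : ∀ x ∈ H, x * x = 1)
    (hC : ∀ j ∈ H, orderOf j = 2 → Subgroup.centralizer ({j} : Set G) = H)
    (hns : ¬ Group.IsSolvable G) :
    ∃ (N : Subgroup G) (_ : N.Normal), (Odd (Nat.card ↥N) ∨ ∃ m : ℕ, Odd m ∧ Nat.card ↥N = 2 * m) ∧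
      ∃ (F : Type) (_ : Field F) (_ : Fintype F), 3 < Fintype.card F ∧
        (Nonempty (G ⧸ N ≃* Matrix.ProjectiveSpecialLinearGroup (Fin 2) F) ∨
          Nonempty (G ⧸ N ≃* Matrix.ProjGenLinGroup (Fin 2) F)) := by
  classical
  haveI : Fact (Nat.Prime 2) := ⟨Nat.prime_two⟩
  have hH2 : IsPGroup 2 H := fun x => ⟨1, Subtype.ext (by
    rw [pow_one, pow_two]; exact hsq x x.2)⟩
  obtain ⟨S, hHS⟩ := hH2.exists_le_sylow
  obtain ⟨j, hj⟩ := exists_prime_orderOf_dvd_card' 2 (dvd_trans (by norm_num : (2 : ℕ) ∣ 4) h4)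
  have hjo : orderOf (j : G) = 2 := by rw [orderOf_submonoid]; exact hj
  have hSH : (S : Subgroup G) = H := by
    refine le_antisymm ?_ hHS
    haveI : Nontrivial ↥(S : Subgroup G) := by
      refine ⟨⟨j, hHS j.2⟩, 1, fun h => ?_⟩
      have : (j : G) = 1 := congrArg Subtype.val h
      rw [this, orderOf_one] at hjo; omega
    haveI := S.2.center_nontrivial
    have hdvd : 2 ∣ Nat.card ↥(Subgroup.center ↥(S : Subgroup G)) :=
      ((S.2.to_subgroup (Subgroup.center ↥(S : Subgroup G))).card_eq_or_dvd).resolve_left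
        Finite.one_lt_card.ne'
    obtain ⟨z, hz⟩ := exists_prime_orderOf_dvd_card' 2 hdvd
    have hzo : orderOf (((z : ↥(S : Subgroup G))) : G) = 2 := by
      rw [orderOf_submonoid, orderOf_submonoid]; exact hz
    have hzS : ∀ x ∈ (S : Subgroup G), x * ((z : ↥(S : Subgroup G)) : G) = (z : ↥(S : Subgroup G)) * x :=
      fun x hx => congrArg Subtype.val (Subgroup.mem_center_iff.1 z.2 ⟨x, hx⟩)
    have hzH : ((z : ↥(S : Subgroup G)) : G) ∈ H := by
      rw [← hC j j.2 hjo]
      exact Subgroup.mem_centralizer_singleton_iff.2 (hzS j (hHS j.2)).symm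
    intro x hx
    rw [← hC _ hzH hzo]
    exact Subgroup.mem_centralizer_singleton_iff.2 (hzS x hx)
  have hcomm : ∀ x ∈ H, ∀ y ∈ H, x * y = y * x := fun x hx y hy => by
    have h1 := hsq (x * y) (H.mul_mem hx hy)
    rw [mul_eq_one_iff_eq_inv, mul_inv_rev] at h1
    rwa [inv_eq_of_mul_eq_one_right (hsq x hx), inv_eq_of_mul_eq_one_right (hsq y hy)] at h1
  have hab : ∀ t : G, orderOf t = 2 → IsMulCommutative ↥(Subgroup.centralizer ({t} : Set G)) := by
    intro t ht
    have ht2 : t * t = 1 := by rw [← pow_two, ← ht, pow_orderOf_eq_one]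
    obtain ⟨g, hg⟩ := exists_conj_mem S ht2
    rw [hSH] at hg
    have hcen := hC _ hg (by rw [ord_conj]; exact ht)
    refine ⟨⟨fun x y => Subtype.ext ?_⟩⟩
    have hm : ∀ z : ↥(Subgroup.centralizer ({t} : Set G)), g * (z : G) * g⁻¹ ∈ H := fun z => by
      rw [← hcen]
      refine Subgroup.mem_centralizer_singleton_iff.2 ?_
      rw [show g * (z : G) * g⁻¹ * (g * t * g⁻¹) = g * ((z : G) * t) * g⁻¹ by group,
        Subgroup.mem_centralizer_singleton_iff.1 z.2]
      group
    have h1 := hcomm _ (hm x) _ (hm y)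
    show (x : G) * y = y * x
    calc (x : G) * y = g⁻¹ * ((g * x * g⁻¹) * (g * y * g⁻¹)) * g := by group
      _ = g⁻¹ * ((g * y * g⁻¹) * (g * x * g⁻¹)) * g := by rw [h1]
      _ = _ := by group
  have heven : Even (Nat.card G) := even_iff_two_dvd.2
    (dvd_trans (dvd_trans (by norm_num) h4) (Subgroup.card_subgroup_dvd_card H))
  rcases Cfsg.Agent.S2202.result heven hab with hc | hn | ⟨F, iF, iFt, A, iA, iAf, hchar, hodd, ⟨e⟩⟩
  · exact absurd (solvable_of_cyclic_sylow S (hc S)) hns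
  · exact absurd (solvable_of_normal_sylow S (hn S)) hns
  haveI := hchar
  have hA1 : ∀ w : A, w = 1 := by
    intro w
    set x := e.symm (up (1 : F), 1) with hx
    set y := e.symm (1, w) with hy
    have hx2 : x * x = 1 := by rw [hx, ← map_mul, Prod.mk_mul_mk, up_sq, one_mul]; exact map_one _
    have hx1 : x ≠ 1 := fun h => up_ne (1 : F) one_ne_zero
      (congrArg Prod.fst (e.symm.injective (h.trans (map_one e.symm).symm)))
    obtain ⟨g, hg⟩ := exists_conj_mem S hx2
    rw [hSH] at hg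
    have hyH : g * y * g⁻¹ ∈ H := by
      rw [← hC _ hg (by rw [ord_conj]; exact even_of_invol hx1 hx2)]
      refine Subgroup.mem_centralizer_singleton_iff.2 ?_
      have h1 : y * x = x * y := by
        rw [hx, hy, ← map_mul, ← map_mul]; simp
      rw [show g * y * g⁻¹ * (g * x * g⁻¹) = g * (y * x) * g⁻¹ by group, h1]
      group
    have h2 := hsq _ hyH
    rw [show g * y * g⁻¹ * (g * y * g⁻¹) = g * (y * y) * g⁻¹ by group, conj_eq_one_iff, hy,
      ← map_mul] at h2
    have h3 : w * w = 1 := congrArg Prod.snd (e.symm.injective (h2.trans (map_one e.symm).symm))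
    by_contra hw
    exact (Nat.not_even_iff_odd.2 hodd)
      (even_iff_two_dvd.2 ((even_of_invol' hw h3) ▸ orderOf_dvd_natCard w))
  haveI : Unique A := ⟨⟨1⟩, hA1⟩
  let e1 : G ≃* Matrix.SpecialLinearGroup (Fin 2) F := e.trans MulEquiv.prodUnique
  obtain ⟨e2⟩ := exists_sl_iso (F := F)
  have hns' : ¬ Group.IsSolvable (Matrix.SpecialLinearGroup (Fin 2) F) := fun h => hns
    (Group.isSolvable_of_surjective (f := e1.symm.toMonoidHom) e1.symm.surjective)
  exact ⟨⊥, inferInstance, Or.inl (by simp), F, iF, iFt, three_lt_card hns',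
    Or.inl ⟨(QuotientGroup.quotientBot).trans (e1.trans e2)⟩⟩

/-- The branch where the involutions of `A` form a subgroup of order at least four. -/
theorem rank_two_case (H A : Subgroup G) (hAH : A < H)
    (hab : ∀ x ∈ A, ∀ y ∈ A, Commute x y) (hout : ∀ x ∈ H, x ∉ A → x * x = 1)
    (htwo : ∀ x ∈ H, ∀ y ∈ H, x ∉ A → y ∉ A → x * y ∈ A) (hnexp : ¬ ∀ x ∈ H, x * x = 1)
    (hrank : ∃ a ∈ A, ∃ b ∈ A, orderOf a = 2 ∧ orderOf b = 2 ∧ a ≠ b)
    (hC : ∀ j ∈ A, orderOf j = 2 → Subgroup.centralizer ({j} : Set G) = H)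
    (hns : ¬ Group.IsSolvable G) :
    ∃ (N : Subgroup G) (_ : N.Normal), (Odd (Nat.card ↥N) ∨ ∃ m : ℕ, Odd m ∧ Nat.card ↥N = 2 * m) ∧
      ∃ (F : Type) (_ : Field F) (_ : Fintype F), 3 < Fintype.card F ∧
        (Nonempty (G ⧸ N ≃* Matrix.ProjectiveSpecialLinearGroup (Fin 2) F) ∨
          Nonempty (G ⧸ N ≃* Matrix.ProjGenLinGroup (Fin 2) F)) := by
  classical
  haveI : Fact (Nat.Prime 2) := ⟨Nat.prime_two⟩
  obtain ⟨a₁, ha₁, b₁, hb₁, hoa, hob, hne₁⟩ := hrank
  have ho : ∀ {x : G}, orderOf x = 2 → x ≠ 1 ∧ x * x = 1 := fun {x} h =>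
    ⟨fun e => by rw [e, orderOf_one] at h; omega, by rw [← pow_two, ← h, pow_orderOf_eq_one]⟩
  obtain ⟨z, hzH, hzsq⟩ : ∃ z ∈ H, z * z ≠ 1 := by
    by_contra h; push Not at h; exact hnexp h
  have hzA : z ∈ A := by by_contra h; exact hzsq (hout z hzH h)
  have hAle : A ≤ H := hAH.le
  -- outside elements invert A
  have hinv : ∀ x ∈ H, x ∉ A → ∀ y ∈ A, x * y * x⁻¹ = y⁻¹ := by
    intro x hx hxA y hy
    have hxy : x * y ∉ A := fun h => hxA (by simpa using A.mul_mem h (A.inv_mem hy))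
    have h1 := hout (x * y) (H.mul_mem hx (hAle hy)) hxy
    rw [inv_eq_of_mul_eq_one_right (hout x hx hxA)]
    refine eq_inv_of_mul_eq_one_left ?_
    rw [mul_assoc]; exact h1
  -- (1) the normaliser of H normalises A
  have hNA : ∀ g : G, (∀ x ∈ H, g * x * g⁻¹ ∈ H) → ∀ y ∈ A, g * y * g⁻¹ ∈ A := by
    intro g hg
    have key : ∀ y ∈ A, y * y ≠ 1 → g * y * g⁻¹ ∈ A := by
      intro y hy hy2
      by_contra h
      have h1 := hout _ (hg y (hAle hy)) h
      rw [show g * y * g⁻¹ * (g * y * g⁻¹) = g * (y * y) * g⁻¹ by group, conj_eq_one_iff] at h1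
      exact hy2 h1
    intro y hy
    by_cases hy2 : y * y = 1
    · have hzy : (z * y) * (z * y) ≠ 1 := by
        rw [show z * y * (z * y) = z * (y * z) * y by group, (hab y hy z hzA).eq,
          show z * (z * y) * y = (z * z) * (y * y) by group, hy2, mul_one]
        exact hzsq
      have := A.mul_mem (A.inv_mem (key z hzA hzsq)) (key (z * y) (A.mul_mem hzA hy) hzy)
      rwa [show (g * z * g⁻¹)⁻¹ * (g * (z * y) * g⁻¹) = g * y * g⁻¹ by group] at this
    · exact key y hy hy2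
  let W : Subgroup G :=
    { carrier := {x | x ∈ A ∧ x * x = 1}
      one_mem' := ⟨A.one_mem, mul_one 1⟩
      inv_mem' := fun {x} hx => ⟨A.inv_mem hx.1, by rw [← mul_inv_rev, hx.2, inv_one]⟩
      mul_mem' := by
        rintro x y ⟨hx, hx2⟩ ⟨hy, hy2⟩
        refine ⟨A.mul_mem hx hy, ?_⟩
        rw [show x * y * (x * y) = x * (y * x) * y by group, (hab y hy x hx).eq,
          show x * (x * y) * y = (x * x) * (y * y) by group, hx2, hy2, mul_one] }
  have hWA : ∀ {x}, x ∈ W → x ∈ A := fun {x} h => h.1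
  have hW2 : ∀ {x}, x ∈ W → x * x = 1 := fun {x} h => h.2
  have hCW : ∀ {w}, w ∈ W → w ≠ 1 → Subgroup.centralizer ({w} : Set G) = H := fun {w} hw hw1 =>
    hC w (hWA hw) (even_of_invol hw1 (hW2 hw))
  have haW : a₁ ∈ W := ⟨ha₁, (ho hoa).2⟩
  have hbW : b₁ ∈ W := ⟨hb₁, (ho hob).2⟩
  -- W is centralised by H
  have hWcen : ∀ {w}, w ∈ W → ∀ x ∈ H, x * w = w * x := by
    intro w hw x hx
    by_cases hw1 : w = 1
    · rw [hw1, mul_one, one_mul]
    · exact Subgroup.mem_centralizer_singleton_iff.1 ((hCW hw hw1).symm ▸ hx)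
  -- a conjugate of W inside H meets W
  have hmeet : ∀ g : G, (∀ w ∈ W, g * w * g⁻¹ ∈ H) → ∀ x ∈ H, g * x * g⁻¹ ∈ H := by
    intro g hg
    obtain ⟨w, hw, hw1, hgw⟩ : ∃ w ∈ W, w ≠ 1 ∧ g * w * g⁻¹ ∈ A := by
      by_cases h1 : g * a₁ * g⁻¹ ∈ A
      · exact ⟨a₁, haW, (ho hoa).1, h1⟩
      by_cases h2 : g * b₁ * g⁻¹ ∈ A
      · exact ⟨b₁, hbW, (ho hob).1, h2⟩
      refine ⟨a₁ * b₁, W.mul_mem haW hbW, fun h => hne₁ ?_, ?_⟩
      · rw [mul_eq_one_iff_eq_inv.1 h, inv_eq_of_mul_eq_one_right (ho hob).2]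
      · have := htwo _ (hg a₁ haW) _ (hg b₁ hbW) h1 h2
        rwa [show g * a₁ * g⁻¹ * (g * b₁ * g⁻¹) = g * (a₁ * b₁) * g⁻¹ by group] at this
    have hgW : g * w * g⁻¹ ∈ W := ⟨hgw, by
      rw [show g * w * g⁻¹ * (g * w * g⁻¹) = g * (w * w) * g⁻¹ by group, hW2 hw]; group⟩
    intro x hx
    rw [← hCW hgW (fun h => hw1 (conj_eq_one_iff.1 h))]
    refine Subgroup.mem_centralizer_singleton_iff.2 ?_
    rw [show g * x * g⁻¹ * (g * w * g⁻¹) = g * (x * w) * g⁻¹ by group, hWcen hw x hx]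
    group
  -- (2) a Sylow 2-subgroup of H is one of G
  obtain ⟨T⟩ : Nonempty (Sylow 2 H) := inferInstance
  set S₀ : Subgroup G := (T : Subgroup H).map H.subtype with hS₀
  have hS₀H : S₀ ≤ H := Subgroup.map_subtype_le _
  have hS₀p : IsPGroup 2 S₀ := T.2.map _
  have hS₀max : ∀ P : Subgroup G, IsPGroup 2 P → P ≤ H → S₀ ≤ P → P = S₀ := by
    intro P hP hPH hle
    have h1 : (T : Subgroup H) ≤ P.subgroupOf H := fun x hx => hle (Subgroup.mem_map_of_mem _ hx)
    have h2 := T.3 (hP.comap_of_injective H.subtype Subtype.val_injective) h1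
    exact le_antisymm (fun x hx => ⟨⟨x, hPH hx⟩, h2.le (show (⟨x, hPH hx⟩ : H) ∈ P.subgroupOf H from hx),
      rfl⟩) hle
  have hWp : IsPGroup 2 W := fun x => ⟨1, Subtype.ext (by rw [pow_one, pow_two]; exact hW2 x.2)⟩
  have hWn : (W.subgroupOf H).Normal := ⟨fun w hw x => by
    show (x : G) * w * (x : G)⁻¹ ∈ W
    rw [hWcen (w := (w : G)) hw (x : G) x.2, mul_inv_cancel_right]; exact hw⟩
  have hWS : W ≤ S₀ := by
    intro w hw
    have h1 : W.subgroupOf H ≤ (T : Subgroup H) := by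
      haveI : (W.comap H.subtype).Normal := hWn
      exact (hWp.comap_of_injective H.subtype Subtype.val_injective).le_sylow_of_normal T
    exact ⟨⟨w, hAle (hWA hw)⟩, h1 hw, rfl⟩
  obtain ⟨S, hS₀S⟩ := hS₀p.exists_le_sylow
  have hS : (S : Subgroup G) = S₀ := by
    by_contra hne
    have hlt : S₀.subgroupOf (S : Subgroup G) < ⊤ :=
      lt_top_iff_ne_top.2 fun h => hne (le_antisymm (Subgroup.subgroupOf_eq_top.1 h) hS₀S)
    haveI : Group.IsNilpotent ↥(S : Subgroup G) := S.2.isNilpotent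
    obtain ⟨x, hxn, hx0⟩ := SetLike.exists_of_lt (normalizerCondition_of_isNilpotent _ hlt)
    have hxS₀ : ∀ y ∈ S₀, (x : G) * y * (x : G)⁻¹ ∈ S₀ := fun y hy =>
      (Subgroup.mem_normalizer_iff.1 hxn ⟨y, hS₀S hy⟩).1 hy
    have hxH := hmeet x fun w hw => hS₀H (hxS₀ w (hWS hw))
    have hxW : ∀ w ∈ W, (x : G) * w * (x : G)⁻¹ ∈ W := fun w hw => ⟨hNA x hxH w (hWA hw), by
      rw [show (x : G) * w * (x : G)⁻¹ * (x * w * (x : G)⁻¹) = x * (w * w) * (x : G)⁻¹ by group, hW2 hw]
      group⟩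
    let f : Function.End W := fun w => ⟨_, hxW w w.2⟩
    have hpow : ∀ (k : ℕ) (w : W), ((f ^ k) w : G) = (x : G) ^ k * w * ((x : G) ^ k)⁻¹ := by
      intro k
      induction k with
      | zero => intro w; simp [Function.End.one_def]
      | succ k ih =>
        intro w
        rw [pow_succ f]
        show ((f ^ k) (f w) : G) = _
        rw [ih, pow_succ]
        show (x : G) ^ k * ((x : G) * w * (x : G)⁻¹) * ((x : G) ^ k)⁻¹ = _
        group
    obtain ⟨k, hk⟩ := S.2 x
    have hf : f ^ 2 ^ k = 1 := funext fun w => Subtype.ext (by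
      rw [hpow, show (x : G) ^ 2 ^ k = 1 from congrArg Subtype.val hk]; simp; rfl)
    haveI := Fintype.ofFinite W
    have hmod := Equiv.Perm.card_fixedPoints_modEq hf
    have hWev : 2 ∣ Fintype.card W := by
      rw [← Nat.card_eq_fintype_card]; exact two_dvd_of_invol haW hoa
    obtain ⟨w, hw1, hfw⟩ : ∃ w : W, w ≠ 1 ∧ f w = w := by
      by_contra h
      push Not at h
      have h1 : Fintype.card (Function.fixedPoints f) = 1 := Fintype.card_eq_one_iff.2
        ⟨⟨1, Subtype.ext (show (x : G) * (1 : W) * (x : G)⁻¹ = (1 : W) by simp)⟩,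
          fun y => Subtype.ext (by by_contra hy; exact h y hy y.2)⟩
      rw [h1] at hmod
      have h2 : Fintype.card W % 2 = 1 % 2 := hmod
      omega
    refine hx0 (show (x : G) ∈ S₀ from ?_)
    have hxH' : (x : G) ∈ H := by
      rw [← hCW w.2 fun h => hw1 (Subtype.ext h)]
      refine Subgroup.mem_centralizer_singleton_iff.2 ?_
      exact mul_inv_eq_iff_eq_mul.1 (congrArg Subtype.val hfw)
    have := hS₀max ((S : Subgroup G) ⊓ H) (S.2.to_le inf_le_left) inf_le_right (le_inf hS₀S hS₀H)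
    exact this ▸ ⟨x.2, hxH'⟩
  -- (3) outside involutions are not fused into A
  have hfus : ∀ v ∈ H, v ∉ A → ∀ g : G, g * v * g⁻¹ ∉ A := by
    intro v hv hvA g hg
    have hv2 := hout v hv hvA
    have hj : g * v * g⁻¹ ∈ W := ⟨hg, by
      rw [show g * v * g⁻¹ * (g * v * g⁻¹) = g * (v * v) * g⁻¹ by group, hv2]; group⟩
    have hj1 : g * v * g⁻¹ ≠ 1 := fun h => hvA ((conj_eq_one_iff.1 h) ▸ A.one_mem)
    have hgH := hmeet g fun w hw => by
      rw [← hCW hj hj1]
      refine Subgroup.mem_centralizer_singleton_iff.2 ?_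
      rw [show g * w * g⁻¹ * (g * v * g⁻¹) = g * (w * v) * g⁻¹ by group, ← hWcen hw v hv]
      group
    -- the inverse also normalises H
    have hgH' : ∀ x ∈ H, g⁻¹ * x * g⁻¹⁻¹ ∈ H := by
      intro x hx
      let φ : H → H := fun y => ⟨_, hgH y y.2⟩
      have hφ : Function.Injective φ := fun y y' h =>
        Subtype.ext (mul_left_cancel (mul_right_cancel (congrArg Subtype.val h)))
      obtain ⟨y, hy⟩ := (Finite.injective_iff_surjective.1 hφ) ⟨x, hx⟩
      have hy' : g * (y : G) * g⁻¹ = x := congrArg Subtype.val hy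
      rw [← hy', show g⁻¹ * (g * (y : G) * g⁻¹) * g⁻¹⁻¹ = y by group]
      exact y.2
    have := hNA g⁻¹ hgH' _ hg
    rw [show g⁻¹ * (g * v * g⁻¹) * g⁻¹⁻¹ = v by group] at this
    exact hvA this
  -- (4) Thompson transfer
  obtain ⟨h₀, hh₀, hh₀A⟩ := SetLike.exists_of_lt hAH
  have hintoS : ∀ v ∈ H, v * v = 1 → ∃ h ∈ H, h * v * h⁻¹ ∈ S₀ := by
    intro v hv hv2
    obtain ⟨g, hg⟩ := exists_conj_mem T (show (⟨v, hv⟩ : H) * ⟨v, hv⟩ = 1 from Subtype.ext hv2)
    exact ⟨g, g.2, ⟨_, hg, rfl⟩⟩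
  have hout' : ∀ v ∈ H, v ∉ A → ∀ h ∈ H, h * v * h⁻¹ ∉ A := fun v hv hvA h _ => hfus v hv hvA h
  have hSA : ((S : Subgroup G) ⊓ A).relIndex (S : Subgroup G) = 2 := by
    obtain ⟨h, hh, hvS⟩ := hintoS h₀ hh₀ (hout h₀ hh₀ hh₀A)
    rw [← hS] at hvS
    have hvA := hout' h₀ hh₀ hh₀A h hh
    refine Subgroup.index_eq_two_iff.2 ⟨⟨_, hvS⟩, fun y => ?_⟩
    have hyH : (y : G) ∈ H := hS₀H (hS ▸ y.2)
    have hvH : h * h₀ * h⁻¹ ∈ H := hS₀H (hS ▸ hvS)
    simp only [Subgroup.mem_subgroupOf, Subgroup.coe_mul, Subgroup.mem_inf]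
    by_cases hy : (y : G) ∈ A
    · refine Or.inr ⟨⟨y.2, hy⟩, fun hc => hvA ?_⟩
      simpa [mul_assoc] using A.mul_mem (A.inv_mem hy) hc.2
    · refine Or.inl ⟨⟨(S : Subgroup G).mul_mem y.2 hvS, htwo _ hyH _ hvH hy hvA⟩, fun hc => hy hc.2⟩
  set K : Subgroup G := ⨅ M ∈ {M : Subgroup G | M.Normal ∧ M.index = 2}, M with hK
  have hKmem : ∀ {x : G}, x ∈ K ↔ ∀ M : Subgroup G, M.Normal ∧ M.index = 2 → x ∈ M := by
    intro x; simp [hK, Subgroup.mem_iInf]
  haveI hKn : K.Normal := ⟨fun x hx g => hKmem.2 fun M hM => hM.1.conj_mem x (hKmem.1 hx M hM) g⟩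
  have hKH : ∀ x ∈ K, x ∈ H → x ∈ A := by
    intro x hxK hxH
    by_contra hxA
    obtain ⟨h, hh, hxS⟩ := hintoS x hxH (hout x hxH hxA)
    have hSodd : Odd (S : Subgroup G).index := Nat.odd_iff.2 (Nat.two_dvd_ne_zero.1 S.not_dvd_index)
    rcases CfsgLib.ThompsonTransfer.thompson_transfer (S : Subgroup G) ((S : Subgroup G) ⊓ A) hSodd hSA
      (show (h * x * h⁻¹) * (h * x * h⁻¹) = 1 by
        rw [show h * x * h⁻¹ * (h * x * h⁻¹) = h * (x * x) * h⁻¹ by group, hout x hxH hxA]; group)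
      with ⟨M, hMn, hMi, hM⟩ | ⟨g, hg⟩
    · exact hM (hMn.conj_mem x (hKmem.1 hxK M ⟨hMn, hMi⟩) h)
    · refine hfus x hxH hxA (g * h) ?_
      have := hg.2
      simpa [mul_assoc] using this
  have hsqK : ∀ x : G, x * x ∈ K := fun x => hKmem.2 fun M hM => Subgroup.mul_self_mem_of_index_two hM.2 x
  have hQsol : Group.IsSolvable (G ⧸ K) := Group.isSolvable_of_comm fun p q => by
    obtain ⟨x, rfl⟩ := QuotientGroup.mk_surjective p
    obtain ⟨y, rfl⟩ := QuotientGroup.mk_surjective q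
    have hone : ∀ z : G, (z : G ⧸ K)⁻¹ = z := fun z =>
      inv_eq_of_mul_eq_one_right (by
        rw [← QuotientGroup.mk_mul]; exact (QuotientGroup.eq_one_iff _).2 (hsqK z))
    have := hone (x * y)
    rw [QuotientGroup.mk_mul, mul_inv_rev, hone, hone] at this
    exact this.symm
  have hKns : ¬ Group.IsSolvable K := fun h => hns (solvable_of_ext K h hQsol)
  have hKeven : Even (Nat.card K) :=
    Nat.not_odd_iff_even.1 fun h => hKns (solvable_of_odd h)
  have hinvK : ∀ y : G, y ∈ K → y * y = 1 → y ≠ 1 → ∃ g : G, g * y * g⁻¹ ∈ W := by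
    intro y hy hy2 hy1
    obtain ⟨g, hg⟩ := exists_conj_mem S hy2
    rw [hS] at hg
    exact ⟨g, hKH _ (hKn.conj_mem y hy g) (hS₀H hg), by
      rw [show g * y * g⁻¹ * (g * y * g⁻¹) = g * (y * y) * g⁻¹ by group, hy2]; group⟩
  have habK : ∀ y : K, orderOf y = 2 → IsMulCommutative ↥(Subgroup.centralizer ({y} : Set K)) := by
    intro y hy
    obtain ⟨hy1, hy2⟩ : (y : G) ≠ 1 ∧ (y : G) * y = 1 := ho (by rw [orderOf_submonoid]; exact hy)
    obtain ⟨g, hg⟩ := hinvK y y.2 hy2 hy1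
    refine ⟨⟨fun p q => Subtype.ext (Subtype.ext ?_)⟩⟩
    have hm : ∀ p : ↥(Subgroup.centralizer ({y} : Set K)), g * ((p : K) : G) * g⁻¹ ∈ A := by
      intro p
      refine hKH _ (hKn.conj_mem _ (p : K).2 g) ?_
      rw [← hCW hg fun h => hy1 (conj_eq_one_iff.1 h)]
      refine Subgroup.mem_centralizer_singleton_iff.2 ?_
      have hp : ((p : K) : G) * y = y * (p : K) :=
        congrArg Subtype.val (Subgroup.mem_centralizer_singleton_iff.1 p.2)
      rw [show g * ((p : K) : G) * g⁻¹ * (g * (y : G) * g⁻¹) = g * (((p : K) : G) * y) * g⁻¹ by group,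
        hp]
      group
    have h1 := (hab _ (hm p) _ (hm q)).eq
    show ((p : K) : G) * (q : K) = (q : K) * (p : K)
    calc ((p : K) : G) * (q : K)
        = g⁻¹ * ((g * (p : K) * g⁻¹) * (g * (q : K) * g⁻¹)) * g := by group
      _ = g⁻¹ * ((g * (q : K) * g⁻¹) * (g * (p : K) * g⁻¹)) * g := by rw [h1]
      _ = _ := by group
  obtain ⟨SK⟩ : Nonempty (Sylow 2 K) := inferInstance
  rcases Cfsg.Agent.S2202.result hKeven habK with hc | hn |
    ⟨F, iF, iFt, O, iO, iOf, hchar, hodd, ⟨e⟩⟩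
  · exact absurd (solvable_of_cyclic_sylow SK (hc SK)) hKns
  · exact absurd (solvable_of_normal_sylow SK (hn SK)) hKns
  haveI := hchar
  let ι : Matrix.SpecialLinearGroup (Fin 2) F →* G :=
    K.subtype.comp (e.symm.toMonoidHom.comp (MonoidHom.inl _ O))
  have hιK : ∀ x, ι x ∈ K := fun x => (e.symm (x, 1)).2
  have hι : Function.Injective ι := fun x y h =>
    congrArg Prod.fst (e.symm.injective (Subtype.ext h))
  set L : Subgroup G := ι.range with hL
  have hLinv : ∀ y : G, y ∈ K → y * y = 1 → y ∈ L := by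
    intro y hy hy2
    have h1 : e ⟨y, hy⟩ * e ⟨y, hy⟩ = 1 := by
      rw [← map_mul]; exact (congrArg e (Subtype.ext hy2)).trans (map_one e)
    have h2 : (e ⟨y, hy⟩).2 = 1 := by
      by_contra hw
      exact (Nat.not_even_iff_odd.2 hodd) (even_iff_two_dvd.2
        ((even_of_invol' hw (congrArg Prod.snd h1)) ▸ orderOf_dvd_natCard _))
    refine ⟨(e ⟨y, hy⟩).1, ?_⟩
    show (e.symm ((e ⟨y, hy⟩).1, 1) : G) = y
    rw [← h2, Prod.mk.eta, MulEquiv.symm_apply_apply]
  have hLn : L.Normal := by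
    refine ⟨fun x hx g => ?_⟩
    obtain ⟨x, rfl⟩ := hx
    let c : Matrix.SpecialLinearGroup (Fin 2) F →* G := (MulAut.conj g).toMonoidHom.comp ι
    refine range_le_of_invol c L (fun w hw => hLinv _ (hKn.conj_mem _ (hιK w) g) ?_) ⟨x, rfl⟩
    show c w * c w = 1
    rw [← map_mul, hw, map_one]
  haveI := hLn
  set N : Subgroup G := Subgroup.centralizer (L : Set G) with hN
  have hNn : N.Normal := by rw [hN]; infer_instance
  -- the odd factor centralises L
  have hKLN : K ≤ L ⊔ N := by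
    intro x hx
    obtain ⟨p, hp⟩ : ∃ p, e ⟨x, hx⟩ = p := ⟨_, rfl⟩
    have h1 : x = ι p.1 * (e.symm (1, p.2) : G) := by
      show x = ((e.symm (p.1, 1) : K) : G) * (e.symm (1, p.2) : G)
      rw [← Subgroup.coe_mul, ← map_mul, Prod.mk_mul_mk, mul_one, one_mul, Prod.mk.eta, ← hp,
        MulEquiv.symm_apply_apply]
    rw [h1]
    refine Subgroup.mul_mem_sup ⟨p.1, rfl⟩ (Subgroup.mem_centralizer_iff.2 ?_)
    rintro _ ⟨w, rfl⟩
    show ((e.symm (w, 1) : K) : G) * (e.symm (1, p.2) : G) = (e.symm (1, p.2) : G) * (e.symm (w, 1) : G)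
    rw [← Subgroup.coe_mul, ← Subgroup.coe_mul, ← map_mul, ← map_mul]
    simp
  -- a conjugate of the unipotent group lies in W
  have hUp : IsPGroup 2 ↥(Subgroup.closure (Set.range fun x : F => ι (up x))) := by
    have hcl : ∀ y ∈ Subgroup.closure (Set.range fun x : F => ι (up x)), ∃ x, ι (up x) = y := by
      intro y hy
      induction hy using Subgroup.closure_induction with
      | mem y hy => exact hy
      | one => exact ⟨0, by rw [up_zero, map_one]⟩
      | mul y y' _ _ h h' =>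
        obtain ⟨x, rfl⟩ := h; obtain ⟨x', rfl⟩ := h'
        exact ⟨x + x', by rw [up_add, map_mul]⟩
      | inv y _ h =>
        obtain ⟨x, rfl⟩ := h
        exact ⟨x, by rw [← map_inv, inv_eq_of_mul_eq_one_right (up_sq x)]⟩
    intro y
    obtain ⟨x, hx⟩ := hcl y y.2
    refine ⟨1, Subtype.ext ?_⟩
    show (y : G) ^ 2 ^ 1 = 1
    rw [← hx, pow_one, pow_two, ← map_mul, up_sq, map_one]
  obtain ⟨S', hS'⟩ := hUp.exists_le_sylow
  obtain ⟨g, hg⟩ := MulAction.exists_smul_eq G S' S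
  have hUW : ∀ x : F, g * ι (up x) * g⁻¹ ∈ W := by
    intro x
    have h1 : g * ι (up x) * g⁻¹ ∈ (S : Subgroup G) := by
      rw [← hg, Sylow.coe_subgroup_smul]
      exact Subgroup.mem_pointwise_smul_iff_inv_smul_mem.2 (by
        simpa [MulAut.smul_def, mul_assoc] using hS' (Subgroup.subset_closure ⟨x, rfl⟩))
    rw [hS] at h1
    refine ⟨hKH _ (hKn.conj_mem _ (hιK _) g) (hS₀H h1), ?_⟩
    rw [show g * ι (up x) * g⁻¹ * (g * ι (up x) * g⁻¹) = g * (ι (up x) * ι (up x)) * g⁻¹ by group,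
      ← map_mul, up_sq, map_one]
    group
  have hcenU : ∀ s ∈ S₀, ∀ x : F, g⁻¹ * s * g * ι (up x) = ι (up x) * (g⁻¹ * s * g) := by
    intro s hs x
    have h := hWcen (hUW x) s (hS₀H hs)
    calc g⁻¹ * s * g * ι (up x) = g⁻¹ * (s * (g * ι (up x) * g⁻¹)) * g := by group
      _ = g⁻¹ * ((g * ι (up x) * g⁻¹) * s) * g := by rw [h]
      _ = _ := by group
  -- every such element is inner on L
  have hinner : ∀ s : G, (∀ x : F, s * ι (up x) = ι (up x) * s) → s ∈ L ⊔ N := by
    intro s hs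
    have hmem : ∀ w, ∃ w', ι w' = s * ι w * s⁻¹ := fun w => hLn.conj_mem _ ⟨w, rfl⟩ s
    choose f hf using hmem
    let f' : Matrix.SpecialLinearGroup (Fin 2) F →* Matrix.SpecialLinearGroup (Fin 2) F :=
      MonoidHom.mk' f fun w w' => hι (by rw [map_mul, hf, hf, hf, map_mul]; group)
    have hf' : Function.Bijective f' := by
      haveI : Finite (Matrix.SpecialLinearGroup (Fin 2) F) := Finite.of_injective ι hι
      refine Finite.injective_iff_bijective.1 fun w w' h => hι ?_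
      have := congrArg ι (show f w = f w' from h)
      rw [hf, hf] at this
      exact mul_left_cancel (mul_right_cancel this)
    obtain ⟨d, hd⟩ := aut_inner (MulEquiv.ofBijective f' hf') fun x => hι (by
      show ι (f (up x)) = ι (up x)
      rw [hf, hs, mul_inv_cancel_right])
    have hd' : ∀ w, s * ι w * s⁻¹ = ι (up d) * ι w * ι (up d) := fun w => by
      rw [← hf, ← map_mul, ← map_mul]; exact congrArg ι (hd w)
    have hdd : ι (up d) * ι (up d) = 1 := by rw [← map_mul, up_sq, map_one]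
    rw [show s = ι (up d) * (ι (up d) * s) by rw [← mul_assoc, hdd, one_mul]]
    refine Subgroup.mul_mem_sup ⟨_, rfl⟩ (Subgroup.mem_centralizer_iff.2 ?_)
    rintro _ ⟨w, rfl⟩
    calc ι w * (ι (up d) * s) = (ι (up d) * ι (up d)) * ι w * (ι (up d) * s) := by
          rw [hdd, one_mul]
      _ = ι (up d) * (ι (up d) * ι w * ι (up d)) * s := by group
      _ = ι (up d) * (s * ι w * s⁻¹) * s := by rw [hd' w]
      _ = _ := by group
  have htop : L ⊔ N = ⊤ := by
    haveI : (L ⊔ N).Normal := inferInstance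
    have hS₀LN : (S : Subgroup G) ≤ L ⊔ N := by
      intro s hs
      rw [hS] at hs
      have := (inferInstance : (L ⊔ N).Normal).conj_mem _ (hinner _ (hcenU s hs)) g
      rwa [show g * (g⁻¹ * s * g) * g⁻¹ = s by group] at this
    refine Subgroup.index_eq_one.1 (Nat.eq_one_of_dvd_coprimes (a := K.index) (b := (S : Subgroup G).index)
      ?_ (Subgroup.index_dvd_of_le hKLN) (Subgroup.index_dvd_of_le hS₀LN))
    have hp : IsPGroup 2 (G ⧸ K) := by
      intro q
      obtain ⟨x, rfl⟩ := QuotientGroup.mk_surjective q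
      exact ⟨1, by rw [pow_one, pow_two, ← QuotientGroup.mk_mul]; exact (QuotientGroup.eq_one_iff _).2 (hsqK x)⟩
    obtain ⟨n, hn⟩ := IsPGroup.iff_card.1 hp
    rw [Subgroup.index_eq_card, hn]
    exact (Nat.coprime_two_left.2 (Nat.odd_iff.2 (Nat.two_dvd_ne_zero.1 S.not_dvd_index))).pow_left n
  -- the size of N
  have hNH : N ≤ H := by
    intro x hx
    have h1 : g * ι (up 1) * g⁻¹ ≠ 1 := fun h => up_ne (1 : F) one_ne_zero
      (hι ((conj_eq_one_iff.1 h).trans (map_one ι).symm))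
    rw [← hCW (hUW 1) h1]
    refine Subgroup.mem_centralizer_singleton_iff.2 ?_
    exact ((Subgroup.mem_centralizer_iff.1 hx) _ (hLn.conj_mem _ ⟨up 1, rfl⟩ g)).symm
  have hNA1 : Odd (Nat.card ↥(N ⊓ A)) := by
    by_contra h
    rw [Nat.not_odd_iff_even, even_iff_two_dvd] at h
    obtain ⟨w, hw⟩ := exists_prime_orderOf_dvd_card' 2 h
    obtain ⟨hw1, hw2⟩ : (w : G) ≠ 1 ∧ (w : G) * w = 1 := ho (by rw [orderOf_submonoid]; exact hw)
    have hwW : (w : G) ∈ W := ⟨w.2.2, hw2⟩
    have hLA : ∀ p, ι p ∈ A := fun p => hKH _ (hιK p) (by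
      rw [← hCW hwW hw1]
      exact Subgroup.mem_centralizer_singleton_iff.2 ((Subgroup.mem_centralizer_iff.1 w.2.1) _ ⟨p, rfl⟩))
    refine hKns ?_
    haveI : Group.IsSolvable (Matrix.SpecialLinearGroup (Fin 2) F) := Group.isSolvable_of_comm
      fun p q => hι (by rw [map_mul, map_mul, (hab _ (hLA p) _ (hLA q)).eq])
    haveI : Group.IsSolvable O := inferInstance
    haveI : Group.IsSolvable (Matrix.SpecialLinearGroup (Fin 2) F × O) := inferInstance
    exact Group.isSolvable_of_surjective (f := e.symm.toMonoidHom) e.symm.surjective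
  have hNcard : Odd (Nat.card N) ∨ ∃ m : ℕ, Odd m ∧ Nat.card N = 2 * m := by
    by_cases hle : N ≤ A
    · rw [← inf_eq_left.2 hle]; exact Or.inl hNA1
    obtain ⟨x, hx, hxA⟩ := SetLike.not_le_iff_exists.1 hle
    right
    refine ⟨Nat.card ↥(N ⊓ A), hNA1, ?_⟩
    have h2 : ((N ⊓ A).subgroupOf N).index = 2 := by
      refine Subgroup.index_eq_two_iff.2 ⟨⟨x, hx⟩, fun y => ?_⟩
      simp only [Subgroup.mem_subgroupOf, Subgroup.coe_mul, Subgroup.mem_inf]
      by_cases hy : (y : G) ∈ A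
      · refine Or.inr ⟨⟨y.2, hy⟩, fun hc => hxA ?_⟩
        simpa [mul_assoc] using A.mul_mem (A.inv_mem hy) hc.2
      · exact Or.inl ⟨⟨N.mul_mem y.2 hx, htwo _ (hNH y.2) _ (hNH hx) hy hxA⟩, fun hc => hy hc.2⟩
    rw [← Subgroup.card_mul_index ((N ⊓ A).subgroupOf N), h2,
      Nat.card_congr (Subgroup.subgroupOfEquivOfLe inf_le_left).toEquiv, mul_comm]
  -- the quotient
  haveI := hNn
  let π : Matrix.SpecialLinearGroup (Fin 2) F →* G ⧸ N := (QuotientGroup.mk' N).comp ι
  have hπ : Function.Bijective π := by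
    constructor
    · refine (MonoidHom.ker_eq_bot_iff π).1 (eq_bot_iff.2 fun p hp => ?_)
      have hp' : ι p ∈ N := (QuotientGroup.eq_one_iff _).1 hp
      rw [← center_eq_bot (F := F), Subgroup.mem_center_iff]
      intro w
      exact hι (by rw [map_mul, map_mul]; exact Subgroup.mem_centralizer_iff.1 hp' _ ⟨w, rfl⟩)
    · intro q
      obtain ⟨x, rfl⟩ := QuotientGroup.mk_surjective q
      have hx : x ∈ L ⊔ N := htop ▸ Subgroup.mem_top x
      obtain ⟨l, hl, n, hn, rfl⟩ := Subgroup.mem_sup_of_normal_right.1 hx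
      obtain ⟨p, rfl⟩ := hl
      refine ⟨p, ?_⟩
      show ((ι p : G) : G ⧸ N) = ((ι p * n : G) : G ⧸ N)
      rw [QuotientGroup.mk_mul, (QuotientGroup.eq_one_iff n).2 hn, mul_one]
  obtain ⟨e2⟩ := exists_sl_iso (F := F)
  have hns' : ¬ Group.IsSolvable (Matrix.SpecialLinearGroup (Fin 2) F) := by
    intro h
    refine hKns ?_
    haveI : Group.IsSolvable O := inferInstance
    exact Group.isSolvable_of_surjective (f := e.symm.toMonoidHom) e.symm.surjective
  exact ⟨N, hNn, hNcard, F, iF, iFt, three_lt_card hns',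
    Or.inl ⟨(MulEquiv.ofBijective π hπ).symm.trans e2⟩⟩

end CfsgLib.DGroup

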