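import Cfsg.Agent.DGroup.Four
import Cfsg.Agent.DGroup.Fusion

/-!
# Square roots of involutions and fusion in a four group
-/

set_option autoImplicit false
set_option linter.style.haveILetI false
set_option linter.unusedSectionVars false

namespace CfsgLib.DGroup

open Subgroup
open CfsgLib.NormCyclic (Inv)

universe u

variable {G : Type u} [Group G]

/-- `v` is a square. -/
def HasRoot (v : G) : Prop := ∃ e : G, e * e = v

theorem HasRoot.conj {v : G} (h : HasRoot v) (g : G) : HasRoot (g * v * g⁻¹) := by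
  obtain ⟨e, rfl⟩ := h; exact ⟨g * e * g⁻¹, conj_mul⟩

theorem hasRoot_conj_iff {v : G} (g : G) : HasRoot (g * v * g⁻¹) ↔ HasRoot v :=
  ⟨fun h => by simpa [mul_assoc] using h.conj g⁻¹, fun h => h.conj g⟩

/-- `a` is conjugate to `b`. -/
def Fused (a b : G) : Prop := ∃ g : G, g * a * g⁻¹ = b

theorem Fused.refl (a : G) : Fused a a := ⟨1, by group⟩

theorem Fused.symm {a b : G} : Fused a b → Fused b a := by
  rintro ⟨g, rfl⟩; exact ⟨g⁻¹, by group⟩

theorem Fused.trans {a b c : G} : Fused a b → Fused b c → Fused a c := by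
  rintro ⟨g, rfl⟩ ⟨h, rfl⟩; exact ⟨h * g, by group⟩

theorem Fused.hasRoot {a b : G} (h : Fused a b) (ha : HasRoot a) : HasRoot b := by
  obtain ⟨g, rfl⟩ := h; exact ha.conj g

theorem Fused.inv {a b : G} (h : Fused a b) (ha : Inv a) : Inv b := by
  obtain ⟨g, rfl⟩ := h; exact ha.conj g

namespace IsBase

variable {t : G} {A : Subgroup G} (hA : IsBase t A)
include hA

theorem conj (g : G) : IsBase (g * t * g⁻¹) (A.map (MulAut.conj g).toMonoidHom) := by
  have hm : ∀ x : G, x ∈ A.map (MulAut.conj g).toMonoidHom ↔ g⁻¹ * x * g ∈ A := fun x => by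
    rw [Subgroup.mem_map_equiv]; simp
  have hc : ∀ x : G, Commute x (g * t * g⁻¹) → Commute (g⁻¹ * x * g) t := fun x h => by
    have := (Commute.conj_iff g⁻¹).2 h
    simpa [mul_assoc] using this
  refine ⟨fun x hx => ?_, (hm _).2 (by simpa [mul_assoc] using hA.mem), fun x hx y hy => ?_,
    fun x hx h1 h2 => ?_, fun x hx hxA => ?_, fun x y hx hy hxA hyA => ?_⟩
  · have := (Commute.conj_iff g).2 (hA.le _ ((hm x).1 hx))
    simpa [mul_assoc] using this
  · have := (Commute.conj_iff g).2 (hA.comm _ ((hm x).1 hx) _ ((hm y).1 hy))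
    simpa [mul_assoc] using this
  · have := hA.invol _ ((hm x).1 hx) (by
      rw [show g⁻¹ * x * g * (g⁻¹ * x * g) = g⁻¹ * (x * x) * g by group, h1]; group)
      (fun e => h2 (by rw [show x = g * (g⁻¹ * x * g) * g⁻¹ by group, e]; group))
    rw [← this]; group
  · have := hA.out _ (hc x hx) (mt (hm x).2 hxA)
    rw [show x * x = g * (g⁻¹ * x * g * (g⁻¹ * x * g)) * g⁻¹ by group, this]; group
  · refine (hm _).2 ?_
    rw [show g⁻¹ * (x * y) * g = g⁻¹ * x * g * (g⁻¹ * y * g) by group]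
    exact hA.two _ _ (hc x hx) (hc y hy) (mt (hm x).2 hxA) (mt (hm y).2 hyA)

theorem root_mem (ht : Inv t) {e : G} (he : e * e = t) : e ∈ A :=
  hA.mem_of_sq_ne (CfsgLib.NormCyclic.inj_of_mul_eq he) (he ▸ ht.2)

/-- A root moves every other involution of the centraliser to its product with `t`. -/
theorem root_conj (ht : Inv t) {e u : G} (he : e * e = t) (hu : Inv u) (hut : Commute u t)
    (hne : u ≠ t) : e * u * e⁻¹ = t * u := by
  have h := hA.inverts hut (hA.not_mem hu hne) (hA.root_mem ht he)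
  calc e * u * e⁻¹ = e * (u * e⁻¹ * u⁻¹) * u := by group
    _ = e * (u * e * u⁻¹)⁻¹ * u := by group
    _ = e * e * u := by rw [h, inv_inv]
    _ = _ := by rw [he]

variable [Finite G]

/-- Without a root, the involutions of the centraliser other than `t` form at most two classes. -/
theorem conj_of_no_root (ht : Inv t) (hno : ¬ HasRoot t) {r u : G} (hr : Inv r)
    (hrt : Commute r t) (hrne : r ≠ t) (hu : Inv u) (hut : Commute u t) (hune : u ≠ t) :
    ∃ c : G, Commute c t ∧ (c * r * c⁻¹ = u ∨ c * r * c⁻¹ = t * u) := by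
  have ha := hA.two r u hrt hut (hA.not_mem hr hrne) (hA.not_mem hu hune)
  -- every element of `A` has order not divisible by four
  have h4 : ∀ a ∈ A, ¬ 4 ∣ orderOf a := by
    rintro a ha ⟨k, hk⟩
    have hk0 : k ≠ 0 := by rintro rfl; rw [mul_zero] at hk; exact (orderOf_pos a).ne' hk
    have ho : orderOf (a ^ k) = 4 := by
      rw [orderOf_pow' _ hk0, hk, Nat.gcd_eq_right (dvd_mul_left k 4),
        Nat.mul_div_cancel _ (Nat.pos_of_ne_zero hk0)]
    refine hno ⟨a ^ k, hA.invol _ (mul_mem (pow_mem ha k) (pow_mem ha k)) ?_ fun e => ?_⟩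
    · rw [← pow_two, ← pow_two, ← pow_mul, orderOf_dvd_iff_pow_eq_one.1 (ho ▸ dvd_rfl)]
    · have := orderOf_dvd_of_pow_eq_one (n := 2) ((pow_two _).trans e)
      rw [ho] at this; exact absurd (Nat.le_of_dvd two_pos this) (by norm_num)
  have key : ∀ s : G, Inv s → Commute s t → Odd (orderOf (r * s)) →
      ∃ c : G, Commute c t ∧ c * r * c⁻¹ = s := by
    intro s hs hst ho
    obtain ⟨d, hd, hds⟩ := CfsgLib.Invol.exists_conj_of_odd hr.orderOf hs.orderOf ho
    refine ⟨d, ?_, hds⟩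
    have hle : closure ({r, s} : Set G) ≤ centralizer ({t} : Set G) := (closure_le _).2 (by
      rintro x (rfl | rfl) <;> exact mem_centralizer_singleton_iff.2 (by first | exact hrt | exact hst))
    exact mem_centralizer_singleton_iff.1 (hle hd)
  by_cases ho : Odd (orderOf (r * u))
  · obtain ⟨c, h1, h2⟩ := key u hu hut ho
    exact ⟨c, h1, Or.inl h2⟩
  obtain ⟨k, hk⟩ := Nat.not_odd_iff_even.1 ho
  have hkodd : Odd k := by
    refine Nat.not_even_iff_odd.1 fun ⟨j, hj⟩ => h4 _ ha ⟨j, by omega⟩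
  have hak : (r * u) ^ k = t := by
    refine hA.invol _ (pow_mem ha k) (by rw [← pow_add, ← hk, pow_orderOf_eq_one]) fun e => ?_
    have := Nat.le_of_dvd hkodd.pos (orderOf_dvd_of_pow_eq_one e)
    have := hkodd.pos
    omega
  have hodd : Odd (orderOf (r * (t * u))) := by
    rw [← mul_assoc, hrt.eq, mul_assoc]
    have hct : Commute t (r * u) := (hrt.mul_left hut).symm
    refine hkodd.of_dvd_nat (orderOf_dvd_of_pow_eq_one ?_)
    rw [hct.mul_pow, hak]
    obtain ⟨j, rfl⟩ := hkodd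
    rw [pow_succ, pow_mul, pow_two, ht.1, one_pow, one_mul, ht.1]
  obtain ⟨c, h1, h2⟩ := key (t * u) (ht.mul hu hut.symm hune.symm)
    ((Commute.refl t).mul_left hut) hodd
  exact ⟨c, h1, Or.inr h2⟩

/-- An element of the centraliser moving `r` to another involution `s` of a four group through
`t` gives a root of `t`. -/
theorem hasRoot_of_swap (_ht : Inv t) {g r : G} (hr : Inv r) (hrt : Commute r t) (hrne : r ≠ t)
    (hg : Commute g t) (h : g * r * g⁻¹ = t * r) : HasRoot t := by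
  have hrA := hA.not_mem hr hrne
  by_cases hgA : g ∈ A
  · refine ⟨g, ?_⟩
    have h1 := hA.inverts hrt hrA hgA
    rw [hr.inv_eq] at h1
    have h2 : g * r * g⁻¹ = g * g * r := by
      calc g * r * g⁻¹ = g * r * (r * g * r) := by rw [h1]
        _ = g * (r * r) * g * r := by group
        _ = g * g * r := by rw [hr.1, mul_one]
    exact mul_right_cancel (h2.symm.trans h)
  · refine ⟨g * r, ?_⟩
    have hg2 := hA.out g hg hgA
    rw [inv_eq_of_mul_eq_one_right hg2] at h
    calc g * r * (g * r) = (g * r * g) * r := by group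
      _ = t * r * r := by rw [h]
      _ = t := by rw [mul_assoc, hr.1, mul_one]

end IsBase

variable [Finite G]

namespace Four

variable (F : Four G)

/-- A 3-cycle on the four group. -/
def Cycle : Prop := ∃ g : G, g * F.t * g⁻¹ = F.u ∧ g * F.u * g⁻¹ = F.w ∧ g * F.w * g⁻¹ = F.t

theorem Cycle.of_two {g : G} (h1 : g * F.t * g⁻¹ = F.u) (h2 : g * F.u * g⁻¹ = F.w) : F.Cycle :=
  ⟨g, h1, h2, by nth_rw 1 [← F.mul]; rw [← conj_mul, h1, h2, F.mul_uw]⟩

/-- Roots at `t` and `u` give a 3-cycle. -/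
theorem cycle_of_roots {A B : Subgroup G} (hA : IsBase F.t A) (hB : IsBase F.u B)
    (h1 : HasRoot F.t) (h2 : HasRoot F.u) : F.Cycle := by
  obtain ⟨e, he⟩ := h1
  obtain ⟨f, hf⟩ := h2
  have hut : F.u * F.t = F.w := F.htu.eq.symm.trans F.mul
  have a1 : e * F.t * e⁻¹ = F.t := by
    rw [(CfsgLib.NormCyclic.inj_of_mul_eq he).eq, mul_inv_cancel_right]
  have a2 : e * F.u * e⁻¹ = F.w := (hA.root_conj F.ht he F.hu F.htu.symm F.ne.symm).trans F.mul
  have b1 : f * F.u * f⁻¹ = F.u := by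
    rw [(CfsgLib.NormCyclic.inj_of_mul_eq hf).eq, mul_inv_cancel_right]
  have b2 : f * F.t * f⁻¹ = F.w := (hB.root_conj F.hu hf F.ht F.htu F.ne).trans hut
  have b3 : f * F.w * f⁻¹ = F.t := by
    nth_rw 1 [← F.mul]
    rw [← conj_mul, b1, b2, ← F.huw.eq, F.mul_uw]
  have a3 : e * F.w * e⁻¹ = F.u := by
    nth_rw 1 [← F.mul]
    rw [← conj_mul, a1, a2, ← F.mul, ← mul_assoc, F.ht.1, one_mul]
  exact Cycle.of_two F (g := e * f)
    (by rw [show e * f * F.t * (e * f)⁻¹ = e * (f * F.t * f⁻¹) * e⁻¹ by group, b2, a3])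
    (by rw [show e * f * F.u * (e * f)⁻¹ = e * (f * F.u * f⁻¹) * e⁻¹ by group, b1, a2])

/-- Fusion of `t` to `u` gives a 3-cycle when `t` has no root. -/
theorem cycle_of_fused_no_root {A C : Subgroup G} (hA : IsBase F.t A) (hC : IsBase F.w C)
    (hno : ¬ HasRoot F.t) (hnow : ¬ HasRoot F.w) (h : Fused F.t F.u) : F.Cycle := by
  obtain ⟨g, hg⟩ := h
  have hB : IsBase F.u (A.map (MulAut.conj g).toMonoidHom) := hg ▸ hA.conj g
  have hnou : ¬ HasRoot F.u := fun h => hno ((hasRoot_conj_iff g).1 (hg ▸ h))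
  have hI : Inv (g * F.u * g⁻¹) := F.hu.conj g
  have hc : Commute (g * F.u * g⁻¹) F.u := by
    have := (Commute.conj_iff g).2 F.htu.symm
    rwa [hg] at this
  have hne : g * F.u * g⁻¹ ≠ F.u := fun e => F.ne (mul_left_cancel (mul_right_cancel (hg.trans e.symm)))
  obtain ⟨c, hcu, hc'⟩ := hB.conj_of_no_root F.hu hnou hI hc hne F.ht F.htu F.ne
  have h1 : c * g * F.t * (c * g)⁻¹ = F.u := by
    rw [show c * g * F.t * (c * g)⁻¹ = c * (g * F.t * g⁻¹) * c⁻¹ by group, hg, hcu.eq,
      mul_inv_cancel_right]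
  have e : c * g * F.u * (c * g)⁻¹ = c * (g * F.u * g⁻¹) * c⁻¹ := by group
  rcases hc' with h2 | h2
  · -- a transposition of `t` and `u` would give a root of `w`
    exfalso
    rw [← e] at h2
    have hcw : Commute (c * g) F.w := by
      have h3 : c * g * F.w * (c * g)⁻¹ = F.w := by
        nth_rw 1 [← F.mul]
        rw [← conj_mul, h1, h2, ← F.htu.eq, F.mul]
      exact mul_inv_eq_iff_eq_mul.1 h3
    refine hnow (hC.hasRoot_of_swap F.hw F.ht F.htw F.ne_tw hcw ?_)
    rw [h1, ← F.htw.eq, ← F.mul, ← mul_assoc, F.ht.1, one_mul]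
  · exact Cycle.of_two F (g := c * g) h1 (e.trans (h2.trans (F.htu.eq.symm.trans F.mul)))

end Four

end CfsgLib.DGroup
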