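import Cfsg.Agent.DGroup.Four

/-!
# Invariant Sylow subgroups of subgroups of odd order
-/

set_option autoImplicit false
set_option linter.style.haveILetI false
set_option linter.unusedSectionVars false

namespace CfsgLib.DGroup

open Subgroup
open CfsgLib.NormCyclic (Inv)

universe u

variable {G : Type u} [Group G] [Finite G]

namespace Four

variable (F : Four G)

theorem solvable_V : Group.IsSolvable F.V := by
  haveI : Fact (Nat.Prime 2) := ⟨Nat.prime_two⟩
  haveI := F.card_V.isNilpotent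
  infer_instance

theorem centralizer_V_eq (hG : DHyp G) {K : Subgroup G} (hK : Odd (Nat.card K)) {c : G}
    (hc : c ∈ K) (h : c ∈ centralizer (F.V : Set G)) : c = 1 := by
  refine F.eq_one_of_fixed hG (odd_orderOf hK hc) ?_ ?_
  · exact (mem_centralizer_iff.1 h F.t (subset_closure (Or.inl rfl))).symm
  · exact (mem_centralizer_iff.1 h F.u (subset_closure (Or.inr rfl))).symm

/-- The invariant Sylow subgroup contains every invariant `p`-subgroup. -/
theorem exists_syl (hG : DHyp G) {K : Subgroup G} (hK : Odd (Nat.card K)) (hs : F.Stab K) (p : ℕ)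
    [Fact p.Prime] : ∃ P : Subgroup G, P ≤ K ∧ IsPGroup p P ∧ F.Stab P ∧
      Nat.card P = p ^ (Nat.card K).factorization p ∧
      ∀ U : Subgroup G, U ≤ K → IsPGroup p U → F.Stab U → U ≤ P := by
  have hA := F.V_le_normalizer hs
  have hcop := F.coprime_V hK
  have hsol : Group.IsSolvable F.V ∨ Group.IsSolvable K := Or.inl F.solvable_V
  obtain ⟨P, hP⟩ := CfsgLib.CoprimeAct.exists_invariant_sylow hA hcop hsol p
  refine ⟨(P : Subgroup K).map K.subtype, map_subtype_le _, P.2.map _,
    Stab.of_le ⟨subset_closure (Or.inl rfl), subset_closure (Or.inr rfl)⟩ hP, ?_, ?_⟩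
  · rw [card_map_of_injective K.subtype_injective, P.card_eq_multiplicity]
  intro U hUK hU hUs
  obtain ⟨Q, hUQ, hQ⟩ := CfsgLib.CoprimeAct.exists_invariant_sylow_ge hA hcop hsol p hUK hU
    (F.V_le_normalizer hUs)
  obtain ⟨c, hc, hcPQ⟩ := CfsgLib.CoprimeAct.invariant_sylow_conj hA hcop hsol p P Q hP hQ
  obtain rfl : c = 1 := Subtype.ext (F.centralizer_V_eq hG hK c.2 hc)
  rw [map_one, one_smul] at hcPQ
  rw [hcPQ]; exact hUQ

/-- A group containing the pieces of an invariant subgroup of odd order contains it. -/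
theorem le_of_pieces (hG : DHyp G) {K L : Subgroup G} (hK : Odd (Nat.card K)) (hs : F.Stab K)
    (ht : piece K F.t ≤ L) (hu : piece K F.u ≤ L) (hw : piece K F.w ≤ L) : K ≤ L := by
  have hdvd : Nat.card K ∣ Nat.card ↥(K ⊓ L) := by
    refine (Nat.factorization_prime_le_iff_dvd Nat.card_pos.ne' Nat.card_pos.ne').1 fun p hp => ?_
    haveI : Fact p.Prime := ⟨hp⟩
    obtain ⟨P, hPK, hP, hPs, hPc, -⟩ := F.exists_syl hG hK hs p
    have hPL : P ≤ K ⊓ L := le_inf hPK (F.le_of_pieces_p hP (hK.of_dvd_nat (card_dvd_of_le hPK)) hPs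
      ((piece_mono hPK _).trans ht) ((piece_mono hPK _).trans hu) ((piece_mono hPK _).trans hw))
    exact (hp.pow_dvd_iff_le_factorization Nat.card_pos.ne').1 (hPc ▸ card_dvd_of_le hPL)
  exact (CfsgLib.Solvable.eq_of_le_of_card_le inf_le_left (Nat.le_of_dvd Nat.card_pos hdvd)).ge.trans
    inf_le_right

theorem commute_of_pieces (hG : DHyp G) {K : Subgroup G} (hK : Odd (Nat.card K)) (hs : F.Stab K)
    {x : G} (ht : ∀ y ∈ piece K F.t, Commute x y) (hu : ∀ y ∈ piece K F.u, Commute x y)
    (hw : ∀ y ∈ piece K F.w, Commute x y) : ∀ y ∈ K, Commute x y := by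
  have key : ∀ {A : Subgroup G}, (∀ y ∈ A, Commute x y) → A ≤ centralizer ({x} : Set G) := fun h y hy =>
    mem_centralizer_singleton_iff.2 (h y hy).eq.symm
  intro y hy
  exact (mem_centralizer_singleton_iff.1 (F.le_of_pieces hG hK hs (key ht) (key hu) (key hw) hy)).symm

end Four

end CfsgLib.DGroup
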