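import Cfsg.Agent.DGroup.Roots
import Cfsg.Agent.DGroup.Sylow

/-!
# Solvable `DHyp` groups and elementary fusion facts
-/

set_option autoImplicit false
set_option linter.style.haveILetI false
set_option linter.unusedSectionVars false

namespace CfsgLib.DGroup

open Subgroup
open CfsgLib.NormCyclic (Inv)

universe u

variable {G : Type u} [Group G] [Finite G]

omit [Finite G] in
/-- An element of odd order whose square fixes `a` fixes `a`. -/
theorem commute_of_pow_two {y a : G} (hy : Odd (orderOf y)) (h : y * (y * a * y⁻¹) * y⁻¹ = a) :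
    Commute y a := commute_of_sq hy (by
  show y * y * a = a * (y * y)
  conv_rhs => rw [← h]
  group)

/-- A non-central involution is fused to another involution commuting with it. -/
theorem exists_fused_commute (hO : Cfsg.oddCore G = ⊥) {v : G} (hv : Inv v)
    (h : ¬ ∀ g : G, Commute g v) : ∃ g : G, Commute v (g * v * g⁻¹) ∧ g * v * g⁻¹ ≠ v := by
  by_contra hne
  push Not at hne
  exact h (DHyp.central_of_isolated hO hv hne)

/-- If some involution is not conjugate to `t`, one commuting with `t` is not. -/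
theorem exists_not_fused {t x : G} (ht : Inv t) (hx : Inv x) (h : ¬ Fused t x) :
    ∃ u : G, Inv u ∧ Commute u t ∧ ¬ Fused t u := by
  have hconj : ¬ IsConj t x := fun hc => h (by
    obtain ⟨g, hg⟩ := isConj_iff.1 hc; exact ⟨g, hg⟩)
  obtain ⟨y, hy, h1, h2⟩ := CfsgLib.Invol.exists_commuting_invol ht.orderOf hx.orderOf hconj
  have hyI : Inv y := Inv.of_orderOf hy
  by_cases hty : Fused t y
  · obtain ⟨g, rfl⟩ := hty
    refine ⟨g⁻¹ * x * g, by simpa using hx.conj g⁻¹, ?_, fun h' => h (h'.trans ⟨g, by group⟩)⟩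
    have := (Commute.conj_iff g⁻¹).2 h2.symm
    simpa [mul_assoc] using this
  · exact ⟨y, hyI, h1, hty⟩

namespace DHyp

variable (hG : DHyp G)
include hG

/-- The odd elements of the centraliser of an involution. -/
theorem exists_oddPart {v : G} (hv : Inv v) :
    ∃ O : Subgroup G, Odd (Nat.card O) ∧ ∀ y, y ∈ O ↔ OC v y := by
  refine ⟨{ carrier := {y | OC v y}
            one_mem' := ⟨Commute.one_left v, by rw [orderOf_one]; exact odd_one⟩
            mul_mem' := fun h1 h2 => hG.oc_mul hv h1 h2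
            inv_mem' := fun h => ⟨h.1.inv_left, by rw [orderOf_inv]; exact h.2⟩ }, ?_, fun _ => Iff.rfl⟩
  refine Nat.not_even_iff_odd.1 fun he => ?_
  haveI : Fact (Nat.Prime 2) := ⟨Nat.prime_two⟩
  obtain ⟨x, hx⟩ := exists_prime_orderOf_dvd_card' 2 (even_iff_two_dvd.1 he)
  have h2 := (show OC v (x : G) from x.2).2
  rw [Subgroup.orderOf_coe, hx] at h2
  exact absurd h2 (by decide)

/-- In a solvable group with trivial core no element of odd order commutes with an involution. -/
theorem eq_one_of_solvable [Group.IsSolvable G] (hO : Cfsg.oddCore G = ⊥) {v y : G} (hv : Inv v)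
    (hy : OC v y) : y = 1 := by
  by_cases hGt : (⊤ : Subgroup G) = ⊥
  · exact mem_bot.1 (hGt ▸ mem_top y)
  obtain ⟨E, hEn, hE0, -, hEc, -, p, hp, hexp, hpE⟩ :=
    CfsgLib.Solvable.exists_normal_elementary_le (N := (⊤ : Subgroup G)) hGt inferInstance
  haveI := hEn
  haveI : Fact p.Prime := ⟨hp⟩
  have hcomm : ∀ x ∈ E, ∀ y ∈ E, Commute x y := fun x hx y hy =>
    congrArg Subtype.val (hEc.is_comm.comm ⟨x, hx⟩ ⟨y, hy⟩)
  obtain rfl : p = 2 := by
    by_contra h2
    refine hE0 (le_bot_iff.1 (hO ▸ le_oddCore hEn ?_))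
    obtain ⟨k, hk⟩ := IsPGroup.iff_card.1 hpE
    rw [hk]; exact (hp.odd_of_ne_two h2).pow
  obtain ⟨a, haE, ha1⟩ := E.bot_or_exists_ne_one.resolve_left hE0
  have sq : ∀ x ∈ E, x * x = 1 := fun x hx => by rw [← pow_two]; exact hexp x hx
  have haI : Inv a := ⟨sq a haE, ha1⟩
  by_cases hab : ∀ b ∈ E, b = 1 ∨ b = a
  · -- a central involution
    have hc : ∀ g : G, Commute g a := fun g => by
      rcases hab _ (hEn.conj_mem a haE g) with e | e
      · exact absurd (conj_eq_one_iff.1 e) ha1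
      · exact mul_inv_eq_iff_eq_mul.1 e
    obtain ⟨O, hO2, hmem⟩ := hG.exists_oddPart haI
    haveI : O.Normal := ⟨fun x hx g => (hmem _).2 ⟨hc _, by
      rw [CfsgLib.Invol.orderOf_conj_eq]; exact ((hmem x).1 hx).2⟩⟩
    have := le_oddCore inferInstance hO2 ((hmem y).2 ⟨hc y, hy.2⟩)
    rwa [hO, mem_bot] at this
  push Not at hab
  obtain ⟨b, hbE, hb1, hba⟩ := hab
  have hbI : Inv b := ⟨sq b hbE, hb1⟩
  have hE : ∀ c ∈ E, c = 1 ∨ c = a ∨ c = b ∨ c = a * b := fun c hc => or_iff_not_imp_left.2 fun h1 =>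
    hG.no_eight haI hbI ⟨sq c hc, h1⟩ (hcomm a haE b hbE) (hcomm a haE c hc) (hcomm b hbE c hc) hba.symm
  by_contra hy1
  -- `y` fixes no involution of `E`
  have hfix : ∀ c ∈ E, c ≠ 1 → ¬ Commute y c := by
    intro c hc hc1 hyc
    obtain ⟨d, hdE, hd1, hdc⟩ : ∃ d ∈ E, d ≠ 1 ∧ d ≠ c := by
      by_cases h : c = a
      · exact ⟨b, hbE, hb1, h ▸ hba⟩
      · exact ⟨a, haE, ha1, fun e => h e.symm⟩
    have hcI : Inv c := ⟨sq c hc, hc1⟩
    refine hy1 (hG.four_free hcI ⟨sq d hdE, hd1⟩ (hcomm d hdE c hc) hdc hy.2 hyc ?_)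
    -- the action on the other two involutions
    have hd' : y * d * y⁻¹ = d ∨ y * d * y⁻¹ = c * d := by
      have hyd := hEn.conj_mem d hdE y
      rcases hG.no_eight hcI ⟨sq d hdE, hd1⟩ ⟨sq _ hyd, fun e => hd1 (conj_eq_one_iff.1 e)⟩
        (hcomm c hc d hdE) (hcomm c hc _ hyd) (hcomm d hdE _ hyd) hdc.symm with e | e | e
      · exact absurd (mul_left_cancel (mul_right_cancel (e.trans
          (by rw [hyc.eq, mul_inv_cancel_right] : c = y * c * y⁻¹)))) hdc
      · exact Or.inl e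
      · exact Or.inr e
    rcases hd' with e | e
    · exact mul_inv_eq_iff_eq_mul.1 e
    · refine commute_of_pow_two hy.2 ?_
      rw [e, ← conj_mul, hyc.eq, mul_inv_cancel_right, e, ← mul_assoc, sq c hc, one_mul]
  -- `v` commutes with `E`, so lies in it
  have hvE : ∀ c ∈ E, Commute v c := by
    intro c hc
    by_cases hc1 : c = 1
    · rw [hc1]; exact Commute.one_right v
    set d := y * c * y⁻¹
    have hdE : d ∈ E := hEn.conj_mem c hc y
    have hd1 : d ≠ 1 := fun e => hc1 (conj_eq_one_iff.1 e)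
    have hdc : d ≠ c := fun e => hfix c hc hc1 (mul_inv_eq_iff_eq_mul.1 e)
    have hcI : Inv c := ⟨sq c hc, hc1⟩
    have hdI : Inv d := ⟨sq d hdE, hd1⟩
    -- `y` permutes `c`, `d`, `c * d` cyclically
    have hd2 : y * d * y⁻¹ = c * d := by
      have hyd := hEn.conj_mem d hdE y
      rcases hG.no_eight hcI hdI ⟨sq _ hyd, fun e => hd1 (conj_eq_one_iff.1 e)⟩
        (hcomm c hc d hdE) (hcomm c hc _ hyd) (hcomm d hdE _ hyd) hdc.symm with e | e | e
      · exact absurd (commute_of_pow_two hy.2 e) (hfix c hc hc1)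
      · exact absurd (mul_inv_eq_iff_eq_mul.1 e) (hfix d hdE hd1)
      · exact e
    have hvy : ∀ g, v * (y * g * y⁻¹) * v⁻¹ = y * (v * g * v⁻¹) * y⁻¹ := fun g => by
      calc v * (y * g * y⁻¹) * v⁻¹ = (v * y) * g * (v * y)⁻¹ := by group
        _ = (y * v) * g * (y * v)⁻¹ := by rw [hy.1.symm.eq]
        _ = _ := by group
    have hvc := hEn.conj_mem c hc v
    rcases hG.no_eight hcI hdI ⟨sq _ hvc, fun e => hc1 (conj_eq_one_iff.1 e)⟩
      (hcomm c hc d hdE) (hcomm c hc _ hvc) (hcomm d hdE _ hvc) hdc.symm with e | e | e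
    · exact mul_inv_eq_iff_eq_mul.1 e
    · -- `v c v = d`, so `v d v = c d` and `c = v² c v⁻² = c d`
      exfalso
      have e2 : v * d * v⁻¹ = c * d := by
        show v * (y * c * y⁻¹) * v⁻¹ = _
        rw [hvy, e, hd2]
      refine hd1 ((mul_eq_left (a := c)).1 ?_)
      rw [← e2, ← e, show v * (v * c * v⁻¹) * v⁻¹ = v * v * c * (v * v)⁻¹ by group, hv.1]
      group
    · exfalso
      have e2 : v * d * v⁻¹ = c := by
        show v * (y * c * y⁻¹) * v⁻¹ = _
        rw [hvy, e, ← conj_mul, hd2]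
        show d * (c * d) = c
        rw [(hcomm c hc d hdE).eq, ← mul_assoc, sq d hdE, one_mul]
      refine hdc ?_
      calc d = c * d * c := by rw [(hcomm c hc d hdE).eq, mul_assoc, sq c hc, mul_one]
        _ = (v * c * v⁻¹) * (v * d * v⁻¹) := by rw [e, e2]
        _ = v * (v * c * v⁻¹) * v⁻¹ := by rw [conj_mul, ← e]
        _ = v * v * c * (v * v)⁻¹ := by group
        _ = c := by rw [hv.1]; group
  have hvab := hG.no_eight haI hbI hv (hcomm a haE b hbE) (hvE a haE).symm (hvE b hbE).symm hba.symm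
  have hvmem : v ∈ E := by
    rcases hvab with rfl | rfl | rfl
    exacts [haE, hbE, mul_mem haE hbE]
  exact hfix v hvmem hv.2 hy.1

/-- In a group with one class of involutions every four group admits a 3-cycle. -/
theorem cycle (F : Four G) (hone : ∀ a b : G, Inv a → Inv b → Fused a b) : F.Cycle := by
  obtain ⟨A, hA⟩ := hG _ F.ht
  obtain ⟨B, hB⟩ := hG _ F.hu
  obtain ⟨C, hC⟩ := hG _ F.hw
  by_cases hr : HasRoot F.t
  · exact F.cycle_of_roots hA hB hr ((hone _ _ F.ht F.hu).hasRoot hr)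
  · exact F.cycle_of_fused_no_root hA hC hr (fun h => hr ((hone _ _ F.hw F.ht).hasRoot h))
      (hone _ _ F.ht F.hu)

end DHyp

end CfsgLib.DGroup
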