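import Cfsg.Agent.DGroup.Roots
import Cfsg.Agent.DGroup.Small

/-!
# Bases at further involutions from a base at one
-/

set_option autoImplicit false
set_option linter.style.haveILetI false
set_option linter.unusedSectionVars false

namespace CfsgLib.DGroup

open Subgroup
open CfsgLib.NormCyclic (Inv)

universe u

variable {G : Type u} [Group G] [Finite G]

/-- An element of 2-power order normalising a Sylow 2-subgroup lies in it. -/
theorem mem_sylow_of_normalizer (P : Sylow 2 G) {g : G} {k : ℕ} (hg : g ^ 2 ^ k = 1)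
    (hN : g ∈ normalizer ((P : Subgroup G) : Set G)) : g ∈ (P : Subgroup G) := by
  haveI : Fact (Nat.Prime 2) := ⟨Nat.prime_two⟩
  have hp : IsPGroup 2 (zpowers g) := by
    obtain ⟨i, -, hi⟩ := (Nat.dvd_prime_pow Nat.prime_two).1 (orderOf_dvd_of_pow_eq_one hg)
    exact IsPGroup.of_card (n := i) (by rw [Nat.card_zpowers, hi])
  have h := P.3 (IsPGroup.to_sup_of_normal_left' P.2 hp (zpowers_le.2 hN)) le_sup_left
  exact h ▸ mem_sup_right (mem_zpowers g)

/-- An odd power of `g` has 2-power order. -/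
theorem exists_odd_pow (g : G) : ∃ m k : ℕ, Odd m ∧ (g ^ m) ^ 2 ^ k = 1 := by
  obtain ⟨k, m, hm, he⟩ := Nat.exists_eq_two_pow_mul_odd (orderOf_pos g).ne'
  exact ⟨m, k, hm, by rw [← pow_mul, mul_comm, ← he, pow_orderOf_eq_one]⟩

/-- A non-central four Sylow subgroup, with no element fixing `a` and moving `b`, fuses all. -/
theorem fused_of_four_sylow (P : Sylow 2 G) (hns : ¬ Group.IsSolvable G) {a b : G}
    (ha : a ∈ (P : Subgroup G)) (hb : b ∈ (P : Subgroup G)) (ha1 : a ≠ 1)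
    (hP : ∀ x ∈ (P : Subgroup G), x = 1 ∨ x = a ∨ x = b ∨ x = a * b) (hab : Commute a b)
    (hswap : ∀ g ∈ normalizer ((P : Subgroup G) : Set G), Commute g a → Commute g b) :
    Fused a b ∧ Fused a (a * b) := by
  obtain ⟨n, hn, hna⟩ : ∃ n ∈ normalizer ((P : Subgroup G) : Set G), ¬ Commute n a := by
    by_contra hc
    push Not at hc
    obtain ⟨R, hR, hRo, hall⟩ := exists_compl_of_burnside P fun g hg => mem_centralizer_iff.2
      fun x hx => by
        have h1 := hc g hg
        have h2 := hswap g hg h1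
        rcases hP x hx with rfl | rfl | rfl | rfl
        exacts [(Commute.one_right g).eq.symm, h1.eq.symm, h2.eq.symm, (h1.mul_right h2).eq.symm]
    haveI := hR
    exact hns (solvable_of_odd_mem R hRo hall)
  have himg : ∀ g ∈ normalizer ((P : Subgroup G) : Set G), g * a * g⁻¹ = a ∨ g * a * g⁻¹ = b ∨
      g * a * g⁻¹ = a * b := fun g hg => by
    rcases hP _ (conj_mem hg ha) with e | e
    · exact absurd (conj_eq_one_iff.1 e) ha1
    · exact e
  set v := n * a * n⁻¹ with hv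
  have hva : v ≠ a := fun e => hna (mul_inv_eq_iff_eq_mul.1 e)
  have hv' : v = b ∨ v = a * b := (himg n hn).resolve_left hva
  have hnv : n * v * n⁻¹ ≠ v := fun e => hva (mul_left_cancel (mul_right_cancel e))
  have hn2 : n * v * n⁻¹ ≠ a := by
    intro e
    have hsq : Commute (n * n) a := mul_inv_eq_iff_eq_mul.1 (by
      rw [show n * n * a * (n * n)⁻¹ = n * (n * a * n⁻¹) * n⁻¹ by group]; exact e)
    obtain ⟨m, k, hm, hk⟩ := exists_odd_pow n
    have hmem := mem_sylow_of_normalizer P hk (pow_mem hn m)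
    have hcom : Commute (n ^ m) a := by
      rcases hP _ hmem with e' | e' | e' | e' <;> rw [e']
      exacts [Commute.one_left a, hab.symm, (Commute.refl a).mul_left hab.symm]
    obtain ⟨j, rfl⟩ := hm
    refine hna ?_
    rw [pow_succ, pow_mul, pow_two] at hcom
    have := (hsq.pow_left j).inv_left.mul_left hcom
    rwa [inv_mul_cancel_left] at this
  have hPv : n * v * n⁻¹ ∈ (P : Subgroup G) := conj_mem hn (conj_mem hn ha)
  have hnv1 : n * v * n⁻¹ ≠ 1 := fun e => ha1 (conj_eq_one_iff.1 (conj_eq_one_iff.1 e))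
  have h1 : Fused a v := ⟨n, rfl⟩
  have h2 : Fused a (n * v * n⁻¹) := h1.trans ⟨n, rfl⟩
  rcases hP _ hPv with e | e | e | e
  · exact absurd e hnv1
  · exact absurd e hn2
  · rcases hv' with h | h
    · exact absurd (e.trans h.symm) hnv
    · exact ⟨e ▸ h2, h ▸ h1⟩
  · rcases hv' with h | h
    · exact ⟨h ▸ h1, e ▸ h2⟩
    · exact absurd (e.trans h.symm) hnv

namespace IsBase

variable {t : G} {A : Subgroup G} (hA : IsBase t A)
include hA

/-- The centraliser of `t` and a second involution `u` is the four group. -/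
theorem four_cent {u : G} (hu : Inv u) (hut : Commute u t) (hne : u ≠ t) {c : G}
    (hct : Commute c t) (hcu : Commute c u) : c = 1 ∨ c = t ∨ c = u ∨ c = t * u := by
  have huA := hA.not_mem hu hne
  have key : ∀ a ∈ A, Commute a u → a = 1 ∨ a = t := fun a ha hau => by
    have h := hA.inverts hut huA ha
    rw [← hau.eq, mul_inv_cancel_right] at h
    exact or_iff_not_imp_left.2 fun h1 => hA.invol a ha (eq_inv_iff_mul_eq_one.1 h) h1
  by_cases hcA : c ∈ A
  · exact (key c hcA hcu).imp_right Or.inl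
  · have := key _ (hA.two c u hct hut hcA huA) (hcu.mul_left (Commute.refl u))
    rcases this with h | h
    · exact Or.inr (Or.inr (Or.inl (by rw [eq_inv_of_mul_eq_one_left h, hu.inv_eq])))
    · exact Or.inr (Or.inr (Or.inr (by rw [← h, mul_assoc, hu.1, mul_one])))

/-- The image of a base in the quotient by an odd normal subgroup. -/
theorem map_quot {N : Subgroup G} [N.Normal] (hN : Odd (Nat.card N)) (ht : Inv t) :
    IsBase (QuotientGroup.mk t : G ⧸ N) (A.map (QuotientGroup.mk' N)) := by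
  refine ⟨?_, ⟨t, hA.mem, rfl⟩, ?_, ?_, ?_, ?_⟩
  · rintro _ ⟨a, ha, rfl⟩; exact (hA.le a ha).map (QuotientGroup.mk' N)
  · rintro _ ⟨a, ha, rfl⟩ _ ⟨b, hb, rfl⟩; exact (hA.comm a ha b hb).map (QuotientGroup.mk' N)
  · rintro _ ⟨a, ha, rfl⟩ h1 h2
    obtain ⟨n, hn, hna⟩ := sq_lift hN (a := a) ((QuotientGroup.eq_one_iff _).1 h1)
    have := hA.invol _ (pow_mem ha _) hn (fun h => h2 (by
      show (QuotientGroup.mk a : G ⧸ N) = 1
      rw [← hna, h, QuotientGroup.mk_one]))
    show (QuotientGroup.mk a : G ⧸ N) = QuotientGroup.mk t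
    rw [← hna, this]
  · intro q hq hqA
    obtain ⟨g, rfl⟩ := QuotientGroup.mk_surjective q
    obtain ⟨c, hc, hcg⟩ := cent_lift hN ht hq
    rw [← hcg, ← QuotientGroup.mk_mul, hA.out c hc (fun h => hqA ⟨c, h, hcg⟩),
      QuotientGroup.mk_one]
  · intro p q hp hq hpA hqA
    obtain ⟨g, rfl⟩ := QuotientGroup.mk_surjective p
    obtain ⟨g', rfl⟩ := QuotientGroup.mk_surjective q
    obtain ⟨c, hc, hcg⟩ := cent_lift hN ht hp
    obtain ⟨c', hc', hcg'⟩ := cent_lift hN ht hq
    exact ⟨c * c', hA.two c c' hc hc' (fun h => hpA ⟨c, h, hcg⟩) (fun h => hqA ⟨c', h, hcg'⟩), by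
      show (QuotientGroup.mk (c * c') : G ⧸ N) = _
      rw [QuotientGroup.mk_mul, hcg, hcg']⟩

/-- In a nonsolvable group the centraliser has further involutions. -/
theorem exists_outside (ht : Inv t) (hns : ¬ Group.IsSolvable G) :
    ∃ u : G, Inv u ∧ Commute u t ∧ u ≠ t := by
  by_contra hc
  push Not at hc
  haveI : Fact (Nat.Prime 2) := ⟨Nat.prime_two⟩
  have hp : IsPGroup 2 (zpowers t) :=
    IsPGroup.of_card (n := 1) (by rw [Nat.card_zpowers, ht.orderOf, pow_one])
  obtain ⟨S, hS⟩ := hp.exists_le_sylow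
  have htS := hS (mem_zpowers t)
  haveI : Nontrivial (S : Subgroup G) := ⟨⟨⟨t, htS⟩, 1, fun h => ht.2 (congrArg Subtype.val h)⟩⟩
  haveI := S.2.center_nontrivial
  obtain ⟨j, hj⟩ := IsPGroup.iff_card.1 (S.2.to_subgroup (center (S : Subgroup G)))
  obtain ⟨c, hc2⟩ := exists_prime_orderOf_dvd_card' (G := center (S : Subgroup G)) 2 (by
    rw [hj]
    rcases j with _ | j
    · exact absurd hj (by rw [pow_zero]; exact ne_of_gt Finite.one_lt_card)
    · exact dvd_pow_self 2 j.succ_ne_zero)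
  have hcI : Inv (((c : (S : Subgroup G)) : G)) :=
    Inv.of_orderOf (by rw [Subgroup.orderOf_coe, Subgroup.orderOf_coe, hc2])
  have hall : ∀ x ∈ (S : Subgroup G), Commute x (((c : (S : Subgroup G)) : G)) := fun x hx =>
    congrArg Subtype.val (mem_center_iff.1 c.2 ⟨x, hx⟩)
  have hct := hc _ hcI (hall t htS).symm
  rw [hct] at hall
  have hSA : ∀ x ∈ (S : Subgroup G), x ∈ A := fun x hx => by
    by_contra hxA
    exact hxA (hc x ⟨hA.out x (hall x hx) hxA, fun e => hxA (e ▸ one_mem A)⟩ (hall x hx) ▸ hA.mem)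
  have hcyc : IsCyclic (S : Subgroup G) := CfsgLib.NormCyclic.isCyclic_of_two_roots (A := (S : Subgroup G))
    S.2 (fun x hx y hy => hA.comm x (hSA x hx) y (hSA y hy)) (z := t)
    fun x hx h => or_iff_not_imp_left.2 fun h1 => hA.invol x (hSA x hx) h h1
  obtain ⟨R, hR, hRo, hall'⟩ := exists_compl_of_cyclic S hcyc
  haveI := hR
  exact hns (solvable_of_odd_mem R hRo hall')

/-- An involution of `C(t)` with both non-fused relatives of `t` has a base. -/
theorem exists_base_of_four (ht : Inv t) {u : G} (hu : Inv u) (hut : Commute u t) (hne : u ≠ t)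
    (h1 : ¬ Fused t u) (h2 : ¬ Fused t (t * u)) : ∃ B : Subgroup G, IsBase u B := by
  haveI : Fact (Nat.Prime 2) := ⟨Nat.prime_two⟩
  set C := centralizer ({u} : Set G) with hC
  have memC : ∀ {x : G}, x ∈ C ↔ Commute x u := fun {x} => by
    rw [hC, mem_centralizer_singleton_iff]; rfl
  set t' : C := ⟨t, memC.2 hut.symm⟩
  set u' : C := ⟨u, memC.2 (Commute.refl u)⟩
  have ht' : Inv t' := ⟨Subtype.ext ht.1, fun h => ht.2 (congrArg Subtype.val h)⟩
  have hu' : Inv u' := ⟨Subtype.ext hu.1, fun h => hu.2 (congrArg Subtype.val h)⟩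
  let F : Four C := ⟨t', u', t' * u', ht', hu', ht'.mul hu' (Subtype.ext hut.symm)
    (fun h => hne (congrArg Subtype.val h).symm), Subtype.ext hut.symm,
    fun h => hne (congrArg Subtype.val h).symm, rfl⟩
  have htV : t' ∈ F.V := subset_closure (Or.inl rfl)
  have huV : u' ∈ F.V := subset_closure (Or.inr rfl)
  -- what normalises the four group centralises it
  have hfix : ∀ g : C, g * t' * g⁻¹ ∈ F.V → g ∈ F.V := by
    intro g hg
    have hgt : g * t' * g⁻¹ = t' := by
      rcases F.mem_V hg with e | e | e | e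
      · exact absurd (conj_eq_one_iff.1 e) ht'.2
      · exact e
      · exact absurd ⟨(g : G), congrArg Subtype.val e⟩ h1
      · exact absurd ⟨(g : G), congrArg Subtype.val e⟩ h2
    have hgt' : Commute (g : G) t := congrArg Subtype.val (mul_inv_eq_iff_eq_mul.1 hgt)
    rcases hA.four_cent hu hut hne hgt' (memC.1 g.2) with e | e | e | e
    · rw [show g = 1 from Subtype.ext e]; exact one_mem _
    · rw [show g = t' from Subtype.ext e]; exact htV
    · rw [show g = u' from Subtype.ext e]; exact huV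
    · rw [show g = t' * u' from Subtype.ext e]; exact mul_mem htV huV
  obtain ⟨W, hW⟩ := F.card_V.exists_le_sylow
  have hWV : (W : Subgroup C) = F.V := by
    by_contra hne'
    obtain ⟨N, hlt, hNW, hNn⟩ := CfsgLib.Bender.GSide.exists_between
      (lt_of_le_of_ne hW (Ne.symm hne')) W.2
    obtain ⟨g, hg, hgV⟩ := SetLike.exists_of_lt hlt
    exact hgV (hfix g (conj_mem (hNn hg) htV))
  have hVcomm : ∀ x ∈ F.V, ∀ y ∈ F.V, Commute x y := fun x hx y hy => by
    rcases F.mem_V hx with rfl | rfl | rfl | rfl <;> rcases F.mem_V hy with rfl | rfl | rfl | rfl <;>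
      first
        | exact Commute.one_left _
        | exact Commute.one_right _
        | exact Commute.refl _
        | exact F.htu
        | exact F.htu.symm
        | exact F.htw
        | exact F.htw.symm
        | exact F.huw
        | exact F.huw.symm
  obtain ⟨R, hRn, hRo, hall⟩ := exists_compl_of_burnside W fun g hg => by
    rw [hWV] at hg ⊢
    exact mem_centralizer_iff.2 fun x hx => (hVcomm x hx g (hfix g (conj_mem hg htV))).eq
  haveI := hRn
  -- the whole centraliser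
  have hsup : (W : Subgroup C) ⊔ R = ⊤ := by
    rw [← index_eq_one]
    have ho : Odd ((W : Subgroup C) ⊔ R).index := (Nat.not_even_iff_odd.1 fun h =>
      W.not_dvd_index (even_iff_two_dvd.1 h)).of_dvd_nat (index_dvd_of_le le_sup_left)
    have hp : IsPGroup 2 (C ⧸ R) := by
      intro x
      obtain ⟨g, rfl⟩ := QuotientGroup.mk_surjective x
      obtain ⟨k, m, hm, he⟩ := Nat.exists_eq_two_pow_mul_odd (orderOf_pos g).ne'
      refine ⟨k, ?_⟩
      rw [← QuotientGroup.mk_pow, QuotientGroup.eq_one_iff]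
      refine hall _ ?_
      rw [orderOf_pow, he, Nat.gcd_eq_right (dvd_mul_right _ _),
        Nat.mul_div_cancel_left _ (by positivity)]
      exact hm
    obtain ⟨k, hk⟩ := IsPGroup.iff_card.1 hp
    have hd : ((W : Subgroup C) ⊔ R).index ∣ 2 ^ k := by
      rw [← hk]; exact index_dvd_of_le le_sup_right
    exact (Nat.Coprime.pow_right k (Nat.coprime_two_right.2 ho)).eq_one_of_dvd hd
  have hdec : ∀ x : C, ∃ v ∈ F.V, ∃ r ∈ R, v * r = x := fun x =>
    (CfsgLib.Solvable.mem_sup_of_le_normalizer (le_normalizer_of_normal)).1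
      (hWV ▸ hsup ▸ mem_top x : x ∈ F.V ⊔ R)
  have hVR : ∀ x ∈ F.V, x ∈ R → x = 1 := fun x hx hxR => by
    refine eq_one_of_sq ?_ (odd_orderOf hRo hxR)
    rcases F.mem_V hx with rfl | rfl | rfl | rfl
    exacts [one_mul 1, F.ht.1, F.hu.1, F.hw.1]
  -- `t` inverts the complement
  have hinv : ∀ r ∈ R, t' * r * t' = r⁻¹ := by
    intro r hr
    obtain ⟨c, hc, i, -, hct, hit, rfl⟩ := CfsgLib.Bender.GSide.split hRo ht'.1 hr (by
      have := hRn.conj_mem r hr t'
      rwa [ht'.inv_eq] at this)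
    have hc1 : c = 1 := hVR c (hfix c (by
      rw [← hct.eq, mul_inv_cancel_right]; exact htV)) hc
    rw [hc1, one_mul, hit]
  have hRcomm : ∀ a ∈ R, ∀ b ∈ R, Commute a b := fun a ha b hb => by
    have h := hinv _ (mul_mem ha hb)
    rw [show t' * (a * b) * t' = (t' * a * t') * (t' * b * t') by
      simp only [mul_assoc, ← mul_assoc t' t', ht'.1, one_mul], hinv a ha, hinv b hb,
      ← mul_inv_rev] at h
    exact (inv_injective h).symm
  have huc : ∀ x : C, Commute x u' := fun x => Subtype.ext (memC.1 x.2).eq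
  have hzu : ∀ x : C, x ∈ zpowers u' ↔ x = 1 ∨ x = u' := fun x => by
    refine ⟨fun hx => ?_, fun h => h.elim (fun e => e ▸ one_mem _) (fun e => e ▸ mem_zpowers _)⟩
    obtain ⟨i, rfl⟩ := mem_zpowers_iff.1 hx
    rcases Int.even_or_odd i with ⟨j, rfl⟩ | ⟨j, rfl⟩
    · left; rw [← two_mul, zpow_mul, zpow_two, hu'.1, one_zpow]
    · right; rw [zpow_add, zpow_mul, zpow_two, hu'.1, one_zpow, one_mul, zpow_one]
  have memB : ∀ {x : C}, x ∈ zpowers u' ⊔ R ↔ ∃ a ∈ zpowers u', ∃ r ∈ R, a * r = x :=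
    CfsgLib.Solvable.mem_sup_of_le_normalizer (le_normalizer_of_normal)
  -- elements outside are twisted by `t` or `t * u`
  have hout : ∀ x : C, x ∉ zpowers u' ⊔ R → ∃ a ∈ zpowers u', ∃ r ∈ R, t' * (a * r) = x := by
    intro x hx
    obtain ⟨v, hv, r, hr, rfl⟩ := hdec x
    rcases F.mem_V hv with rfl | rfl | rfl | rfl
    · exact absurd (memB.2 ⟨1, one_mem _, r, hr, rfl⟩) hx
    · exact ⟨1, one_mem _, r, hr, by rw [one_mul]⟩
    · exact absurd (memB.2 ⟨u', mem_zpowers _, r, hr, rfl⟩) hx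
    · exact ⟨u', mem_zpowers _, r, hr, by rw [← mul_assoc]⟩
  have hBcomm : ∀ a ∈ zpowers u' ⊔ R, ∀ b ∈ zpowers u' ⊔ R, Commute a b := by
    intro a ha b hb
    obtain ⟨a₁, ha₁, r, hr, rfl⟩ := memB.1 ha
    obtain ⟨b₁, hb₁, s, hs, rfl⟩ := memB.1 hb
    have hz : ∀ a ∈ zpowers u', ∀ x : C, Commute a x := fun a ha x => by
      rcases (hzu a).1 ha with rfl | rfl
      exacts [Commute.one_left x, (huc x).symm]
    exact (hz a₁ ha₁ _).mul_left ((hz b₁ hb₁ r).symm.mul_right (hRcomm r hr s hs))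
  refine ⟨(zpowers u' ⊔ R).map C.subtype, ⟨?_, ⟨u', mem_sup_left (mem_zpowers _), rfl⟩, ?_, ?_, ?_, ?_⟩⟩
  · rintro _ ⟨x, -, rfl⟩; exact memC.1 x.2
  · rintro _ ⟨x, hx, rfl⟩ _ ⟨y, hy, rfl⟩; exact congrArg Subtype.val (hBcomm x hx y hy).eq
  · rintro _ ⟨x, hx, rfl⟩ hxx hx1
    obtain ⟨a, ha, r, hr, rfl⟩ := memB.1 hx
    have hxx' : (a * r) * (a * r) = 1 := Subtype.ext hxx
    have har : Commute r a := hBcomm r (mem_sup_right hr) a (mem_sup_left ha)
    rw [har.mul_mul_mul_comm] at hxx'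
    rcases (hzu a).1 ha with rfl | rfl
    · rw [one_mul, one_mul] at hxx'
      exact absurd (by rw [eq_one_of_sq hxx' (odd_orderOf hRo hr), one_mul]; rfl) hx1
    · rw [hu'.1, one_mul] at hxx'
      rw [eq_one_of_sq hxx' (odd_orderOf hRo hr), mul_one]; rfl
  · intro x hx hxB
    obtain ⟨a, ha, r, hr, he⟩ := hout ⟨x, memC.2 hx⟩ (fun h => hxB ⟨_, h, rfl⟩)
    have ha2 : a⁻¹ = a := by rcases (hzu a).1 ha with rfl | rfl; exacts [inv_one, hu'.inv_eq]
    have hta : t' * a * t' = a := by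
      rcases (hzu a).1 ha with rfl | rfl
      · rw [mul_one, ht'.1]
      · rw [(huc t').eq, mul_assoc, ht'.1, mul_one]
    have h : t' * (a * r) * (t' * (a * r)) = 1 := by
      rw [show t' * (a * r) * (t' * (a * r)) = (t' * (a * r) * t') * (a * r) by group,
        show t' * (a * r) * t' = (t' * a * t') * (t' * r * t') by
          simp only [mul_assoc, ← mul_assoc t' t', ht'.1, one_mul], hta, hinv r hr,
        (hBcomm a (mem_sup_left ha) r (mem_sup_right hr)).eq]
      rw [show a * r⁻¹ * (r * a) = a * a by group]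
      nth_rw 1 [← ha2]
      rw [inv_mul_cancel]
    exact congrArg Subtype.val (he ▸ h)
  · intro x y hx hy hxB hyB
    obtain ⟨a, ha, r, hr, hea⟩ := hout ⟨x, memC.2 hx⟩ (fun h => hxB ⟨_, h, rfl⟩)
    obtain ⟨b, hb, s, hs, heb⟩ := hout ⟨y, memC.2 hy⟩ (fun h => hyB ⟨_, h, rfl⟩)
    refine ⟨⟨x, memC.2 hx⟩ * ⟨y, memC.2 hy⟩, ?_, rfl⟩
    have htaT : t' * (a * r) * t' ∈ zpowers u' ⊔ R := by
      rw [show t' * (a * r) * t' = (t' * a * t') * (t' * r * t') by
          simp only [mul_assoc, ← mul_assoc t' t', ht'.1, one_mul], hinv r hr]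
      refine mul_mem (mem_sup_left ?_) (mem_sup_right (inv_mem hr))
      rcases (hzu a).1 ha with rfl | rfl
      · rw [mul_one, ht'.1]; exact one_mem _
      · rw [(huc t').eq, mul_assoc, ht'.1, mul_one]; exact mem_zpowers _
    show (⟨x, memC.2 hx⟩ : C) * ⟨y, memC.2 hy⟩ ∈ zpowers u' ⊔ R
    rw [← hea, ← heb, ← mul_assoc]
    exact mul_mem htaT (memB.2 ⟨b, hb, s, hs, rfl⟩)

/-- With a root at `t` every involution has a base. -/
theorem dhyp_of_root (ht : Inv t) {e : G} (he : e * e = t) : DHyp G := by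
  haveI : Fact (Nat.Prime 2) := ⟨Nat.prime_two⟩
  set C := centralizer ({t} : Set G) with hC
  have het : Commute e t := CfsgLib.NormCyclic.inj_of_mul_eq he
  have heC : e ∈ C := mem_centralizer_singleton_iff.2 het.eq
  have hep : IsPGroup 2 (zpowers (⟨e, heC⟩ : C)) := by
    have h4 : (⟨e, heC⟩ : C) ^ 2 ^ 2 = 1 := Subtype.ext (by
      show e ^ 2 ^ 2 = 1
      rw [show (2 : ℕ) ^ 2 = 2 * 2 from rfl, pow_mul, pow_two e, he, pow_two, ht.1])
    obtain ⟨i, -, hi⟩ := (Nat.dvd_prime_pow Nat.prime_two).1 (orderOf_dvd_of_pow_eq_one h4)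
    exact IsPGroup.of_card (n := i) (by rw [Nat.card_zpowers, hi])
  obtain ⟨S0, hS0⟩ := hep.exists_le_sylow
  obtain ⟨S, hS⟩ := (S0.2.map C.subtype).exists_le_sylow
  have heS0 : e ∈ (S0 : Subgroup C).map C.subtype := ⟨_, hS0 (mem_zpowers _), rfl⟩
  have htS0 : t ∈ (S0 : Subgroup C).map C.subtype := he ▸ mul_mem heS0 heS0
  have hSC : ∀ x ∈ (S : Subgroup G), Commute x t → x ∈ (S0 : Subgroup C).map C.subtype := by
    intro x hx hxt
    have h := S0.3 (Q := (S : Subgroup G).subgroupOf C) (S.2.comap_subtype) (fun y hy => hS ⟨y, hy, rfl⟩)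
    exact ⟨⟨x, mem_centralizer_singleton_iff.2 hxt.eq⟩, h ▸ hx, rfl⟩
  have hSeq : (S0 : Subgroup C).map C.subtype = S := by
    by_contra hne
    obtain ⟨N, hlt, hNS, hNn⟩ := CfsgLib.Bender.GSide.exists_between
      (lt_of_le_of_ne hS hne) S.2
    obtain ⟨n, hn, hn0⟩ := SetLike.exists_of_lt hlt
    refine hn0 (hSC n (hNS hn) ?_)
    refine mul_inv_eq_iff_eq_mul.1 ?_
    by_contra hne'
    have hcomm : Commute e (n * t * n⁻¹) := by
      obtain ⟨x, hx, hxe⟩ : n⁻¹ * e * n ∈ (S0 : Subgroup C).map C.subtype := conj_mem' (hNn hn) heS0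
      have h1 : Commute (n⁻¹ * e * n) t := hxe ▸ mem_centralizer_singleton_iff.1 x.2
      have h2 := (Commute.conj_iff n).2 h1
      rwa [show n * (n⁻¹ * e * n) * n⁻¹ = e by group] at h2
    obtain ⟨x, hx, hxe⟩ := conj_mem (hNn hn) htS0
    have hnt : Commute (n * t * n⁻¹) t := hxe ▸ mem_centralizer_singleton_iff.1 x.2
    have h3 := hA.root_conj ht he (ht.conj n) hnt hne'
    rw [hcomm.eq, mul_inv_cancel_right] at h3
    exact ht.2 (mul_eq_right.1 h3.symm)
  intro v hv
  obtain ⟨R, hR⟩ := (IsPGroup.of_card (n := 1) (by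
    rw [Nat.card_zpowers, hv.orderOf, pow_one]) : IsPGroup 2 (zpowers v)).exists_le_sylow
  obtain ⟨b, hb⟩ := MulAction.exists_smul_eq G R S
  set v' := b * v * b⁻¹ with hv'
  have hv'S : v' ∈ (S : Subgroup G) := by rw [← hb]; exact ⟨v, hR (mem_zpowers v), rfl⟩
  have hv't : Commute v' t := by
    obtain ⟨x, hx, hxe⟩ := hSeq.ge hv'S
    exact hxe ▸ mem_centralizer_singleton_iff.1 x.2
  suffices h : ∃ B, IsBase v' B by
    obtain ⟨B, hB⟩ := h
    have := hB.conj b⁻¹
    rw [show b⁻¹ * v' * b⁻¹⁻¹ = v by rw [hv']; group] at this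
    exact ⟨_, this⟩
  by_cases hf : Fused t v'
  · obtain ⟨g, hg⟩ := hf
    exact ⟨_, hg ▸ hA.conj g⟩
  have hne : v' ≠ t := fun h => hf (h ▸ Fused.refl t)
  exact hA.exists_base_of_four ht (hv.conj b) hv't hne hf fun h => hf
    (h.trans (Fused.symm ⟨e, hA.root_conj ht he (hv.conj b) hv't hne⟩))

end IsBase

end CfsgLib.DGroup
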