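import Cfsg.Agent.DGroup.PPiece

/-!
# Uniqueness of maximal invariant `p`-subgroups over a full piece
-/

set_option autoImplicit false
set_option linter.style.haveILetI false
set_option linter.unusedSectionVars false

namespace CfsgLib.DGroup

open Subgroup
open CfsgLib.NormCyclic (Inv)

universe u

variable {G : Type u} [Group G] [Finite G]

namespace Four

variable {F : Four G}

theorem stab_rot_iff {K : Subgroup G} : F.rot.Stab K ↔ F.Stab K :=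
  ⟨fun h => ⟨F.mul_uw ▸ mul_mem h.1 h.2, h.1⟩, Stab.rot⟩

theorem stab_swap_iff {K : Subgroup G} : F.swap.Stab K ↔ F.Stab K :=
  ⟨fun h => ⟨h.2, h.1⟩, Stab.swap⟩

theorem pinv_rot_iff {p : ℕ} {P : Subgroup G} : F.rot.PInv p P ↔ F.PInv p P :=
  ⟨fun h => ⟨h.1, h.2, stab_rot_iff.1 h.3⟩, fun h => ⟨h.1, h.2, stab_rot_iff.2 h.3⟩⟩

theorem pinv_swap_iff {p : ℕ} {P : Subgroup G} : F.swap.PInv p P ↔ F.PInv p P :=
  ⟨fun h => ⟨h.1, h.2, stab_swap_iff.1 h.3⟩, fun h => ⟨h.1, h.2, stab_swap_iff.2 h.3⟩⟩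

theorem maxP_rot_iff {p : ℕ} {T : Subgroup G} : F.rot.MaxP p T ↔ F.MaxP p T := by
  simp only [MaxP, pinv_rot_iff]

theorem maxP_swap_iff {p : ℕ} {T : Subgroup G} : F.swap.MaxP p T ↔ F.MaxP p T := by
  simp only [MaxP, pinv_swap_iff]

theorem stab_oddPart (hG : DHyp G) {v : G} (hv : F.Mem v) {O : Subgroup G}
    (hO : ∀ y, y ∈ O ↔ OC v y) : F.Stab O := by
  have key : ∀ s, F.Mem s → ∀ y ∈ O, s * y * s⁻¹ ∈ O := fun s hs y hy => by
    rcases F.conj_pm hG hv ((hO y).1 hy) hs with e | e <;> rw [e]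
    exacts [hy, inv_mem hy]
  have : ∀ s, F.Mem s → s ∈ Subgroup.normalizer (O : Set G) := fun s hs =>
    mem_normalizer_iff.2 fun x => ⟨key s hs x, fun h => by
      have hsI := Mem.inv F hs
      have := key s hs _ h
      rwa [show s * (s * x * s⁻¹) * s⁻¹ = s * s * x * (s * s)⁻¹ by group, hsI.1, one_mul, inv_one,
        mul_one] at this⟩
  exact ⟨this _ (Or.inl rfl), this _ (Or.inr (Or.inl rfl))⟩

end Four

namespace Ctx

variable (C : Ctx G)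
include C

theorem Qp_eq_bot_all {v w : G} (hv : Inv v) (hw : Inv w) {p : ℕ} (h : Qp v p = ⊥) : Qp w p = ⊥ :=
  card_eq_one.1 (by rw [C.hG.card_Qp_eq hv (C.one v w hv hw) p, h, Subgroup.card_bot])

/-- The configuration with two distinct pieces outside the core is impossible. -/
theorem in_out (F : Four G) {p : ℕ} [Fact p.Prime] {L : Subgroup G} (ht : F.t ∈ L)
    (hu : F.u ∈ L) (hQ : Qp F.t p ≤ coreIn L) {x y : G} (hxL : x ∈ L) (hx : x ∈ Qp F.u p)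
    (hxR : x ∉ coreIn L) (hyL : y ∈ L) (hy : y ∈ Qp F.w p) (hyR : y ∉ coreIn L) : False := by
  have hG := C.hG
  have hw : F.w ∈ L := F.mul ▸ mul_mem ht hu
  haveI := normal_oddCore L
  set FL := F.inSub L ht hu hw with hFL
  obtain ⟨hxc, hxk⟩ := (hG.mem_Qp F.hu).1 hx
  obtain ⟨hyc, hyk⟩ := (hG.mem_Qp F.hw).1 hy
  have hnorm : ∀ l ∈ L, ∀ z ∈ coreIn L, l * z * l⁻¹ ∈ coreIn L := fun l hl z hz =>
    conj_mem (normalizer_coreIn L hl) hz
  -- `t` is not conjugate to `u` or `w` in `L`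
  have hnf : ∀ {s z : G}, z ∈ L → z ∈ Qp s p → Inv s → z ∉ coreIn L →
      ∀ l ∈ L, l * F.t * l⁻¹ ≠ s := fun {s z} hzL hz _ hzR l hl e => by
    refine hzR ?_
    have : l⁻¹ * z * l ∈ Qp F.t p := by
      rw [← e, ← hG.conj_Qp F.ht p l, Subgroup.mem_map_equiv] at hz
      simpa using hz
    have := hnorm l hl _ (hQ this)
    rwa [show l * (l⁻¹ * z * l) * l⁻¹ = z by group] at this
  -- `t` is not central modulo the core
  have hnc : ¬ ∀ g : L, g * FL.t * g⁻¹ * FL.t⁻¹ ∈ Cfsg.oddCore L := fun h => hxR (by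
    have h1 : x * x ∈ coreIn L := by
      refine ⟨_, h ⟨x, hxL⟩, ?_⟩
      show x * F.t * x⁻¹ * F.t⁻¹ = x * x
      have h2 := Four.conj_eq hG F.hu F.ht F.htu F.ne hxc
      calc x * F.t * x⁻¹ * F.t⁻¹ = x * (F.t * x * F.t⁻¹)⁻¹ := by group
        _ = x * x := by rw [h2, inv_inv]
    obtain ⟨m, hm⟩ := hxc.2
    have e : x = (x * x) ^ (m + 1) := by
      rw [(Commute.refl x).mul_pow, ← pow_add, show m + 1 + (m + 1) = orderOf x + 1 by omega,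
        pow_succ, pow_orderOf_eq_one, one_mul]
    rw [e]; exact pow_mem h1 _)
  obtain ⟨r, hr, hrf, hrc, hrne⟩ := exists_fused_lift FL.ht hnc
  obtain ⟨A, hA⟩ := hG.subgroup L FL.t FL.ht
  by_cases hroot : HasRoot FL.t
  swap
  · obtain ⟨c, -, hc⟩ := hA.conj_of_no_root FL.ht hroot hr hrc hrne FL.hu FL.htu.symm FL.ne.symm
    rw [FL.mul] at hc
    rcases hc with h | h
    · obtain ⟨l, hl⟩ := hrf.trans ⟨c, h⟩
      exact hnf hxL hx F.hu hxR l l.2 (congrArg Subtype.val hl)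
    · obtain ⟨l, hl⟩ := hrf.trans ⟨c, h⟩
      exact hnf hyL hy F.hw hyR l l.2 (congrArg Subtype.val hl)
  obtain ⟨e, he⟩ := hroot
  have htr := hA.root_conj FL.ht he hr hrc hrne
  -- the second four group
  have hrI : Inv (r : G) := ⟨congrArg Subtype.val hr.1, fun h => hr.2 (Subtype.ext h)⟩
  have hrne' : F.t ≠ (r : G) := fun h => hrne (Subtype.ext h.symm)
  have htr' : Commute F.t (r : G) := (congrArg Subtype.val hrc.eq).symm
  let F' : Four G := ⟨F.t, r, F.t * r, F.ht, hrI, F.ht.mul hrI htr' hrne', htr', hrne', rfl⟩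
  set n := Nat.card (Qp F.t p) with hn
  have hfull : ∀ v, F'.Mem v → Qp v p ≤ coreIn L ∧ Nat.card (Qp v p) = n := by
    intro v hv
    obtain ⟨l, hlL, rfl⟩ : ∃ l ∈ L, l * F.t * l⁻¹ = v := by
      rcases hv with rfl | rfl | rfl
      · exact ⟨1, one_mem _, show 1 * F.t * 1⁻¹ = F.t by group⟩
      · obtain ⟨l, hl⟩ := hrf
        exact ⟨l, l.2, congrArg Subtype.val hl⟩
      · obtain ⟨l, hl⟩ := hrf.trans ⟨e, htr⟩
        exact ⟨l, l.2, congrArg Subtype.val hl⟩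
    refine ⟨?_, hG.card_Qp_eq F.ht ⟨l, rfl⟩ p⟩
    rw [← hG.conj_Qp F.ht p l]
    rintro _ ⟨z, hz, rfl⟩
    exact hnorm l hlL z (hQ hz)
  have hRs : ∀ F'' : Four G, F''.t ∈ L → F''.u ∈ L → F''.Stab (coreIn L) := fun F'' h1 h2 =>
    ⟨normalizer_coreIn L h1, normalizer_coreIn L h2⟩
  obtain ⟨P', hP'R, hP', hP's, hP'c, hP'max⟩ :=
    F'.exists_syl hG (odd_coreIn L) (hRs F' ht r.2) p
  obtain ⟨P, hPR, hP, hPs, hPc, -⟩ := F.exists_syl hG (odd_coreIn L) (hRs F ht hu) p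
  have hP'o := (odd_coreIn L).of_dvd_nat (card_dvd_of_le hP'R)
  have hPo := (odd_coreIn L).of_dvd_nat (card_dvd_of_le hPR)
  have hge : ∀ v, F'.Mem v → n ≤ Nat.card (piece P' v) := by
    intro v hv
    obtain ⟨h1, h2⟩ := hfull v hv
    rw [← h2]
    refine Subgroup.card_le_of_le fun z hz => mem_piece.2 ⟨hP'max _ h1
      (hG.isPGroup_Qp (Four.Mem.inv F' hv) p) (F'.stab_Qp hG hv p) hz, ?_⟩
    exact ((hG.mem_Qp (Four.Mem.inv F' hv)).1 hz).1.1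
  have hle : ∀ v : G, Inv v → Nat.card (piece P v) ≤ n := fun v hv => by
    rw [hn, ← hG.card_Qp_eq F.ht (C.one _ _ F.ht hv) p]
    exact Subgroup.card_le_of_le (Four.piece_le_Qp hP hPo v)
  have h1 := (F'.card_ge hG hP'o)
  have h2 := F.card_le hP hPo hPs
  rw [hP'c, ← hPc] at h1
  have hn0 : 0 < n := Nat.card_pos
  have h3 : n * n * n ≤ Nat.card (piece P' F'.t) * Nat.card (piece P' F'.u) *
      Nat.card (piece P' F'.w) :=
    Nat.mul_le_mul (Nat.mul_le_mul (hge _ (Or.inl rfl)) (hge _ (Or.inr (Or.inl rfl))))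
      (hge _ (Or.inr (Or.inr rfl)))
  have h4 : Nat.card (piece P F.t) * Nat.card (piece P F.u) * Nat.card (piece P F.w) ≤
      n * Nat.card (piece P F.u) * n :=
    Nat.mul_le_mul (Nat.mul_le_mul_right _ (hle _ F.ht)) (hle _ F.hw)
  have h5 : n ≤ Nat.card (piece P F.u) := by
    have := (h3.trans h1).trans (h2.trans h4)
    exact Nat.le_of_mul_le_mul_left (Nat.le_of_mul_le_mul_right this hn0) hn0
  have heq := CfsgLib.Solvable.eq_of_le_of_card_le (Four.piece_le_Qp hP hPo F.u)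
    (by rw [hG.card_Qp_eq F.ht (C.one _ _ F.ht F.hu) p]; exact h5)
  exact hxR (hPR (mem_piece.1 (heq.symm ▸ hx : x ∈ piece P F.u)).1)

/-- Maximal invariant `p`-subgroups containing the full piece at `t` coincide. -/
theorem trans_t (F : Four G) {p : ℕ} [Fact p.Prime] {T₁ T₂ : Subgroup G} (h₁ : F.MaxP p T₁)
    (h₂ : F.MaxP p T₂) (hq₁ : Qp F.t p ≤ T₁) (hq₂ : Qp F.t p ≤ T₂) : T₁ = T₂ := by
  have hG := C.hG
  by_cases hQ0 : Qp F.t p = ⊥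
  · have hbot : ∀ T, F.MaxP p T → T = ⊥ := fun T hT => by
      refine le_bot_iff.1 (F.le_of_pieces_p hT.1.isp hT.1.odd hT.1.stab ?_ ?_ ?_)
      · exact hQ0 ▸ Four.piece_le_Qp hT.1.isp hT.1.odd _
      · exact (C.Qp_eq_bot_all F.ht F.hu hQ0) ▸ Four.piece_le_Qp hT.1.isp hT.1.odd _
      · exact (C.Qp_eq_bot_all F.ht F.hw hQ0) ▸ Four.piece_le_Qp hT.1.isp hT.1.odd _
    rw [hbot T₁ h₁, hbot T₂ h₂]
  suffices H : ∀ n : ℕ, ∀ T₁ T₂ : Subgroup G, F.MaxP p T₁ → F.MaxP p T₂ → Qp F.t p ≤ T₁ →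
      Qp F.t p ≤ T₂ → Nat.card G - Nat.card ↥(T₁ ⊓ T₂) = n → T₁ = T₂ from
    H _ T₁ T₂ h₁ h₂ hq₁ hq₂ rfl
  clear h₁ h₂ hq₁ hq₂ T₁ T₂
  intro n
  induction n using Nat.strong_induction_on with | _ n ih => ?_
  intro T₁ T₂ h₁ h₂ hq₁ hq₂ hn
  by_contra hne
  set D := T₁ ⊓ T₂ with hD
  have hDo : Odd (Nat.card D) := h₁.1.odd.of_dvd_nat (card_dvd_of_le inf_le_left)
  have hQD : Qp F.t p ≤ D := le_inf hq₁ hq₂
  have hD1 : D ≠ ⊥ := fun h => hQ0 (le_bot_iff.1 (h ▸ hQD))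
  have hlt₁ : D < T₁ := lt_of_le_of_ne inf_le_left fun h => hne
    (le_antisymm (h ▸ inf_le_right) (h₁.2 T₂ h₂.1 (h ▸ inf_le_right)))
  have hlt₂ : D < T₂ := lt_of_le_of_ne inf_le_right fun h => hne
    (le_antisymm (h₂.2 T₁ h₁.1 (h ▸ inf_le_left)) (h ▸ inf_le_left))
  have hDs : F.Stab D := h₁.1.stab.inf h₂.1.stab
  set L := normalizer (D : Set G) with hL
  have hLtop : L ≠ ⊤ := C.normalizer_ne_top hDo hD1
  set R := coreIn L with hR
  have hDR : D ≤ R := le_coreIn le_normalizer le_rfl hDo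
  obtain ⟨Ou, hOu, hOum⟩ := hG.exists_oddPart F.hu
  obtain ⟨Ow, hOw, hOwm⟩ := hG.exists_oddPart F.hw
  -- facts about the two normalisers
  have hfacts : ∀ T, F.MaxP p T → Qp F.t p ≤ T → D < T → D ≤ T →
      D < T ⊓ L ∧ F.PInv p (T ⊓ L) ∧ (T ⊓ L ≤ R ⊔ (L ⊓ Ou) ∨ T ⊓ L ≤ R ⊔ (L ⊓ Ow)) ∧
      (¬ T ⊓ L ≤ R ⊔ (L ⊓ Ou) → ∃ y ∈ T ⊓ L, y ∈ Qp F.w p ∧ y ∉ R) ∧
      (¬ T ⊓ L ≤ R ⊔ (L ⊓ Ow) → ∃ y ∈ T ⊓ L, y ∈ Qp F.u p ∧ y ∉ R) := by
    intro T hT hq hlt hle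
    obtain ⟨N, hDN, hNT, hNn⟩ := CfsgLib.Bender.GSide.exists_between hlt hT.1.isp
    have hP : F.PInv p (T ⊓ L) := ⟨hT.1.isp.to_le inf_le_left,
      hT.1.odd.of_dvd_nat (card_dvd_of_le inf_le_left), hT.1.stab.inf hDs.normalizer⟩
    obtain ⟨v, hv, hvle, hoth⟩ := C.exists_piece_mod F hLtop hDs.1 hDs.2 inf_le_right hP.odd hP.stab
    have hbase : piece (T ⊓ L) F.t ≤ R :=
      (Four.piece_le_Qp hP.isp hP.odd F.t).trans (hQD.trans hDR)
    have hpu : piece (T ⊓ L) F.u ≤ R ⊔ (L ⊓ Ou) := fun z hz => mem_sup_right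
      ⟨(mem_piece.1 hz).1.2, (hOum z).2 ⟨(mem_piece.1 hz).2, odd_orderOf hP.odd (mem_piece.1 hz).1⟩⟩
    have hpw : piece (T ⊓ L) F.w ≤ R ⊔ (L ⊓ Ow) := fun z hz => mem_sup_right
      ⟨(mem_piece.1 hz).1.2, (hOwm z).2 ⟨(mem_piece.1 hz).2, odd_orderOf hP.odd (mem_piece.1 hz).1⟩⟩
    refine ⟨lt_of_lt_of_le hDN (le_inf hNT hNn), hP, ?_, ?_, ?_⟩
    · rcases hv with rfl | rfl | rfl
      · exact Or.inl (hvle.trans (sup_le le_sup_left (hbase.trans le_sup_left)))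
      · exact Or.inl (hvle.trans (sup_le le_sup_left hpu))
      · exact Or.inr (hvle.trans (sup_le le_sup_left hpw))
    · intro hnot
      by_contra hc
      push Not at hc
      exact hnot (F.le_of_pieces hG hP.odd hP.stab (hbase.trans le_sup_left) hpu
        (fun z hz => mem_sup_left (hc z (mem_piece.1 hz).1 (Four.piece_le_Qp hP.isp hP.odd _ hz))))
    · intro hnot
      by_contra hc
      push Not at hc
      exact hnot (F.le_of_pieces hG hP.odd hP.stab (hbase.trans le_sup_left)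
        (fun z hz => mem_sup_left (hc z (mem_piece.1 hz).1 (Four.piece_le_Qp hP.isp hP.odd _ hz))) hpw)
  obtain ⟨a₁, b₁, c₁, d₁, e₁⟩ := hfacts T₁ h₁ hq₁ hlt₁ inf_le_left
  obtain ⟨a₂, b₂, c₂, d₂, e₂⟩ := hfacts T₂ h₂ hq₂ hlt₂ inf_le_right
  -- both in a common subgroup of odd order
  have hjoin : ∀ O : Subgroup G, Odd (Nat.card O) → F.Stab O → T₁ ⊓ L ≤ R ⊔ (L ⊓ O) →
      T₂ ⊓ L ≤ R ⊔ (L ⊓ O) → False := by
    intro O hO hOs k₁ k₂
    have hKo : Odd (Nat.card ↥(R ⊔ (L ⊓ O))) := by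
      have hd := CfsgLib.Solvable.card_sup_dvd (A := L ⊓ O) (K := R)
        (inf_le_left.trans (normalizer_coreIn L))
      rw [sup_comm]
      exact ((hO.of_dvd_nat (card_dvd_of_le inf_le_right)).mul (odd_coreIn L)).of_dvd_nat hd
    have hKs : F.Stab (R ⊔ (L ⊓ O)) := by
      have hLO := hDs.normalizer.inf hOs
      have : ∀ g, g ∈ Subgroup.normalizer (R : Set G) →
          g ∈ Subgroup.normalizer ((L ⊓ O : Subgroup G) : Set G) →
          g ∈ Subgroup.normalizer ((R ⊔ (L ⊓ O) : Subgroup G) : Set G) := fun g h1 h2 => by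
        rw [← CfsgLib.SZ.conj_smul_eq_iff_mem_normalizer] at h1 h2 ⊢
        rw [Subgroup.smul_sup, h1, h2]
      exact ⟨this _ (normalizer_coreIn L hDs.1) hLO.1, this _ (normalizer_coreIn L hDs.2) hLO.2⟩
    obtain ⟨P, hPK, hP, hPs, -, hPmax⟩ := F.exists_syl hG hKo hKs p
    have k₁' := hPmax _ k₁ b₁.isp b₁.stab
    have k₂' := hPmax _ k₂ b₂.isp b₂.stab
    obtain ⟨T₃, hPT, hT₃⟩ := F.exists_maxP ⟨hP, hKo.of_dvd_nat (card_dvd_of_le hPK), hPs⟩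
    have hq₃ : Qp F.t p ≤ T₃ :=
      (le_inf (hQD.trans inf_le_left) (hQD.trans le_normalizer)).trans (k₁'.trans hPT)
    have step : ∀ T, F.MaxP p T → Qp F.t p ≤ T → T ⊓ L ≤ T₃ → D < T ⊓ L → T = T₃ := by
      intro T hT hq hle hlt
      refine ih _ ?_ T T₃ hT hT₃ hq hq₃ rfl
      rw [← hn]
      have h1 := CfsgLib.Solvable.card_lt_of_lt (lt_of_lt_of_le hlt (le_inf inf_le_left hle))
      have h2 := Subgroup.card_le_card_group (H := T ⊓ T₃)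
      omega
    exact hne ((step T₁ h₁ hq₁ (k₁'.trans hPT) a₁).trans (step T₂ h₂ hq₂ (k₂'.trans hPT) a₂).symm)
  by_cases hu₁ : T₁ ⊓ L ≤ R ⊔ (L ⊓ Ou) <;> by_cases hu₂ : T₂ ⊓ L ≤ R ⊔ (L ⊓ Ou)
  · exact hjoin Ou hOu (Four.stab_oddPart hG (Or.inr (Or.inl rfl)) hOum) hu₁ hu₂
  · by_cases hw₁ : T₁ ⊓ L ≤ R ⊔ (L ⊓ Ow)
    · exact hjoin Ow hOw (Four.stab_oddPart hG (Or.inr (Or.inr rfl)) hOwm) hw₁ (c₂.resolve_left hu₂)
    · obtain ⟨y, hy, hyw, hyR⟩ := d₂ hu₂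
      obtain ⟨x, hx, hxu, hxR⟩ := e₁ hw₁
      exact C.in_out F hDs.1 hDs.2 (hQD.trans hDR) hx.2 hxu hxR hy.2 hyw hyR
  · by_cases hw₂ : T₂ ⊓ L ≤ R ⊔ (L ⊓ Ow)
    · exact hjoin Ow hOw (Four.stab_oddPart hG (Or.inr (Or.inr rfl)) hOwm) (c₁.resolve_left hu₁) hw₂
    · obtain ⟨y, hy, hyw, hyR⟩ := d₁ hu₁
      obtain ⟨x, hx, hxu, hxR⟩ := e₂ hw₂
      exact C.in_out F hDs.1 hDs.2 (hQD.trans hDR) hx.2 hxu hxR hy.2 hyw hyR
  · exact hjoin Ow hOw (Four.stab_oddPart hG (Or.inr (Or.inr rfl)) hOwm) (c₁.resolve_left hu₁)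
      (c₂.resolve_left hu₂)

end Ctx

end CfsgLib.DGroup
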